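import Groth.Agent.Lib.SiteDer.Push

/-! # Triangulated functors preserving products preserve derived limits -/

universe v v' u u'

open CategoryTheory Limits Pretriangulated

namespace GrothLib.SiteDer

section General

variable {T : Type u} [Category.{v} T] {T' : Type u'} [Category.{v'} T']

lemma isIso_piComparison_of_iso {F G : T ⥤ T'} (e : F ≅ G) {ι : Type*} (E : ι → T) [HasProduct E]
    [HasProduct fun i => F.obj (E i)] [HasProduct fun i => G.obj (E i)]
    (h : IsIso (piComparison G E)) : IsIso (piComparison F E) := by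
  let i : (∏ᶜ fun j => F.obj (E j)) ≅ ∏ᶜ fun j => G.obj (E j) :=
    HasLimit.isoOfNatIso (Discrete.natIso fun j => e.app (E j.as))
  have he : piComparison F E ≫ i.hom = e.hom.app (∏ᶜ E) ≫ piComparison G E := by
    apply Pi.hom_ext
    intro j
    have hi : i.hom ≫ Pi.π (fun j => G.obj (E j)) j = Pi.π (fun j => F.obj (E j)) j ≫ e.hom.app (E j) :=
      HasLimit.isoOfNatIso_hom_π _ _
    rw [Category.assoc, hi, piComparison_comp_π_assoc, Category.assoc, piComparison_comp_π,
      e.hom.naturality]
  have : IsIso (piComparison F E ≫ i.hom) := by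
    rw [he]; infer_instance
  exact IsIso.of_isIso_comp_right _ i.hom

variable [Preadditive T] [HasZeroObject T] [HasShift T ℤ] [∀ n : ℤ, (shiftFunctor T n).Additive]
  [Pretriangulated T]
  [Preadditive T'] [HasZeroObject T'] [HasShift T' ℤ] [∀ n : ℤ, (shiftFunctor T' n).Additive]
  [Pretriangulated T'] (F : T ⥤ T') [F.CommShift ℤ] [F.IsTriangulated]

theorem isRlimVia_map {E : ℕ → T} {t : ∀ n, E (n + 1) ⟶ E n} [HasProduct E] {L : T}
    {a : ∀ n, L ⟶ E n} (hL : CohCx.IsRlimVia E t L a) [HasProduct fun n => F.obj (E n)]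
    (h : IsIso (piComparison F E)) :
    CohCx.IsRlimVia (fun n => F.obj (E n)) (fun n => F.map (t n)) (F.obj L) (fun n => F.map (a n)) := by
  obtain ⟨c, hc⟩ := hL
  refine ⟨inv (piComparison F E) ≫ F.map c ≫ (F.commShiftIso (1 : ℤ)).hom.app L,
    isomorphic_distinguished _ (F.map_distinguished _ hc) _
      (Triangle.isoMk _ _ (Iso.refl _) (asIso (piComparison F E)).symm (asIso (piComparison F E)).symm
        ?_ ?_ ?_)⟩
  · change Pi.lift (fun n => F.map (a n)) ≫ inv (piComparison F E) = 𝟙 _ ≫ F.map (Pi.lift a)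
    rw [Category.id_comp, IsIso.comp_inv_eq]
    ext n
    simp [← Functor.map_comp]
  · change (Pi.lift fun n => Pi.π (fun n => F.obj (E n)) n -
        Pi.π (fun n => F.obj (E n)) (n + 1) ≫ F.map (t n)) ≫ inv (piComparison F E) =
      inv (piComparison F E) ≫ F.map (Pi.lift fun n => Pi.π E n - Pi.π E (n + 1) ≫ t n)
    rw [IsIso.comp_inv_eq, Category.assoc, IsIso.eq_inv_comp]
    ext n
    simp [Preadditive.comp_sub, ← Functor.map_comp, piComparison_comp_π_assoc]
  · change (inv (piComparison F E) ≫ F.map c ≫ (F.commShiftIso (1 : ℤ)).hom.app L) ≫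
        (𝟙 (F.obj L))⟦(1 : ℤ)⟧' =
      inv (piComparison F E) ≫ F.map c ≫ (F.commShiftIso (1 : ℤ)).hom.app L
    rw [CategoryTheory.Functor.map_id]
    exact Category.comp_id _

end General

section Res

variable {A : Type u} [Category.{v} A] [Abelian A] [IsGrothendieckAbelian.{v} A]
  [HasDerivedCategory A] {B : Type u'} [Category.{v'} B] [Abelian B] [HasDerivedCategory B]

theorem isTriangulated_res_map (G : A ⥤ B) [G.Additive] :
    (KInj.res A ⋙ G.mapHomotopyCategory (ComplexShape.up ℤ) ⋙ DerivedCategory.Qh).IsTriangulated :=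
  inferInstance

end Res

section Site

attribute [local instance] HasDerivedCategory.standard

variable {C : Type u} [SmallCategory C] {J : GrothendieckTopology C}
  {O_C : Sheaf J CommRingCat.{u}} {D : Type u} [SmallCategory D] {K : GrothendieckTopology D}
  {O_D : Sheaf K CommRingCat.{u}} (f : ModSite.RMor O_C O_D) [SiteCmp.HasRpushD f]

/-- `Rf_*` is computed by K-injective resolutions. -/
noncomputable def rpushDIso : SiteCmp.RpushD f ≅ Rres f :=
  KInj.totalRightDerivedIso (SiteCmp.pushKh f)

theorem isRlimVia_RpushD {E : ℕ → DerivedCategory (ModSite.Mod O_C)} {t : ∀ n, E (n + 1) ⟶ E n}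
    [HasProduct E] {L : DerivedCategory (ModSite.Mod O_C)} {a : ∀ n, L ⟶ E n}
    (hL : CohCx.IsRlimVia E t L a) [HasProduct fun n => (SiteCmp.RpushD f).obj (E n)] :
    CohCx.IsRlimVia (fun n => (SiteCmp.RpushD f).obj (E n)) (fun n => (SiteCmp.RpushD f).map (t n))
      ((SiteCmp.RpushD f).obj L) (fun n => (SiteCmp.RpushD f).map (a n)) := by
  let e := rpushDIso f
  haveI : (Rres f).IsTriangulated := isTriangulated_res_map f.push
  letI := Functor.CommShift.ofIso e.symm ℤ
  haveI := Functor.CommShift.ofIso_compatibility e.symm ℤ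
  haveI := Functor.isTriangulated_of_iso e.symm
  have : HasProduct fun n => (Rres f).obj (E n) :=
    hasLimit_of_iso (F := Discrete.functor fun n => (SiteCmp.RpushD f).obj (E n))
      (G := Discrete.functor fun n => (Rres f).obj (E n)) (Discrete.natIso fun n => e.app (E n.as))
  exact isRlimVia_map (SiteCmp.RpushD f) hL
    (isIso_piComparison_of_iso e E (isIso_piComparison_Rres f E))

end Site

end GrothLib.SiteDer
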