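import Groth.Agent.Lib.SiteDer.LocGen
import Mathlib.Algebra.Homology.HomotopyCategory.Triangulated

/-! # Maps of complexes bijective on maps from generators -/

universe w v u vC uC

open CategoryTheory Limits DerivedCategory

namespace GrothLib.SiteDer

variable {C : Type uC} [Category.{vC} C] {J : GrothendieckTopology C}
  {A : Type u} [Category.{v} A] [Abelian A] [HasDerivedCategory.{w} A] {G : C ⥤ A}

/-- A complex without homotopy classes of maps from generators is acyclic. -/
theorem IsLocGen.subcategoryAcyclic_of_forall (hG : IsLocGen J G)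
    (W : HomotopyCategory A (ComplexShape.up ℤ))
    (h : ∀ U k, ∀ φ : ((HomotopyCategory.singleFunctors A).functor k).obj (G.obj U) ⟶ W, φ = 0) :
    HomotopyCategory.subcategoryAcyclic A W := by
  obtain ⟨K, rfl⟩ := HomotopyCategory.quotient_obj_surjective W
  rw [HomotopyCategory.quotient_obj_mem_subcategoryAcyclic_iff_exactAt]
  intro k
  rw [HomologicalComplex.exactAt_iff_isZero_homology]
  refine hG.isZero fun U g => hG.sep g ((hG.lift (K.homologyπ k) g).mono fun V f ⟨z, hz⟩ => ?_)
  let ψ : (HomologicalComplex.single A (ComplexShape.up ℤ) k).obj (G.obj V) ⟶ K :=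
    HomologicalComplex.mkHomFromSingle (z ≫ K.iCycles k) (fun i _ => by simp)
  have hψ : (HomotopyCategory.quotient A _).map ψ = (HomotopyCategory.quotient A _).map 0 := by
    rw [Functor.map_zero]; exact h V k _
  have h0 : Q.map ψ = 0 :=
    (DerivedCategory.Q_map_eq_of_homotopy _ (HomotopyCategory.homotopyOfEq _ _ hψ)).trans
      (Functor.map_zero _ _ _)
  have hθ := theta_ofChain ψ z (by simp [ψ])
  rw [show ofChain ψ = 0 from h0, theta_zero] at hθ
  let u : K.homology k ⟶ (DerivedCategory.homologyFunctor A k).obj (Q.obj K) :=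
    (homologyFunctorFactors A k).inv.app K
  have : IsIso u := inferInstanceAs (IsIso ((homologyFunctorFactors A k).app K).inv)
  rw [← hz]
  exact Limits.zero_of_comp_mono u ((Category.assoc _ _ _).trans hθ.symm)

variable (F : A) {Y Y' : HomotopyCategory A (ComplexShape.up ℤ)} (η : Y ⟶ Y')

omit [HasDerivedCategory.{w} A] in
/-- The cone of a map which is bijective on maps from `F` placed in any degree has no such maps. -/
theorem eq_zero_cone_of_bijective {W : HomotopyCategory A (ComplexShape.up ℤ)} {g : Y' ⟶ W}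
    {c : W ⟶ Y⟦(1 : ℤ)⟧} (hT : Pretriangulated.Triangle.mk η g c ∈ Pretriangulated.distinguishedTriangles)
    (h : ∀ k, Function.Bijective (fun φ : ((HomotopyCategory.singleFunctors A).functor k).obj F ⟶ Y => φ ≫ η))
    (k : ℤ) (φ : ((HomotopyCategory.singleFunctors A).functor k).obj F ⟶ W) : φ = 0 := by
  let e := ((HomotopyCategory.singleFunctors A).shiftIso 1 k (k + 1) (by omega)).app F
  have h1 : φ ≫ c = 0 := by
    obtain ⟨x, hx⟩ := (shiftFunctor (HomotopyCategory A (ComplexShape.up ℤ)) (1 : ℤ)).map_surjective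
      (e.hom ≫ φ ≫ c)
    have hc : c ≫ η⟦(1 : ℤ)⟧' = 0 := Pretriangulated.comp_distTriang_mor_zero₃₁ _ hT
    have : x ≫ η = 0 := (shiftFunctor (HomotopyCategory A (ComplexShape.up ℤ)) (1 : ℤ)).map_injective (by
      rw [Functor.map_comp, hx, Functor.map_zero, Category.assoc, Category.assoc, hc, comp_zero,
        comp_zero])
    have hx0 : x = 0 := (h (k + 1)).1 (this.trans zero_comp.symm)
    rw [← cancel_epi e.hom, ← hx, hx0, Functor.map_zero, comp_zero]
  obtain ⟨y, hy⟩ := Pretriangulated.Triangle.coyoneda_exact₃ _ hT φ h1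
  change ((HomotopyCategory.singleFunctors A).functor k).obj F ⟶ Y' at y
  obtain ⟨z, hz⟩ := (h k).2 y
  change φ = y ≫ g at hy
  have hg : η ≫ g = 0 := Pretriangulated.comp_distTriang_mor_zero₁₂ _ hT
  rw [hy, ← hz]
  exact (Category.assoc _ _ _).trans (by rw [hg, comp_zero])

/-- A map bijective on maps from all generators is inverted in the derived category. -/
theorem IsLocGen.isIso_Qh_map (hG : IsLocGen J G)
    (h : ∀ U k, Function.Bijective
      (fun φ : ((HomotopyCategory.singleFunctors A).functor k).obj (G.obj U) ⟶ Y => φ ≫ η)) :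
    IsIso (Qh.map η) := by
  obtain ⟨W, g, c, hT⟩ := Pretriangulated.distinguished_cocone_triangle η
  exact Localization.inverts (DerivedCategory.Qh (C := A)) (HomotopyCategory.subcategoryAcyclic A).trW _
    (ObjectProperty.trW.mk _ hT (hG.subcategoryAcyclic_of_forall W fun U k =>
      eq_zero_cone_of_bijective (G.obj U) η hT (h U) k))

variable {η} (S : HomotopyCategory A (ComplexShape.up ℤ))

/-- Maps from `S` localise bijectively at the source of an inverted map when they do at the target. -/
theorem bijective_Qh_of_comp [IsIso (Qh.map η)]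
    (h : Function.Bijective (fun φ : S ⟶ Y => φ ≫ η))
    (h' : Function.Bijective (Qh.map : (S ⟶ Y') → (Qh.obj S ⟶ Qh.obj Y'))) :
    Function.Bijective (Qh.map : (S ⟶ Y) → (Qh.obj S ⟶ Qh.obj Y)) := by
  have e : ∀ φ : S ⟶ Y, Qh.map φ = Qh.map (φ ≫ η) ≫ inv (Qh.map η) := fun φ => by simp
  constructor
  · intro φ ψ hφψ
    apply h.1
    apply h'.1
    change Qh.map (φ ≫ η) = Qh.map (ψ ≫ η)
    rw [Functor.map_comp, Functor.map_comp, hφψ]
  · intro x
    obtain ⟨y, hy⟩ := h'.2 (x ≫ Qh.map η)
    obtain ⟨φ, rfl⟩ := h.2 y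
    exact ⟨φ, by rw [e φ, hy]; simp⟩

/-- Conversely. -/
theorem bijective_comp_of_Qh [IsIso (Qh.map η)]
    (h : Function.Bijective (Qh.map : (S ⟶ Y) → (Qh.obj S ⟶ Qh.obj Y)))
    (h' : Function.Bijective (Qh.map : (S ⟶ Y') → (Qh.obj S ⟶ Qh.obj Y'))) :
    Function.Bijective (fun φ : S ⟶ Y => φ ≫ η) := by
  constructor
  · intro φ ψ hφψ
    apply h.1
    have := congrArg Qh.map hφψ
    simpa [cancel_mono] using this
  · intro y
    obtain ⟨φ, hφ⟩ := h.2 (Qh.map y ≫ inv (Qh.map η))
    exact ⟨φ, h'.1 (by simp [hφ])⟩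

end GrothLib.SiteDer
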