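import Mathlib.CategoryTheory.Sites.Pullback
import Mathlib.CategoryTheory.Sites.Limits
import Mathlib.Algebra.Category.Grp.Abelian
import Mathlib.Algebra.Category.Grp.Colimits
import Mathlib.Algebra.Category.Grp.FilteredColimits
import Mathlib.CategoryTheory.Sites.LocallyInjective
import Mathlib.CategoryTheory.Sites.Abelian
import Mathlib.Algebra.Homology.ShortComplex.ExactFunctor
import Mathlib.CategoryTheory.Limits.Types.Products
import Mathlib.CategoryTheory.Adjunction.Additive
import Mathlib.Algebra.Category.Grp.AB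
import Mathlib.CategoryTheory.Abelian.GrothendieckAxioms.Sheaf

/-! # Inverse image of abelian sheaves is exact when the one of sheaves of sets is -/

universe u

open CategoryTheory CategoryTheory.Limits Opposite

namespace GrothLib.SiteDer

variable {C : Type u} [SmallCategory C] {J : GrothendieckTopology C}

/-- The underlying sheaf of sets. -/
noncomputable abbrev uSh (J : GrothendieckTopology C) :
    Sheaf J AddCommGrpCat.{u} ⥤ Sheaf J (Type u) :=
  sheafCompose J (CategoryTheory.forget AddCommGrpCat.{u})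

/-- Pointwise sum of maps of sheaves of sets into an abelian sheaf. -/
noncomputable def addHom {S : Sheaf J (Type u)} {B : Sheaf J AddCommGrpCat.{u}}
    (f g : S ⟶ (uSh J).obj B) : S ⟶ (uSh J).obj B :=
  ⟨{ app := fun U => ↾fun x =>
       (show B.obj.obj U from f.hom.app U x) + (show B.obj.obj U from g.hom.app U x)
     naturality := fun U V i => by
       ext x
       exact (congrArg₂ (fun a b : B.obj.obj V => a + b) (ConcreteCategory.congr_hom (f.hom.naturality i) x)
         (ConcreteCategory.congr_hom (g.hom.naturality i) x)).trans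
           ((B.obj.map i).hom.map_add _ _).symm }⟩

/-- The zero map into an abelian sheaf. -/
noncomputable def zeroHom (S : Sheaf J (Type u)) (B : Sheaf J AddCommGrpCat.{u}) :
    S ⟶ (uSh J).obj B :=
  ⟨{ app := fun U => ↾fun _ => (0 : B.obj.obj U)
     naturality := fun U V i => by ext x; exact (B.obj.map i).hom.map_zero.symm }⟩

/-- Pointwise negative. -/
noncomputable def negHom {S : Sheaf J (Type u)} {B : Sheaf J AddCommGrpCat.{u}}
    (f : S ⟶ (uSh J).obj B) : S ⟶ (uSh J).obj B :=
  ⟨{ app := fun U => ↾fun x => -(show B.obj.obj U from f.hom.app U x)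
     naturality := fun U V i => by
       ext x
       exact (congrArg (fun a : B.obj.obj V => -a) (ConcreteCategory.congr_hom (f.hom.naturality i) x)).trans
         ((B.obj.map i).hom.map_neg _).symm }⟩

lemma shHom_ext {S T : Sheaf J (Type u)} {f g : S ⟶ T}
    (h : ∀ U x, f.hom.app U x = g.hom.app U x) : f = g := by
  apply ObjectProperty.hom_ext
  ext U x
  exact h U x

lemma comp_addHom {S S' : Sheaf J (Type u)} {B : Sheaf J AddCommGrpCat.{u}} (w : S' ⟶ S)
    (f g : S ⟶ (uSh J).obj B) : w ≫ addHom f g = addHom (w ≫ f) (w ≫ g) :=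
  shHom_ext fun _ _ => rfl

section

variable {D : Type u} [SmallCategory D] {K : GrothendieckTopology D}
  (L : Sheaf K (Type u) ⥤ Sheaf J (Type u)) [PreservesFiniteLimits L]
  (A : Sheaf K AddCommGrpCat.{u}) (U : Cᵒᵖ)

/-- Sections of `L |A|`. -/
abbrev Sec : Type u := (L.obj ((uSh K).obj A)).obj.obj U

lemma sec_prod (X Y : Sheaf K (Type u)) :
    Nonempty (IsLimit (BinaryFan.mk (P := (L.obj (X ⨯ Y)).obj.obj U)
      ((L.map (prod.fst : X ⨯ Y ⟶ X)).hom.app U) ((L.map (prod.snd : X ⨯ Y ⟶ Y)).hom.app U))) :=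
  ⟨mapIsLimitOfPreservesOfIsLimit (L ⋙ sheafToPresheaf J (Type u) ⋙ (evaluation _ _).obj U) _ _
    (prodIsProd X Y)⟩

/-- The element of `L (X ⨯ Y)` with given components. -/
noncomputable def secPair {X Y : Sheaf K (Type u)} (a : (L.obj X).obj.obj U)
    (b : (L.obj Y).obj.obj U) : (L.obj (X ⨯ Y)).obj.obj U :=
  (sec_prod L U X Y).some.lift (BinaryFan.mk (↾fun _ : PUnit.{u + 1} => a) (↾fun _ => b)) PUnit.unit

lemma secPair_fst {X Y : Sheaf K (Type u)} (a : (L.obj X).obj.obj U) (b : (L.obj Y).obj.obj U) :
    (L.map (prod.fst : X ⨯ Y ⟶ X)).hom.app U (secPair L U a b) = a :=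
  ConcreteCategory.congr_hom ((sec_prod L U X Y).some.fac
    (BinaryFan.mk (↾fun _ : PUnit.{u + 1} => a) (↾fun _ => b)) ⟨WalkingPair.left⟩) PUnit.unit

lemma secPair_snd {X Y : Sheaf K (Type u)} (a : (L.obj X).obj.obj U) (b : (L.obj Y).obj.obj U) :
    (L.map (prod.snd : X ⨯ Y ⟶ Y)).hom.app U (secPair L U a b) = b :=
  ConcreteCategory.congr_hom ((sec_prod L U X Y).some.fac
    (BinaryFan.mk (↾fun _ : PUnit.{u + 1} => a) (↾fun _ => b)) ⟨WalkingPair.right⟩) PUnit.unit

lemma secPair_ext {X Y : Sheaf K (Type u)} {w w' : (L.obj (X ⨯ Y)).obj.obj U}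
    (h1 : (L.map (prod.fst : X ⨯ Y ⟶ X)).hom.app U w = (L.map prod.fst).hom.app U w')
    (h2 : (L.map (prod.snd : X ⨯ Y ⟶ Y)).hom.app U w = (L.map prod.snd).hom.app U w') : w = w' := by
  have : (↾fun _ : PUnit.{u + 1} => w) = (↾fun _ => w') := (sec_prod L U X Y).some.hom_ext (by
      rintro ⟨_ | _⟩
      · ext; exact h1
      · ext; exact h2)
  exact ConcreteCategory.congr_hom this PUnit.unit

lemma app_comp {X Y Z : Sheaf K (Type u)} (f : X ⟶ Y) (g : Y ⟶ Z) (w : (L.obj X).obj.obj U) :
    (L.map (f ≫ g)).hom.app U w = (L.map g).hom.app U ((L.map f).hom.app U w) := by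
  rw [L.map_comp]; rfl

/-- The sum on sections of `L |A|`. -/
noncomputable def secAdd (a b : Sec L A U) : Sec L A U :=
  (L.map (addHom (prod.fst : (uSh K).obj A ⨯ (uSh K).obj A ⟶ _) prod.snd)).hom.app U
    (secPair L U a b)

variable {A} in
lemma secAdd_map {W : Sheaf K (Type u)} (f g : W ⟶ (uSh K).obj A) (w : (L.obj W).obj.obj U) :
    secAdd L A U ((L.map f).hom.app U w) ((L.map g).hom.app U w) =
      (L.map (addHom f g)).hom.app U w := by
  have h : secPair L U ((L.map f).hom.app U w) ((L.map g).hom.app U w) =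
      (L.map (prod.lift f g)).hom.app U w := by
    apply secPair_ext
    · rw [secPair_fst, ← app_comp, prod.lift_fst]
    · rw [secPair_snd, ← app_comp, prod.lift_snd]
  rw [secAdd, h, ← app_comp, comp_addHom, prod.lift_fst, prod.lift_snd]

lemma subsingleton_terminal : Subsingleton ((L.obj (⊤_ (Sheaf K (Type u)))).obj.obj U) :=
  ⟨fun a b => by
    have h : (↾fun _ : PUnit.{u + 1} => a) = (↾fun _ => b) := (isLimitOfHasTerminalOfPreservesLimit
      (L ⋙ sheafToPresheaf J (Type u) ⋙ (evaluation _ _).obj U)).hom_ext _ _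
    exact ConcreteCategory.congr_hom h PUnit.unit⟩

/-- The element of the value at the terminal sheaf. -/
noncomputable def secPoint : (L.obj (⊤_ (Sheaf K (Type u)))).obj.obj U :=
  (isLimitOfHasTerminalOfPreservesLimit
    (L ⋙ sheafToPresheaf J (Type u) ⋙ (evaluation _ _).obj U)).lift
      (asEmptyCone PUnit.{u + 1}) PUnit.unit

/-- Zero. -/
noncomputable def secZero : Sec L A U := (L.map (zeroHom _ A)).hom.app U (secPoint L U)

lemma map_zeroHom {W : Sheaf K (Type u)} (w : (L.obj W).obj.obj U) :
    (L.map (zeroHom W A)).hom.app U w = secZero L A U := by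
  have e : zeroHom W A = terminal.from W ≫ zeroHom _ A := shHom_ext fun _ _ => rfl
  rw [e, app_comp]
  exact congrArg _ (@Subsingleton.elim _ (subsingleton_terminal L U) _ _)

noncomputable instance secGroup : AddCommGroup (Sec L A U) where
  add := secAdd L A U
  zero := secZero L A U
  neg a := (L.map (negHom (𝟙 _))).hom.app U a
  add_assoc a b c := by
    let X := (uSh K).obj A
    obtain ⟨w, rfl, rfl, rfl⟩ : ∃ w : (L.obj (X ⨯ (X ⨯ X))).obj.obj U,
        (L.map prod.fst).hom.app U w = a ∧
        (L.map (prod.snd ≫ prod.fst)).hom.app U w = b ∧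
        (L.map (prod.snd ≫ prod.snd)).hom.app U w = c :=
      ⟨secPair L U a (secPair L U b c), secPair_fst .., by rw [app_comp, secPair_snd, secPair_fst],
        by rw [app_comp, secPair_snd, secPair_snd]⟩
    change secAdd L A U (secAdd L A U _ _) _ = secAdd L A U _ (secAdd L A U _ _)
    rw [secAdd_map, secAdd_map, secAdd_map, secAdd_map]
    refine congrArg (fun φ => (L.map φ).hom.app U w) (shHom_ext fun V x => ?_)
    exact add_assoc (G := A.obj.obj V) _ _ _
  zero_add a := by
    change secAdd L A U (secZero L A U) a = a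
    have h : a = (L.map (𝟙 ((uSh K).obj A))).hom.app U a := by rw [L.map_id]; rfl
    conv_lhs => rw [h, ← map_zeroHom L A U a, secAdd_map]
    conv_rhs => rw [h]
    refine congrArg (fun φ => (L.map φ).hom.app U a) (shHom_ext fun V x => ?_)
    exact zero_add (M := A.obj.obj V) _
  add_zero a := by
    change secAdd L A U a (secZero L A U) = a
    have h : a = (L.map (𝟙 ((uSh K).obj A))).hom.app U a := by rw [L.map_id]; rfl
    conv_lhs => rw [h, ← map_zeroHom L A U a, secAdd_map]
    conv_rhs => rw [h]
    refine congrArg (fun φ => (L.map φ).hom.app U a) (shHom_ext fun V x => ?_)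
    exact add_zero (M := A.obj.obj V) _
  neg_add_cancel a := by
    change secAdd L A U _ a = secZero L A U
    have h : a = (L.map (𝟙 ((uSh K).obj A))).hom.app U a := by rw [L.map_id]; rfl
    conv_lhs => arg 5; rw [h]
    rw [secAdd_map, ← map_zeroHom L A U a]
    refine congrArg (fun φ => (L.map φ).hom.app U a) (shHom_ext fun V x => ?_)
    exact neg_add_cancel (G := A.obj.obj V) _
  add_comm a b := by
    change secAdd L A U a b = secAdd L A U b a
    obtain ⟨w, rfl, rfl⟩ : ∃ w : (L.obj ((uSh K).obj A ⨯ (uSh K).obj A)).obj.obj U,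
        (L.map prod.fst).hom.app U w = a ∧ (L.map prod.snd).hom.app U w = b :=
      ⟨secPair L U a b, secPair_fst .., secPair_snd ..⟩
    rw [secAdd_map, secAdd_map]
    refine congrArg (fun φ => (L.map φ).hom.app U w) (shHom_ext fun V x => ?_)
    exact add_comm (G := A.obj.obj V) _ _
  nsmul := @nsmulRec _ ⟨secZero L A U⟩ ⟨secAdd L A U⟩
  zsmul := @zsmulRec _ ⟨secZero L A U⟩ ⟨secAdd L A U⟩
    ⟨fun a => (L.map (negHom (𝟙 _))).hom.app U a⟩ (@nsmulRec _ ⟨secZero L A U⟩ ⟨secAdd L A U⟩)

lemma secAdd_natural {U V : Cᵒᵖ} (i : U ⟶ V) (a b : Sec L A U) :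
    (L.obj ((uSh K).obj A)).obj.map i (secAdd L A U a b) =
      secAdd L A V ((L.obj ((uSh K).obj A)).obj.map i a) ((L.obj ((uSh K).obj A)).obj.map i b) := by
  obtain ⟨w, rfl, rfl⟩ : ∃ w : (L.obj ((uSh K).obj A ⨯ (uSh K).obj A)).obj.obj U,
      (L.map prod.fst).hom.app U w = a ∧ (L.map prod.snd).hom.app U w = b :=
    ⟨secPair L U a b, secPair_fst .., secPair_snd ..⟩
  rw [secAdd_map, ← NatTrans.naturality_apply, ← NatTrans.naturality_apply,
    ← NatTrans.naturality_apply, secAdd_map]

/-- The abelian presheaf structure on `L |A|`. -/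
noncomputable def liftPre : Cᵒᵖ ⥤ AddCommGrpCat.{u} where
  obj U := AddCommGrpCat.of (Sec L A U)
  map i := AddCommGrpCat.ofHom (AddMonoidHom.mk'
    (fun x => (L.obj ((uSh K).obj A)).obj.map i x) (secAdd_natural L A i))
  map_id U := by
    ext x; exact ConcreteCategory.congr_hom ((L.obj ((uSh K).obj A)).obj.map_id U) x
  map_comp i j := by
    ext x; exact ConcreteCategory.congr_hom ((L.obj ((uSh K).obj A)).obj.map_comp i j) x

lemma isSheaf_liftPre : Presheaf.IsSheaf J (liftPre L A) :=
  Presheaf.isSheaf_of_isSheaf_comp J (liftPre L A) (CategoryTheory.forget AddCommGrpCat.{u})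
    ((Presheaf.isSheaf_of_iso_iff (NatIso.ofComponents (fun _ => Iso.refl _)
      (fun _ => by ext x; rfl))).1 (L.obj ((uSh K).obj A)).2)

/-- `L` on abelian sheaves. -/
noncomputable def liftAb : Sheaf K AddCommGrpCat.{u} ⥤ Sheaf J AddCommGrpCat.{u} where
  obj A := ⟨liftPre L A, isSheaf_liftPre L A⟩
  map {A B} φ := ⟨{
    app := fun U => AddCommGrpCat.ofHom (AddMonoidHom.mk'
      (fun x => (L.map ((uSh K).map φ)).hom.app U x) fun a b => by
        obtain ⟨w, rfl, rfl⟩ : ∃ w : (L.obj ((uSh K).obj A ⨯ (uSh K).obj A)).obj.obj U,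
            (L.map prod.fst).hom.app U w = a ∧ (L.map prod.snd).hom.app U w = b :=
          ⟨secPair L U a b, secPair_fst .., secPair_snd ..⟩
        change (L.map ((uSh K).map φ)).hom.app U (secAdd L A U _ _) = secAdd L B U _ _
        rw [secAdd_map, ← app_comp, ← app_comp, ← app_comp, secAdd_map]
        refine congrArg (fun φ => (L.map φ).hom.app U w) (shHom_ext fun V x => ?_)
        exact map_add (φ.hom.app V).hom _ _)
    naturality := fun U V i => by
      ext x; exact ConcreteCategory.congr_hom ((L.map ((uSh K).map φ)).hom.naturality i) x }⟩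
  map_id A := by
    ext U x
    change (L.map ((uSh K).map (𝟙 A))).hom.app U x = x
    rw [CategoryTheory.Functor.map_id, L.map_id]; rfl
  map_comp {A B B'} φ ψ := by
    ext U x
    change (L.map ((uSh K).map (φ ≫ ψ))).hom.app U x = _
    rw [Functor.map_comp, app_comp]; rfl

end

section Pullback

variable {D : Type u} [SmallCategory D] {K : GrothendieckTopology D} (u : D ⥤ C)
  [u.IsContinuous K J] [hu : PreservesFiniteLimits (u.sheafPullback (Type u) K J)]

/-- Being compatible with sums, for a map of underlying sheaves of sets. -/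
def IsAddHom {A B : Sheaf J AddCommGrpCat.{u}} (φ : (uSh J).obj A ⟶ (uSh J).obj B) : Prop :=
  ∀ U (a b : A.obj.obj U), φ.hom.app U (a + b) =
    (show B.obj.obj U from φ.hom.app U a) + (show B.obj.obj U from φ.hom.app U b)

/-- Homomorphisms are compatible maps of underlying sheaves. -/
noncomputable def addHomEquiv (A B : Sheaf J AddCommGrpCat.{u}) :
    (A ⟶ B) ≃ {φ : (uSh J).obj A ⟶ (uSh J).obj B // IsAddHom φ} where
  toFun φ := ⟨(uSh J).map φ, fun U a b => map_add (φ.hom.app U).hom a b⟩
  invFun φ := ⟨{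
    app := fun U => AddCommGrpCat.ofHom (AddMonoidHom.mk' (fun x => φ.1.hom.app U x) (φ.2 U))
    naturality := fun U V i => by
      ext x; exact ConcreteCategory.congr_hom (φ.1.hom.naturality i) x }⟩
  left_inv φ := by ext U x; rfl
  right_inv φ := Subtype.ext (shHom_ext fun U x => rfl)

/-- The adjunction of sheaves of sets. -/
noncomputable abbrev setAdj :
    u.sheafPullback (Type u) K J ⊣ u.sheafPushforwardContinuous (Type u) K J :=
  u.sheafAdjunctionContinuous (Type u) K J

lemma setAdj_homEquiv_addHom {T : Sheaf K (Type u)} {B : Sheaf J AddCommGrpCat.{u}}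
    (f g : (u.sheafPullback (Type u) K J).obj T ⟶ (uSh J).obj B) :
    ((setAdj u).homEquiv T ((uSh J).obj B)) (addHom f g) =
      addHom (B := (u.sheafPushforwardContinuous AddCommGrpCat.{u} K J).obj B)
        ((setAdj u).homEquiv T ((uSh J).obj B) f) ((setAdj u).homEquiv T ((uSh J).obj B) g) := by
  simp only [Adjunction.homEquiv_unit]
  exact shHom_ext fun U x => rfl

lemma isAddHom_iff (A : Sheaf K AddCommGrpCat.{u}) (B : Sheaf J AddCommGrpCat.{u})
    (φ : (u.sheafPullback (Type u) K J).obj ((uSh K).obj A) ⟶ (uSh J).obj B) :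
    IsAddHom (A := (liftAb (u.sheafPullback (Type u) K J)).obj A) φ ↔
      IsAddHom (B := (u.sheafPushforwardContinuous AddCommGrpCat.{u} K J).obj B)
        ((setAdj u).homEquiv ((uSh K).obj A) ((uSh J).obj B) φ) := by
  let L := u.sheafPullback (Type u) K J
  let X := (uSh K).obj A
  let ψ := (setAdj u).homEquiv X ((uSh J).obj B) φ
  let p₁ : X ⨯ X ⟶ X := prod.fst
  let p₂ : X ⨯ X ⟶ X := prod.snd
  have h1 : IsAddHom (A := (liftAb L).obj A) φ ↔
      L.map (addHom p₁ p₂) ≫ φ = addHom (L.map p₁ ≫ φ) (L.map p₂ ≫ φ) := by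
    constructor
    · intro h
      refine shHom_ext fun U w => ?_
      change φ.hom.app U ((L.map (addHom p₁ p₂)).hom.app U w) = _
      rw [← secAdd_map L U p₁ p₂ w]
      exact h U _ _
    · intro h U a b
      obtain ⟨w, rfl, rfl⟩ : ∃ w : (L.obj (X ⨯ X)).obj.obj U,
          (L.map p₁).hom.app U w = a ∧ (L.map p₂).hom.app U w = b :=
        ⟨secPair L U a b, secPair_fst .., secPair_snd ..⟩
      change φ.hom.app U (secAdd L A U _ _) = _
      rw [secAdd_map L U p₁ p₂ w]
      exact ConcreteCategory.congr_hom (NatTrans.congr_app (congrArg (·.hom) h) U) w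
  have h2 : IsAddHom (B := (u.sheafPushforwardContinuous AddCommGrpCat.{u} K J).obj B) ψ ↔
      addHom p₁ p₂ ≫ ψ =
        addHom (B := (u.sheafPushforwardContinuous AddCommGrpCat.{u} K J).obj B) (p₁ ≫ ψ) (p₂ ≫ ψ) := by
    constructor
    · intro h
      exact shHom_ext fun U w => h U _ _
    · intro h U a b
      have e : ∃ w : (X ⨯ X).obj.obj U, p₁.hom.app U w = a ∧ p₂.hom.app U w = b := by
        have hl := mapIsLimitOfPreservesOfIsLimit
          (sheafToPresheaf K (Type u) ⋙ (evaluation _ _).obj U) _ _ (prodIsProd X X)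
        let c : BinaryFan _ _ := BinaryFan.mk (↾fun _ : PUnit.{u + 1} => a) (↾fun _ => b)
        exact ⟨hl.lift c PUnit.unit,
          ConcreteCategory.congr_hom (hl.fac c ⟨WalkingPair.left⟩) PUnit.unit,
          ConcreteCategory.congr_hom (hl.fac c ⟨WalkingPair.right⟩) PUnit.unit⟩
      obtain ⟨w, rfl, rfl⟩ := e
      exact ConcreteCategory.congr_hom (NatTrans.congr_app (congrArg (·.hom) h) U) w
  rw [h1, h2, ← ((setAdj u).homEquiv (X ⨯ X) ((uSh J).obj B)).injective.eq_iff,
    setAdj_homEquiv_addHom, Adjunction.homEquiv_naturality_left, Adjunction.homEquiv_naturality_left,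
    Adjunction.homEquiv_naturality_left]
  rfl

/-- The adjunction on abelian sheaves. -/
noncomputable def liftAbAdj :
    liftAb (u.sheafPullback (Type u) K J) ⊣ u.sheafPushforwardContinuous AddCommGrpCat.{u} K J :=
  Adjunction.mkOfHomEquiv
    { homEquiv := fun A B => (addHomEquiv _ B).trans
        ((((setAdj u).homEquiv ((uSh K).obj A) ((uSh J).obj B)).subtypeEquiv
          (fun φ => isAddHom_iff u A B φ)).trans
            (addHomEquiv A ((u.sheafPushforwardContinuous AddCommGrpCat.{u} K J).obj B)).symm)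
      homEquiv_naturality_left_symm := fun {A' A B} f g => by
        apply (addHomEquiv _ B).injective
        apply Subtype.ext
        change ((setAdj u).homEquiv ((uSh K).obj A') ((uSh J).obj B)).symm ((uSh K).map (f ≫ g)) =
          (uSh J).map ((liftAb (u.sheafPullback (Type u) K J)).map f ≫ _)
        rw [(uSh J).map_comp]
        refine ((setAdj u).homEquiv_naturality_left_symm ((uSh K).map f)
          (show (uSh K).obj A ⟶ (u.sheafPushforwardContinuous (Type u) K J).obj ((uSh J).obj B) from
            (uSh K).map g)).trans ?_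
        exact shHom_ext fun _ _ => rfl
      homEquiv_naturality_right := fun {A B B'} f g => by
        apply (addHomEquiv A _).injective
        apply Subtype.ext
        simp only [Equiv.trans_apply, Equiv.apply_symm_apply, Equiv.subtypeEquiv_apply]
        change (setAdj u).homEquiv _ _ ((uSh J).map f ≫ (uSh J).map g) = _
        rw [Adjunction.homEquiv_naturality_right]
        exact shHom_ext fun _ _ => rfl }

attribute [local instance] preservesBinaryBiproducts_of_preservesBinaryCoproducts in
theorem preservesFiniteLimits_sheafPullback :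
    PreservesFiniteLimits (u.sheafPullback AddCommGrpCat.{u} K J) := by
  let F := liftAb (u.sheafPullback (Type u) K J)
  have adj : F ⊣ _ := liftAbAdj u
  have : PreservesColimitsOfSize.{0, 0} F := adj.leftAdjoint_preservesColimits
  have : PreservesFiniteColimits F := inferInstance
  have : F.Additive := Functor.additive_of_preservesBinaryBiproducts _
  have : F.PreservesMonomorphisms := ⟨fun {A B} φ hφ => by
    apply Functor.mono_of_mono_map (uSh J)
    have h1 : Mono ((uSh K).map φ) := by
      have := (sheafToPresheaf K AddCommGrpCat.{u}).map_mono φ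
      apply Functor.mono_of_mono_map (sheafToPresheaf K (Type u))
      exact inferInstanceAs (Mono (((Functor.whiskeringRight _ _ _).obj
        (CategoryTheory.forget AddCommGrpCat.{u})).map ((sheafToPresheaf K _).map φ)))
    have h2 : Mono ((u.sheafPullback (Type u) K J).map ((uSh K).map φ)) := inferInstance
    exact h2⟩
  have := F.preservesHomology_of_preservesMonos_and_cokernels
  have : PreservesFiniteLimits F := F.preservesFiniteLimits_of_preservesHomology
  exact preservesFiniteLimits_of_natIso
    (adj.leftAdjointUniq (u.sheafAdjunctionContinuous AddCommGrpCat.{u} K J))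

end Pullback

end GrothLib.SiteDer
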