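import Groth.Agent.Lib.SiteDer.ModGen
import Groth.Agent.Lib.SiteDer.LocallyZero
import Groth.Agent.Lib.SiteDer.PullAb
import Groth.Agent.Lib.KInj.Adjoint

/-! # Direct images of K-injective complexes compute maps from the free generators -/

universe w v v' u u'

open CategoryTheory CategoryTheory.Limits Opposite

namespace GrothLib.SiteDer

section General

variable {A : Type u} [Category.{v} A] [Abelian A] [IsGrothendieckAbelian.{v} A]
  [HasDerivedCategory.{w} A]

/-- The unit `Y ⟶ res (Qh Y)` is inverted by `Qh`. -/
instance isIso_Qh_map_unit (Y : HomotopyCategory A (ComplexShape.up ℤ)) :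
    IsIso (DerivedCategory.Qh.map ((KInj.resAdj A).unit.app Y)) := by
  have : IsIso (DerivedCategory.Qh.map ((KInj.resAdj A).unit.app Y) ≫
      (KInj.resAdj A).counit.app (DerivedCategory.Qh.obj Y)) := by
    rw [show DerivedCategory.Qh.map _ ≫ _ = 𝟙 _ from (KInj.resAdj A).left_triangle_components Y]
    exact IsIso.id _
  exact IsIso.of_isIso_comp_right _ ((KInj.resAdj A).counit.app (DerivedCategory.Qh.obj Y))

lemma bijective_Qh_res (S : HomotopyCategory A (ComplexShape.up ℤ)) (E : DerivedCategory A) :
    Function.Bijective (DerivedCategory.Qh.map :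
      (S ⟶ (KInj.res A).obj E) → (DerivedCategory.Qh.obj S ⟶ DerivedCategory.Qh.obj ((KInj.res A).obj E))) :=
  (KInj.rightOrthogonal_res E).map_bijective_of_isTriangulated DerivedCategory.Qh _

end General

variable {C : Type u} [SmallCategory C] {J : GrothendieckTopology C}

/-- Maps out of the free abelian sheaf on `U` are sections over `U`. -/
noncomputable def freeYRep (J : GrothendieckTopology C) (U : C) :
    (sheafToPresheaf J AddCommGrpCat.{u} ⋙ (evaluation _ _).obj (op U) ⋙
      CategoryTheory.forget AddCommGrpCat.{u}).CorepresentableBy (SheafCoh.freeY J U) where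
  homEquiv := fun {F} => (SheafCoh.homFreeY F U).toEquiv
  homEquiv_comp g φ := SheafCoh.homFreeY_comp U φ g

/-- Corepresenting objects are isomorphic. -/
noncomputable def corepIso {A : Type u'} [Category.{v'} A] {F : A ⥤ Type v'} {X X' : A}
    (e : F.CorepresentableBy X) (e' : F.CorepresentableBy X') : X ≅ X' where
  hom := e.homEquiv.symm (e'.homEquiv (𝟙 X'))
  inv := e'.homEquiv.symm (e.homEquiv (𝟙 X))
  hom_inv_id := by
    rw [e.homEquiv_symm_comp, ← e'.homEquiv_comp, Category.id_comp, Equiv.apply_symm_apply,
      Equiv.symm_apply_apply]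
  inv_hom_id := by
    rw [e'.homEquiv_symm_comp, ← e.homEquiv_comp, Category.id_comp, Equiv.apply_symm_apply,
      Equiv.symm_apply_apply]

theorem isLocGen_freeY (J : GrothendieckTopology C) : IsLocGen J (SheafCoh.freeYFunctor J) where
  lift {M N} p _ U g := by
    have : Sheaf.IsLocallySurjective p :=
      (Sheaf.isLocallySurjective_iff_epi' AddCommGrpCat.{u} p).2 inferInstance
    refine ⟨Presheaf.imageSieve p.hom (SheafCoh.homFreeY N U g), Presheaf.imageSieve_mem J p.hom _,
      fun V f hf => ?_⟩
    obtain ⟨t, ht⟩ := hf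
    refine ⟨(SheafCoh.homFreeY M V).symm t, (SheafCoh.homFreeY N V).injective ?_⟩
    rw [SheafCoh.homFreeY_comp, AddEquiv.apply_symm_apply]
    exact ht.trans (SheafCoh.homFreeY_map N f g).symm
  sep {M U} g h := by
    obtain ⟨S, hS, hS'⟩ := h
    apply (SheafCoh.homFreeY M U).injective
    rw [map_zero]
    refine Presheaf.IsSheaf.isSeparated M.2 U S hS _ _ fun V f hf => ?_
    rw [map_zero, ← SheafCoh.homFreeY_map]
    exact (congrArg (SheafCoh.homFreeY M V) (hS' f hf)).trans (map_zero _)
  mono {M N} p h := by
    have hm : ∀ U : Cᵒᵖ, Mono (p.hom.app U) := fun U => by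
      rw [AddCommGrpCat.mono_iff_injective, injective_iff_map_eq_zero]
      intro x hx
      have h0 := h U.unop ((SheafCoh.homFreeY M U.unop).symm x)
        ((SheafCoh.homFreeY N U.unop).injective (by
          rw [SheafCoh.homFreeY_comp, AddEquiv.apply_symm_apply, map_zero]; exact hx))
      rw [← (SheafCoh.homFreeY M U.unop).apply_symm_apply x, h0, map_zero]
    have : Mono p.hom := NatTrans.mono_of_mono_app _
    exact (sheafToPresheaf J AddCommGrpCat.{u}).mono_of_mono_map this
  epi {M N} p h := by
    refine (Sheaf.isLocallySurjective_iff_epi' AddCommGrpCat.{u} p).1 ⟨fun {U} s => ?_⟩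
    obtain ⟨S, hS, hS'⟩ := h U ((SheafCoh.homFreeY N U).symm s)
    refine J.superset_covering (fun V f hf => ?_) hS
    obtain ⟨t, ht⟩ := hS' f hf
    refine ⟨SheafCoh.homFreeY M V t, ?_⟩
    rw [← SheafCoh.homFreeY_comp, ht]
    exact (SheafCoh.homFreeY_map N f _).trans (by rw [AddEquiv.apply_symm_apply])

variable {R : Sheaf J RingCat.{u}}
  [HasDerivedCategory.{w} (Sheaf J AddCommGrpCat.{u})]

lemma bijective_Qh_toSheaf {I : HomotopyCategory (SheafOfModules.{u} R) (ComplexShape.up ℤ)}
    (hI : (HomotopyCategory.subcategoryAcyclic _).rightOrthogonal I) (U : C) (k : ℤ) :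
    Function.Bijective (DerivedCategory.Qh.map :
      (((HomotopyCategory.singleFunctors _).functor k).obj (SheafCoh.freeY J U) ⟶
        ((SheafOfModules.toSheaf.{u} R).mapHomotopyCategory (ComplexShape.up ℤ)).obj I) → _) := by
  refine bijective_Qh_map (isExactClass_tensSh R) (tensShAdj R) hI
    ((HomologicalComplex.single _ (ComplexShape.up ℤ) k).obj (SheafCoh.freeY J U)) fun i => ?_
  by_cases hi : i = k
  · subst hi
    refine (isExactClass_tensSh R).of_mono
      (HomologicalComplex.singleObjXSelf (ComplexShape.up ℤ) i (SheafCoh.freeY J U)).hom inferInstance ?_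
    refine torsionFree_presheafToSheaf _ fun X m x hm hx => ?_
    let α := (yoneda.obj U).obj X
    let e := FreeAbelianGroup.equivFinsupp α
    have h := congrArg e (show m • (show FreeAbelianGroup α from x) = 0 from hx)
    rw [map_zsmul, map_zero, smul_eq_zero] at h
    exact e.injective ((h.resolve_left hm).trans (map_zero e).symm)
  · intro X m x _ _
    have hZ := HomologicalComplex.isZero_single_obj_X (ComplexShape.up ℤ) k (SheafCoh.freeY J U) i hi
    have := AddCommGrpCat.subsingleton_of_isZero
      ((sheafToPresheaf J AddCommGrpCat.{u} ⋙ (evaluation _ _).obj X).map_isZero hZ)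
    exact @Subsingleton.elim _ this x 0

variable {D : Type u} [SmallCategory D] {K : GrothendieckTopology D} (u₀ : D ⥤ C)
  [u₀.IsContinuous K J] [PreservesFiniteLimits (u₀.sheafPullback (Type u) K J)]
  [HasDerivedCategory.{w} (Sheaf K AddCommGrpCat.{u})]

attribute [local instance] preservesBinaryBiproducts_of_preservesBinaryCoproducts in
/-- For `I` orthogonal, maps from free sheaves into `u_* I` are computed in the homotopy category. -/
theorem bijective_Qh_push {I : HomotopyCategory (SheafOfModules.{u} R) (ComplexShape.up ℤ)}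
    (hI : (HomotopyCategory.subcategoryAcyclic _).rightOrthogonal I) (V : D) (k : ℤ) :
    Function.Bijective (DerivedCategory.Qh.map :
      (((HomotopyCategory.singleFunctors _).functor k).obj (SheafCoh.freeY K V) ⟶
        ((CohSite.push J K u₀).mapHomotopyCategory (ComplexShape.up ℤ)).obj
          (((SheafOfModules.toSheaf.{u} R).mapHomotopyCategory (ComplexShape.up ℤ)).obj I)) → _) := by
  let L := u₀.sheafPullback AddCommGrpCat.{u} K J
  let adj : L ⊣ CohSite.push J K u₀ := u₀.sheafAdjunctionContinuous AddCommGrpCat.{u} K J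
  have : L.IsLeftAdjoint := adj.isLeftAdjoint
  have : L.PreservesZeroMorphisms := Functor.preservesZeroMorphisms_of_isLeftAdjoint L
  have : L.Additive := Functor.additive_of_preservesBinaryBiproducts _
  have : PreservesFiniteLimits L := preservesFiniteLimits_sheafPullback u₀
  have : PreservesColimitsOfSize.{0, 0} L := adj.leftAdjoint_preservesColimits
  have : PreservesFiniteColimits L := inferInstance
  let Z := ((SheafOfModules.toSheaf.{u} R).mapHomotopyCategory (ComplexShape.up ℤ)).obj I
  let η : Z ⟶ (KInj.res (Sheaf J AddCommGrpCat.{u})).obj (DerivedCategory.Qh.obj Z) :=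
    (KInj.resAdj (Sheaf J AddCommGrpCat.{u})).unit.app Z
  let P := (CohSite.push J K u₀).mapHomotopyCategory (ComplexShape.up ℤ)
  let a := KInj.mapHomotopyAdj adj
  have hη : ∀ U j, Function.Bijective (fun φ : ((HomotopyCategory.singleFunctors _).functor j).obj
      (SheafCoh.freeY J U) ⟶ Z => φ ≫ η) := fun U j =>
    bijective_comp_of_Qh _ (bijective_Qh_toSheaf hI U j) (bijective_Qh_res _ _)
  have hη' : ∀ V j, Function.Bijective (fun φ : ((HomotopyCategory.singleFunctors _).functor j).obj
      (SheafCoh.freeY K V) ⟶ P.obj Z => φ ≫ P.map η) := by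
    intro V j
    let eV : L.obj (SheafCoh.freeY K V) ≅ SheafCoh.freeY J (u₀.obj V) := corepIso
      (F := sheafToPresheaf J AddCommGrpCat.{u} ⋙ (evaluation _ _).obj (op (u₀.obj V)) ⋙
        CategoryTheory.forget AddCommGrpCat.{u})
      { homEquiv := fun {F} => (adj.homEquiv _ F).trans
          (SheafCoh.homFreeY ((CohSite.push J K u₀).obj F) V).toEquiv
        homEquiv_comp := fun g φ => by
          simp only [Equiv.trans_apply, Adjunction.homEquiv_naturality_right]
          exact SheafCoh.homFreeY_comp V _ ((CohSite.push J K u₀).map g) }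
      (freeYRep J (u₀.obj V))
    let e : (L.mapHomotopyCategory (ComplexShape.up ℤ)).obj
        (((HomotopyCategory.singleFunctors _).functor j).obj (SheafCoh.freeY K V)) ≅
        ((HomotopyCategory.singleFunctors _).functor j).obj (SheafCoh.freeY J (u₀.obj V)) :=
      (HomotopyCategory.quotient _ _).mapIso
        ((HomologicalComplex.singleMapHomologicalComplex L _ j).app _ ≪≫
          (HomologicalComplex.single _ _ j).mapIso eV)
    let T : ∀ Y, ((((HomotopyCategory.singleFunctors _).functor j).obj (SheafCoh.freeY J (u₀.obj V))) ⟶ Y) ≃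
        (((HomotopyCategory.singleFunctors _).functor j).obj (SheafCoh.freeY K V) ⟶ P.obj Y) :=
      fun Y => e.symm.homFromEquiv.trans (a.homEquiv _ Y)
    have hT : ∀ φ, T _ (φ ≫ η) = T Z φ ≫ P.map η := fun φ => by
      simp only [T, Equiv.trans_apply, Iso.homFromEquiv_apply]
      rw [← Category.assoc, Adjunction.homEquiv_naturality_right]
    refine (Function.Bijective.of_comp_iff _ (T Z).bijective).1 ?_
    have : (fun φ => φ ≫ P.map η) ∘ T Z = T _ ∘ (fun φ => φ ≫ η) := funext fun φ => (hT φ).symm
    exact (congrArg Function.Bijective this).mpr ((T _).bijective.comp (hη _ _))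
  have : IsIso (DerivedCategory.Qh.map (P.map η)) :=
    (isLocGen_freeY K).isIso_Qh_map _ hη'
  refine bijective_Qh_of_comp _ (hη' V k) ?_
  exact (KInj.rightOrthogonal_map adj (KInj.rightOrthogonal_res _)).map_bijective_of_isTriangulated
    DerivedCategory.Qh _

end GrothLib.SiteDer
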