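import Groth.Agent.Lib.SiteDer.RlimLoc
import Groth.Agent.Lib.DerCat.CohIn
import Mathlib.Order.Filter.AtTopBot.Basic
import Mathlib.Order.Interval.Finset.Basic
import Mathlib.Data.Int.Interval

/-! # Cones of transition maps; truncation towers -/

universe w v u vC uC u'

open CategoryTheory Limits Pretriangulated DerivedCategory

namespace GrothLib.SiteDer

variable {A : Type u} [Category.{v} A] [Abelian A] [HasDerivedCategory.{w} A]

lemma cone_isZero {T : Triangle (DerivedCategory A)} (hT : T ∈ distTriang _) (q : ℤ)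
    (h₁ : Epi ((homologyFunctor A q).map T.mor₁))
    (h₂ : Mono ((homologyFunctor A (q + 1)).map T.mor₁)) :
    IsZero ((homologyFunctor A q).obj T.obj₃) := by
  exact (HomologySequence.exact₃ _ hT q (q + 1) rfl).isZero_of_both_zeros
    ((HomologySequence.epi_homologyMap_mor₁_iff _ hT q).1 h₁)
    ((HomologySequence.mono_homologyMap_mor₁_iff _ hT q (q + 1) rfl).1 h₂)

lemma cone_isGE {T : Triangle (DerivedCategory A)} (hT : T ∈ distTriang _) (a : ℤ)
    [T.obj₁.IsGE (a + 1)] [T.obj₂.IsGE a] : T.obj₃.IsGE a := by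
  rw [DerivedCategory.isGE_iff]
  intro i hi
  refine cone_isZero hT i ⟨fun _ _ _ => ?_⟩ ⟨fun _ _ _ => ?_⟩
  · exact (DerivedCategory.isZero_of_isGE T.obj₂ a i hi).eq_of_src _ _
  · exact (DerivedCategory.isZero_of_isGE T.obj₁ (a + 1) (i + 1) (by omega)).eq_of_tgt _ _

section Trunc

variable (E : DerivedCategory A)

lemma isGE_truncTower (n : ℕ) :
    ((TStructure.t.truncGE (-(n : ℤ))).obj E).IsGE (-(n : ℤ)) :=
  inferInstanceAs (TStructure.t.IsGE ((TStructure.t.truncGE (-(n : ℤ))).obj E) (-(n : ℤ)))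

lemma truncπ_comp (n : ℕ) :
    (TStructure.t.truncGEπ (-((n + 1 : ℕ) : ℤ))).app E ≫
      (TStructure.t.natTransTruncGEOfLE (-((n + 1 : ℕ) : ℤ)) (-(n : ℤ)) (by omega)).app E =
        (TStructure.t.truncGEπ (-(n : ℤ))).app E :=
  TStructure.t.π_natTransTruncGEOfLE_app _ _ _ E

lemma isIso_homology_truncMap (n : ℕ) (q : ℤ) (hq : -(n : ℤ) ≤ q) :
    IsIso ((homologyFunctor A q).map
      ((TStructure.t.natTransTruncGEOfLE (-((n + 1 : ℕ) : ℤ)) (-(n : ℤ)) (by omega)).app E)) := by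
  have h1 := DerTrunc.isIso_homology_truncGEπ E (-((n + 1 : ℕ) : ℤ)) q (by omega)
  have h2 := DerTrunc.isIso_homology_truncGEπ E (-(n : ℤ)) q hq
  rw [← truncπ_comp E n, Functor.map_comp] at h2
  exact @IsIso.of_isIso_comp_left _ _ _ _ _ _ _ h1 h2

/-- The cone of a transition map of the truncation tower has one cohomology object. -/
lemma exists_cone_truncMap (n : ℕ) :
    ∃ (Z : DerivedCategory A) (g : (TStructure.t.truncGE (-(n : ℤ))).obj E ⟶ Z)
      (c : Z ⟶ ((TStructure.t.truncGE (-((n + 1 : ℕ) : ℤ))).obj E)⟦(1 : ℤ)⟧),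
      Triangle.mk ((TStructure.t.natTransTruncGEOfLE (-((n + 1 : ℕ) : ℤ)) (-(n : ℤ))
        (by omega)).app E) g c ∈ distTriang _ ∧ Z.IsGE (-(n : ℤ) - 2) ∧
      (∀ q, q ≠ -(n : ℤ) - 2 → IsZero ((homologyFunctor A q).obj Z)) ∧
      Nonempty ((homologyFunctor A (-(n : ℤ) - 2)).obj Z ≅ (homologyFunctor A (-(n : ℤ) - 1)).obj E) := by
  set t := (TStructure.t.natTransTruncGEOfLE (-((n + 1 : ℕ) : ℤ)) (-(n : ℤ)) (by omega)).app E
  obtain ⟨Z, g, c, hT⟩ := distinguished_cocone_triangle t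
  have hn := isGE_truncTower E n
  have hn1 := isGE_truncTower E (n + 1)
  have z1 : ∀ q, q < -(n : ℤ) → IsZero ((homologyFunctor A q).obj
      ((TStructure.t.truncGE (-(n : ℤ))).obj E)) := fun q hq =>
    DerivedCategory.isZero_of_isGE _ (-(n : ℤ)) q hq
  have z2 : ∀ q, q < -(n : ℤ) - 1 → IsZero ((homologyFunctor A q).obj
      ((TStructure.t.truncGE (-((n + 1 : ℕ) : ℤ))).obj E)) := fun q hq =>
    DerivedCategory.isZero_of_isGE _ (-((n + 1 : ℕ) : ℤ)) q (by omega)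
  have hz : ∀ q, q ≠ -(n : ℤ) - 2 → IsZero ((homologyFunctor A q).obj Z) := by
    intro q hq
    refine cone_isZero hT q ?_ ?_
    · by_cases h : -(n : ℤ) ≤ q
      · have := isIso_homology_truncMap E n q h
        change Epi ((homologyFunctor A q).map t)
        infer_instance
      · exact ⟨fun _ _ _ => (z1 q (by omega)).eq_of_src _ _⟩
    · by_cases h : -(n : ℤ) ≤ q + 1
      · have := isIso_homology_truncMap E n (q + 1) h
        change Mono ((homologyFunctor A (q + 1)).map t)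
        infer_instance
      · exact ⟨fun _ _ _ => (z2 (q + 1) (by omega)).eq_of_tgt _ _⟩
  refine ⟨Z, g, c, hT, ?_, hz, ?_⟩
  · exact (DerivedCategory.isGE_iff _ _).2 fun i hi => hz i (by omega)
  · let δ : (homologyFunctor A (-(n : ℤ) - 2)).obj Z ⟶ (homologyFunctor A (-(n : ℤ) - 1)).obj
        ((TStructure.t.truncGE (-((n + 1 : ℕ) : ℤ))).obj E) :=
      HomologySequence.δ (Triangle.mk t g c) (-(n : ℤ) - 2) (-(n : ℤ) - 1) (by omega)
    have : Mono δ := (HomologySequence.exact₃ _ hT (-(n : ℤ) - 2) (-(n : ℤ) - 1) (by omega)).mono_g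
      ((z1 _ (by omega)).eq_of_src _ _)
    have : Epi δ := (HomologySequence.exact₁ _ hT (-(n : ℤ) - 2) (-(n : ℤ) - 1) (by omega)).epi_f
      ((z1 _ (by omega)).eq_of_tgt _ _)
    have : IsIso δ := isIso_of_mono_of_epi δ
    have := DerTrunc.isIso_homology_truncGEπ E (-((n + 1 : ℕ) : ℤ)) (-(n : ℤ) - 1) (by omega)
    exact ⟨asIso δ ≪≫
      (asIso ((homologyFunctor A (-(n : ℤ) - 1)).map
        ((TStructure.t.truncGEπ (-((n + 1 : ℕ) : ℤ))).app E))).symm⟩

end Trunc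

variable {C : Type uC} [Category.{vC} C] {J : GrothendieckTopology C} {G : C ⥤ A}

/-- A condition for goodness from vanishing on the cohomology of the cone. -/
lemma goodAt_of_homology {K : ℕ → DerivedCategory A} {t : ∀ n, K (n + 1) ⟶ K n} (j : ℤ) (n₁ : ℕ)
    (V : C)
    (h : ∀ n, n₁ ≤ n → ∃ (Z : DerivedCategory A) (g : K n ⟶ Z) (c : Z ⟶ (K (n + 1))⟦(1 : ℤ)⟧) (a : ℤ),
      Triangle.mk (t n) g c ∈ distTriang _ ∧ Z.IsGE a ∧
      ∀ k q, (k = j ∨ k = j - 1) → q ≤ k → ∀ ψ : (singleFunctor A k).obj (G.obj V) ⟶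
        (singleFunctor A q).obj ((homologyFunctor A q).obj Z), ψ = 0) : GoodAt t G j n₁ V := by
  refine GoodAt.of_cone G j n₁ V fun n hn => ?_
  obtain ⟨Z, g, c, a, hT, hZ, hv⟩ := h n hn
  exact ⟨Z, g, c, hT,
    eq_zero_of_isGE' _ j a Z fun q _ hq => hv j q (Or.inl rfl) hq,
    eq_zero_of_isGE' _ (j - 1) a Z fun q _ hq => hv (j - 1) q (Or.inr rfl) hq⟩

/-- An object is the derived limit of its truncations when the local values are eventually constant. -/
theorem isRlimVia_trunc (hG : IsLocGen J G) (E : DerivedCategory A)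
    [HasProduct fun n : ℕ => (TStructure.t.truncGE (-(n : ℤ))).obj E]
    (B : Set C)
    (hB : ∀ U : C, ∃ (ι : Type u') (Y : ι → C) (g : ∀ i, Y i ⟶ U),
      Sieve.ofArrows Y g ∈ J U ∧ ∀ i, Y i ∈ B)
    (hgood : ∀ V ∈ B, ∀ j : ℤ, ∃ n₁ : ℕ, ∀ T ∈ J V, ∃ (ι : Type u') (Y : ι → C) (g : ∀ i, Y i ⟶ V),
      (∀ i, T.arrows (g i)) ∧ Sieve.ofArrows Y g ∈ J V ∧ ∀ i,
        GoodAt (K := fun n : ℕ => (TStructure.t.truncGE (-(n : ℤ))).obj E)
          (fun n => (TStructure.t.natTransTruncGEOfLE (-((n + 1 : ℕ) : ℤ)) (-(n : ℤ))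
            (by omega)).app E) G j n₁ (Y i)) :
    CohCx.IsRlimVia (fun n : ℕ => (TStructure.t.truncGE (-(n : ℤ))).obj E)
      (fun n => (TStructure.t.natTransTruncGEOfLE (-((n + 1 : ℕ) : ℤ)) (-(n : ℤ)) (by omega)).app E)
      E (fun n => (TStructure.t.truncGEπ (-(n : ℤ))).app E) := by
  let K := fun n : ℕ => (TStructure.t.truncGE (-(n : ℤ))).obj E
  let t : ∀ n : ℕ, K (n + 1) ⟶ K n := fun n =>
    (TStructure.t.natTransTruncGEOfLE (-((n + 1 : ℕ) : ℤ)) (-(n : ℤ)) (by omega)).app E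
  let one : ∏ᶜ K ⟶ ∏ᶜ K := Pi.lift fun m => Pi.π K m - Pi.π K (m + 1) ≫ t m
  obtain ⟨L, m₁, m₃, hT⟩ := distinguished_cocone_triangle₁ one
  let a : ∀ n, L ⟶ K n := fun n => m₁ ≫ Pi.π K n
  have ha : Pi.lift a = m₁ := by ext n; simp [a]
  have hL : CohCx.IsRlimVia K t L a := ⟨m₃, by rw [ha]; exact hT⟩
  let b : ∀ n, E ⟶ K n := fun n => (TStructure.t.truncGEπ (-(n : ℤ))).app E
  have hb : Pi.lift b ≫ one = 0 := by
    ext n
    simp [one, b, Preadditive.comp_sub, t, truncπ_comp E n]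
  obtain ⟨c, hc⟩ := Triangle.coyoneda_exact₂ _ hT (Pi.lift b) hb
  change E ⟶ L at c
  change Pi.lift b = c ≫ m₁ at hc
  have hci : IsIso c := by
    rw [DerivedCategory.isIso_iff]
    intro j
    obtain ⟨n, hn⟩ : ∃ n : ℕ, -(n : ℤ) ≤ j := ⟨(-j).toNat, by omega⟩
    have h1 : IsIso ((homologyFunctor A j).map (a n)) :=
      isIso_homology_rlim hG hL j n
        (fun m hm => isIso_homology_truncMap E m j (by omega)) B hB
        (fun V hV => hgood V hV j) n le_rfl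
    have h2 : IsIso ((homologyFunctor A j).map (b n)) :=
      DerTrunc.isIso_homology_truncGEπ E (-(n : ℤ)) j hn
    have e : b n = c ≫ a n := by
      have := congrArg (fun f => f ≫ Pi.π K n) hc
      simpa [a] using this
    rw [e, Functor.map_comp] at h2
    exact @IsIso.of_isIso_comp_right _ _ _ _ _ _ _ h1 h2
  refine ⟨m₃ ≫ (inv c)⟦(1 : ℤ)⟧', isomorphic_distinguished _ hT _
    (Triangle.isoMk _ _ (@asIso _ _ _ _ c hci) (Iso.refl _) (Iso.refl _) ?_ ?_ ?_)⟩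
  · change Pi.lift b ≫ 𝟙 _ = c ≫ m₁
    rw [Category.comp_id, hc]
  · exact (Category.comp_id _).trans (Category.id_comp _).symm
  · change (m₃ ≫ (inv c)⟦(1 : ℤ)⟧') ≫ c⟦(1 : ℤ)⟧' = 𝟙 _ ≫ m₃
    rw [Category.assoc, ← Functor.map_comp, IsIso.inv_hom_id, CategoryTheory.Functor.map_id, Category.comp_id,
      Category.id_comp]

open Filter in
/-- Eventual vanishing of the cones in a window of degrees. -/
lemma exists_cone_window {K : ℕ → DerivedCategory A} {t : ∀ n, K (n + 1) ⟶ K n}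
    (P : ObjectProperty A) [WSerre.IsWeakSerre P]
    (hK : ∀ n, WSerre.cohInPlus P (K n))
    (hconst : ∀ j : ℤ, ∃ n₀ : ℕ, ∀ n, n₀ ≤ n → IsIso ((homologyFunctor A j).map (t n)))
    (lo hi : ℤ) : ∃ n₁ : ℕ, ∀ n, n₁ ≤ n →
      ∃ (Z : DerivedCategory A) (g : K n ⟶ Z) (c : Z ⟶ (K (n + 1))⟦(1 : ℤ)⟧) (a : ℤ),
        Triangle.mk (t n) g c ∈ distTriang _ ∧ Z.IsGE a ∧ WSerre.cohIn P Z ∧
        ∀ q, lo ≤ q → q ≤ hi → IsZero ((homologyFunctor A q).obj Z) := by
  have hev : ∀ᶠ n in (atTop : Filter ℕ), ∀ q ∈ Finset.Icc lo (hi + 1),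
      IsIso ((homologyFunctor A q).map (t n)) := by
    rw [Filter.eventually_all_finset]
    exact fun q _ => eventually_atTop.2 (hconst q)
  obtain ⟨n₁, hn₁⟩ := eventually_atTop.1 hev
  refine ⟨n₁, fun n hn => ?_⟩
  obtain ⟨Z, g, c, hT⟩ := distinguished_cocone_triangle (t n)
  obtain ⟨a₁, ha₁⟩ := DerTrunc.exists_isGE_of_plus (hK (n + 1)).2
  obtain ⟨a₂, ha₂⟩ := DerTrunc.exists_isGE_of_plus (hK n).2
  let a := min (a₁ - 1) a₂
  have : (Triangle.mk (t n) g c).obj₁.IsGE (a + 1) :=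
    TStructure.t.isGE_of_ge (K (n + 1)) (a + 1) a₁ (by omega)
  have : (Triangle.mk (t n) g c).obj₂.IsGE a :=
    TStructure.t.isGE_of_ge (K n) a a₂ (by omega)
  refine ⟨Z, g, c, a, hT, cone_isGE hT a, ?_, fun q h₁ h₂ => ?_⟩
  · exact DerTrunc.cohIn_obj₂ P (rot_of_distTriang _ hT) (hK n).1
      (DerTrunc.cohIn_shift P (hK (n + 1)).1 1)
  · have := hn₁ n hn q (by simp only [Finset.mem_Icc]; omega)
    have := hn₁ n hn (q + 1) (by simp only [Finset.mem_Icc]; omega)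
    exact cone_isZero hT q (inferInstanceAs (Epi ((homologyFunctor A q).map (t n))))
      (inferInstanceAs (Mono ((homologyFunctor A (q + 1)).map (t n))))

end GrothLib.SiteDer
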