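import Groth.Agent.Lib.DerCat.Truncation
import Mathlib.Algebra.Homology.DerivedCategory.Fractions
import Mathlib.Algebra.Homology.ShortComplex.Exact
import Mathlib.CategoryTheory.Abelian.Refinements
import Mathlib.CategoryTheory.Sites.Grothendieck

/-! # Cohomology objects as local values of hypercohomology -/

universe w v u vC uC

open CategoryTheory Limits DerivedCategory

namespace GrothLib.SiteDer

variable {C : Type uC} [Category.{vC} C]

section Cover

variable (J : GrothendieckTopology C) {U : C}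

/-- `P` holds on a covering sieve of `U`. -/
def Locally (U : C) (P : ∀ ⦃V : C⦄, (V ⟶ U) → Prop) : Prop :=
  ∃ S ∈ J U, ∀ ⦃V : C⦄ (f : V ⟶ U), S f → P f

variable {J}

lemma Locally.of_forall {P : ∀ ⦃V : C⦄, (V ⟶ U) → Prop} (h : ∀ ⦃V⦄ (f : V ⟶ U), P f) :
    Locally J U P := ⟨⊤, J.top_mem U, fun _ f _ => h f⟩

lemma Locally.mono {P Q : ∀ ⦃V : C⦄, (V ⟶ U) → Prop} (h : Locally J U P)
    (hPQ : ∀ ⦃V⦄ (f : V ⟶ U), P f → Q f) : Locally J U Q := by
  obtain ⟨S, hS, hSP⟩ := h
  exact ⟨S, hS, fun V f hf => hPQ f (hSP f hf)⟩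

/-- A downward closed property which holds locally on the members of a covering sieve holds locally. -/
lemma Locally.trans {P : ∀ ⦃V : C⦄, (V ⟶ U) → Prop}
    (hP : ∀ ⦃V W⦄ (f : V ⟶ U) (g : W ⟶ V), P f → P (g ≫ f)) {S : Sieve U} (hS : S ∈ J U)
    (h : ∀ ⦃V⦄ (f : V ⟶ U), S f → Locally J V (fun _ g => P (g ≫ f))) : Locally J U P := by
  let R : Sieve U := ⟨fun V f => P f, fun hf g => hP _ g hf⟩
  refine ⟨R, J.transitive hS R fun V f hf => ?_, fun V f hf => hf⟩
  obtain ⟨T, hT, hTP⟩ := h f hf
  exact J.superset_covering (fun W g hg => hTP g hg) hT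

/-- Same along a covering family. -/
lemma Locally.trans_family {P : ∀ ⦃V : C⦄, (V ⟶ U) → Prop}
    (hP : ∀ ⦃V W⦄ (f : V ⟶ U) (g : W ⟶ V), P f → P (g ≫ f)) {ι : Type*} {Y : ι → C}
    (a : ∀ i, Y i ⟶ U) (ha : Sieve.ofArrows Y a ∈ J U)
    (h : ∀ i, Locally J (Y i) (fun _ g => P (g ≫ a i))) : Locally J U P := by
  refine Locally.trans hP ha fun V f hf => ?_
  obtain ⟨i, b, rfl⟩ := (Sieve.mem_ofArrows_iff Y a f).1 hf
  obtain ⟨T, hT, hTP⟩ := h i
  exact ⟨T.pullback b, J.pullback_stable b hT, fun W g hg => by simpa using hTP (g ≫ b) hg⟩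

end Cover

variable {A : Type u} [Category.{v} A] [Abelian A]

/-- A family of objects `G U` which behaves like the representable objects of a category of sheaves. -/
structure IsLocGen (J : GrothendieckTopology C) (G : C ⥤ A) : Prop where
  lift : ∀ {M N : A} (p : M ⟶ N) [Epi p] {U : C} (g : G.obj U ⟶ N),
    Locally J U (fun _ f => ∃ h, h ≫ p = G.map f ≫ g)
  sep : ∀ {M : A} {U : C} (g : G.obj U ⟶ M), Locally J U (fun _ f => G.map f ≫ g = 0) → g = 0
  mono : ∀ {M N : A} (p : M ⟶ N), (∀ U (g : G.obj U ⟶ M), g ≫ p = 0 → g = 0) → Mono p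
  epi : ∀ {M N : A} (p : M ⟶ N),
    (∀ U (g : G.obj U ⟶ N), Locally J U (fun _ f => ∃ h, h ≫ p = G.map f ≫ g)) → Epi p

variable {J : GrothendieckTopology C} {G : C ⥤ A}

lemma IsLocGen.isZero (hG : IsLocGen J G) {M : A} (h : ∀ U (g : G.obj U ⟶ M), g = 0) : IsZero M := by
  have := hG.mono (0 : M ⟶ M) fun U g _ => h U g
  exact IsZero.of_mono_eq_zero (0 : M ⟶ M) rfl

variable [HasDerivedCategory.{w} A]

/-- The class in `H^j` of a map out of an object placed in degree `j`. -/
noncomputable def theta {X : A} {E : DerivedCategory A} {j : ℤ}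
    (φ : (singleFunctor A j).obj X ⟶ E) : X ⟶ (homologyFunctor A j).obj E :=
  (singleFunctorCompHomologyFunctorIso A j).inv.app X ≫ (homologyFunctor A j).map φ

lemma theta_comp {X : A} {E E' : DerivedCategory A} {j : ℤ} (φ : (singleFunctor A j).obj X ⟶ E)
    (a : E ⟶ E') : theta (φ ≫ a) = theta φ ≫ (homologyFunctor A j).map a := by
  simp [theta]

lemma theta_map_comp {X X' : A} {E : DerivedCategory A} {j : ℤ} (f : X' ⟶ X)
    (φ : (singleFunctor A j).obj X ⟶ E) :
    theta ((singleFunctor A j).map f ≫ φ) = f ≫ theta φ := by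
  dsimp [theta]
  rw [Functor.map_comp, ← Category.assoc, ← Category.assoc]
  congr 1
  exact ((singleFunctorCompHomologyFunctorIso A j).inv.naturality f).symm

lemma theta_zero {X : A} {E : DerivedCategory A} {j : ℤ} :
    theta (0 : (singleFunctor A j).obj X ⟶ E) = 0 := by
  simp [theta]

/-- A chain map out of a single complex, as a morphism in the derived category. -/
noncomputable def ofChain {X : A} {K : CochainComplex A ℤ} {j : ℤ}
    (ψ : (HomologicalComplex.single A (ComplexShape.up ℤ) j).obj X ⟶ K) :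
    (singleFunctor A j).obj X ⟶ Q.obj K :=
  Q.map ψ

lemma ofChain_comp {X : A} {K L : CochainComplex A ℤ} {j : ℤ}
    (ψ : (HomologicalComplex.single A (ComplexShape.up ℤ) j).obj X ⟶ K) (s : K ⟶ L) :
    ofChain ψ ≫ Q.map s = ofChain (ψ ≫ s) :=
  (Q.map_comp ψ s).symm

lemma map_ofChain {X X' : A} {K : CochainComplex A ℤ} {j : ℤ} (f : X' ⟶ X)
    (ψ : (HomologicalComplex.single A (ComplexShape.up ℤ) j).obj X ⟶ K) :
    (singleFunctor A j).map f ≫ ofChain ψ =
      ofChain ((HomologicalComplex.single A (ComplexShape.up ℤ) j).map f ≫ ψ) :=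
  (Q.map_comp ((HomologicalComplex.single A (ComplexShape.up ℤ) j).map f) ψ).symm

open HomologicalComplex in
lemma theta_ofChain {X : A} {K : CochainComplex A ℤ} {j : ℤ}
    (ψ : (single A (ComplexShape.up ℤ) j).obj X ⟶ K) (z : X ⟶ K.cycles j)
    (hz : z ≫ K.iCycles j = (singleObjXSelf (ComplexShape.up ℤ) j X).inv ≫ ψ.f j) :
    theta (ofChain ψ) = z ≫ K.homologyπ j ≫ (homologyFunctorFactors A j).inv.app K := by
  let K₀ := (single A (ComplexShape.up ℤ) j).obj X
  let F : K₀.homology j ⟶ (DerivedCategory.homologyFunctor A j).obj (Q.obj K₀) :=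
    (homologyFunctorFactors A j).inv.app K₀
  have h : (singleFunctorCompHomologyFunctorIso A j).inv.app X =
      (singleObjHomologySelfIso (ComplexShape.up ℤ) j X).inv ≫ F := by
    simp [singleFunctorCompHomologyFunctorIso, singleFunctorsPostcompQIso_inv_hom, F]
    erw [CategoryTheory.Functor.map_id, Category.comp_id, Category.comp_id]
    rfl
  have hc : (singleObjCyclesSelfIso (ComplexShape.up ℤ) j X).inv ≫ cyclesMap ψ j = z := by
    rw [← cancel_mono (K.iCycles j), hz, Category.assoc, cyclesMap_i,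
      singleObjCyclesSelfIso_inv_iCycles_assoc]
  have hn : homologyMap ψ j ≫ (homologyFunctorFactors A j).inv.app K =
      F ≫ (DerivedCategory.homologyFunctor A j).map (Q.map ψ) :=
    (homologyFunctorFactors A j).inv.naturality ψ
  have hs : (singleObjHomologySelfIso (ComplexShape.up ℤ) j X).inv =
      (singleObjCyclesSelfIso (ComplexShape.up ℤ) j X).inv ≫ K₀.homologyπ j := by
    rw [← cancel_epi (singleObjCyclesSelfIso (ComplexShape.up ℤ) j X).hom, Iso.hom_inv_id_assoc,
      singleObjHomologySelfIso_hom_singleObjHomologySelfIso_inv]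
  refine Eq.trans (b := (singleObjHomologySelfIso (ComplexShape.up ℤ) j X).inv ≫ F ≫
      (DerivedCategory.homologyFunctor A j).map (Q.map ψ)) ?_ ?_
  · dsimp [theta, ofChain]
    rw [h]
    exact Category.assoc _ _ _
  · rw [← hn, ← hc, hs, Category.assoc, Category.assoc, homologyπ_naturality_assoc]

/-- Every cohomology class is locally a map out of a generator. -/
theorem IsLocGen.exists_theta (hG : IsLocGen J G) {E : DerivedCategory A} {j : ℤ} {U : C}
    (g : G.obj U ⟶ (homologyFunctor A j).obj E) :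
    Locally J U (fun _ f => ∃ φ, theta (j := j) φ = G.map f ≫ g) := by
  let K := Q.objPreimage E
  let e : Q.obj K ≅ E := Q.objObjPreimageIso E
  let i : K.homology j ≅ (homologyFunctor A j).obj E :=
    ((homologyFunctorFactors A j).app K).symm ≪≫ (homologyFunctor A j).mapIso e
  refine (hG.lift (K.homologyπ j ≫ i.hom) g).mono fun V f ⟨h, hh⟩ => ?_
  let ψ : (HomologicalComplex.single A (ComplexShape.up ℤ) j).obj (G.obj V) ⟶ K :=
    HomologicalComplex.mkHomFromSingle (h ≫ K.iCycles j) (fun k _ => by simp)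
  refine ⟨ofChain ψ ≫ e.hom, ?_⟩
  rw [theta_comp, theta_ofChain ψ h (by simp [ψ]), ← hh]
  simp only [i, Category.assoc]
  rfl

/-- A map out of a generator with zero class is locally zero. -/
theorem IsLocGen.eq_zero_of_theta (hG : IsLocGen J G) {E : DerivedCategory A} {j : ℤ} {U : C}
    (φ : (singleFunctor A j).obj (G.obj U) ⟶ E) (hφ : theta φ = 0) :
    Locally J U (fun _ f => (singleFunctor A j).map (G.map f) ≫ φ = 0) := by
  let K := Q.objPreimage E
  let e : Q.obj K ≅ E := Q.objObjPreimageIso E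
  obtain ⟨L, ψ, s, hs, hfac⟩ := left_fac (X := (HomologicalComplex.single A (ComplexShape.up ℤ) j).obj
    (G.obj U)) (Y := K) (φ ≫ e.inv)
  let z : G.obj U ⟶ L.cycles j := L.liftCycles
    ((HomologicalComplex.singleObjXSelf (ComplexShape.up ℤ) j (G.obj U)).inv ≫ ψ.f j) (j + 1)
    (by simp) (by rw [Category.assoc, ψ.comm j (j + 1)]; simp)
  have hfac' : (φ ≫ e.inv) ≫ Q.map s = ofChain ψ := (IsIso.eq_comp_inv _).1 hfac
  have hψ : theta (ofChain ψ) = 0 := by
    rw [← hfac', Category.assoc, theta_comp, hφ, zero_comp]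
  rw [theta_ofChain ψ z (by simp [z])] at hψ
  have hz : z ≫ L.homologyπ j = 0 := by
    have : IsIso ((homologyFunctorFactors A j).inv.app L) :=
      inferInstanceAs (IsIso ((homologyFunctorFactors A j).app L).inv)
    let u : L.homology j ⟶ (homologyFunctor A j).obj (Q.obj L) := (homologyFunctorFactors A j).inv.app L
    have : IsIso u := this
    exact Limits.zero_of_comp_mono u ((Category.assoc _ _ _).trans hψ)
  have hex : (ShortComplex.mk (L.toCycles (j - 1) j) (L.homologyπ j)
      (L.toCycles_comp_homologyπ (j - 1) j)).Exact :=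
    ShortComplex.exact_of_g_is_cokernel _ (L.homologyIsCokernel (j - 1) j (by simp))
  obtain ⟨A', π, hπ, y, hy⟩ :=
    (ShortComplex.exact_iff_exact_up_to_refinements _).1 hex z hz
  refine (hG.lift π (𝟙 (G.obj U))).mono fun V f ⟨h, hh⟩ => ?_
  rw [Category.comp_id] at hh
  dsimp at y hy
  have hn : Nonempty (Homotopy
      ((HomologicalComplex.single A (ComplexShape.up ℤ) j).map (G.map f) ≫ ψ) 0) := by
    let H : ∀ k l : ℤ, (ComplexShape.up ℤ).Rel l k →
        (((HomologicalComplex.single A (ComplexShape.up ℤ) j).obj (G.obj V)).X k ⟶ L.X l) :=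
      fun k l hkl => if hk : k = j then
        (HomologicalComplex.singleObjXIsoOfEq (ComplexShape.up ℤ) j (G.obj V) k hk).hom ≫ h ≫ y ≫
          (L.XIsoOfEq (show j - 1 = l by simp at hkl; omega)).hom else 0
    suffices e : (HomologicalComplex.single A (ComplexShape.up ℤ) j).map (G.map f) ≫ ψ =
        Homotopy.nullHomotopicMap' H by
      rw [e]; exact ⟨Homotopy.nullHomotopy' H⟩
    apply HomologicalComplex.from_single_hom_ext
    rw [Homotopy.nullHomotopicMap'_f (show (ComplexShape.up ℤ).Rel (j - 1) j by simp)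
      (show (ComplexShape.up ℤ).Rel j (j + 1) by simp)]
    simp only [H, dif_pos]
    have hy' := congrArg (fun t => t ≫ L.iCycles j) hy
    simp [z] at hy'
    simp [HomologicalComplex.single_map_f_self, ← hh]
    erw [← hy']
    simp [HomologicalComplex.singleObjXSelf]
  have h0 : Q.map ((HomologicalComplex.single A (ComplexShape.up ℤ) j).map (G.map f) ≫ ψ) = 0 := by
    rw [DerivedCategory.Q_map_eq_of_homotopy _ hn.some, Functor.map_zero]
  rw [← cancel_mono e.inv, ← cancel_mono (Q.map s), zero_comp, zero_comp, Category.assoc,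
    Category.assoc, ← Category.assoc φ, hfac', map_ofChain]
  exact h0

lemma Locally.of_theta (hG : IsLocGen J G) {E : DerivedCategory A} {j : ℤ} {U : C}
    (g : G.obj U ⟶ (homologyFunctor A j).obj E)
    (h : ∀ V (f : V ⟶ U) (φ : (singleFunctor A j).obj (G.obj V) ⟶ E), theta φ = G.map f ≫ g →
      Locally J V (fun _ k => (singleFunctor A j).map (G.map k) ≫ φ = 0)) : g = 0 := by
  refine hG.sep g ?_
  obtain ⟨S, hS, hSP⟩ := hG.exists_theta g
  refine Locally.trans (fun V W f k hf => by rw [G.map_comp, Category.assoc, hf, comp_zero]) hS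
    fun V f hf => ?_
  obtain ⟨φ, hφ⟩ := hSP f hf
  refine (h V f φ hφ).mono fun W k hk => ?_
  change G.map (k ≫ f) ≫ g = 0
  rw [G.map_comp, Category.assoc, ← hφ, ← theta_map_comp, hk, theta_zero]

/-- An object without maps from generators in degree `j` on a cofinal system has no `H^j`. -/
theorem IsLocGen.isZero_homology (hG : IsLocGen J G) {E : DerivedCategory A} {j : ℤ}
    (h : ∀ V, ∀ φ : (singleFunctor A j).obj (G.obj V) ⟶ E,
      Locally J V (fun _ k => (singleFunctor A j).map (G.map k) ≫ φ = 0)) :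
    IsZero ((homologyFunctor A j).obj E) :=
  hG.isZero fun _ g => Locally.of_theta hG g fun V _ φ _ => h V φ

end GrothLib.SiteDer
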