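import Groth.Agent.Lib.SiteDer.PushAb
import Groth.Agent.Lib.SiteDer.RlimTower
import Groth.Prelude.Def_SiteCmp
import Mathlib.CategoryTheory.Limits.Preserves.Shapes.Products

/-! # The derived direct image of modules on ringed sites -/

universe w v v' u u'

open CategoryTheory CategoryTheory.Limits Opposite

namespace GrothLib.SiteDer

section General

variable {A : Type u} [Category.{v} A] [Abelian A] [IsGrothendieckAbelian.{v} A]
  [HasDerivedCategory.{w} A]

noncomputable instance commShift_res : (KInj.res A).CommShift ℤ :=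
  (KInj.resAdj A).rightAdjointCommShift ℤ

instance isTriangulated_res : (KInj.res A).IsTriangulated :=
  haveI : (KInj.resAdj A).CommShift ℤ := (KInj.resAdj A).commShift_of_leftAdjoint ℤ
  (KInj.resAdj A).isTriangulated_rightAdjoint

variable {B : Type u'} [Category.{v'} B] [Abelian B] [HasDerivedCategory.{w} B]
  {T : B ⥤ A} {U : A ⥤ B} [T.Additive] [U.Additive] [PreservesFiniteLimits U]
  [PreservesFiniteColimits U]

/-- From upstairs bijectivity to bijectivity on maps from `T F`. -/
theorem bijective_Qh_of_upstairs (adj : T ⊣ U) (F : B) (k : ℤ)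
    (hres : ∀ I : HomotopyCategory A (ComplexShape.up ℤ),
      (HomotopyCategory.subcategoryAcyclic A).rightOrthogonal I → Function.Bijective
        (DerivedCategory.Qh.map : (((HomotopyCategory.singleFunctors B).functor k).obj F ⟶
          (U.mapHomotopyCategory (ComplexShape.up ℤ)).obj I) → _))
    (Y : HomotopyCategory A (ComplexShape.up ℤ))
    (hY : Function.Bijective (DerivedCategory.Qh.map :
      (((HomotopyCategory.singleFunctors B).functor k).obj F ⟶
        (U.mapHomotopyCategory (ComplexShape.up ℤ)).obj Y) → _)) :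
    Function.Bijective (DerivedCategory.Qh.map :
      (((HomotopyCategory.singleFunctors A).functor k).obj (T.obj F) ⟶ Y) → _) := by
  let UK := U.mapHomotopyCategory (ComplexShape.up ℤ)
  let η : Y ⟶ (KInj.res A).obj (DerivedCategory.Qh.obj Y) := (KInj.resAdj A).unit.app Y
  have : IsIso (DerivedCategory.Qh.map η) := isIso_Qh_map_unit Y
  have : IsIso (DerivedCategory.Qh.map (UK.map η)) :=
    (NatIso.isIso_map_iff U.mapDerivedCategoryFactorsh η).1
      (inferInstanceAs (IsIso (U.mapDerivedCategory.map (DerivedCategory.Qh.map η))))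
  have h2 := bijective_comp_of_Qh _ hY (hres _ (KInj.rightOrthogonal_res _)) (η := UK.map η)
  let c : (T.mapHomotopyCategory (ComplexShape.up ℤ)).obj
      (((HomotopyCategory.singleFunctors B).functor k).obj F) ≅
      ((HomotopyCategory.singleFunctors A).functor k).obj (T.obj F) :=
    (HomotopyCategory.quotient A _).mapIso
      ((HomologicalComplex.singleMapHomologicalComplex T _ k).app F)
  let E : ∀ Z, (((HomotopyCategory.singleFunctors A).functor k).obj (T.obj F) ⟶ Z) ≃
      (((HomotopyCategory.singleFunctors B).functor k).obj F ⟶ UK.obj Z) :=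
    fun Z => c.symm.homFromEquiv.trans ((KInj.mapHomotopyAdj adj).homEquiv _ Z)
  refine bijective_Qh_of_comp (η := η) _ ?_ (bijective_Qh_res _ _)
  have hE : ∀ φ, E _ (φ ≫ η) = E Y φ ≫ UK.map η := fun φ => by
    simp only [E, Equiv.trans_apply, Iso.homFromEquiv_apply]
    rw [← Category.assoc, Adjunction.homEquiv_naturality_right]
  refine (Function.Bijective.of_comp_iff' (E _).bijective _).1 ?_
  have : E _ ∘ (fun φ => φ ≫ η) = (fun φ => φ ≫ UK.map η) ∘ E Y := funext hE
  exact (congrArg Function.Bijective this).mpr (h2.comp (E Y).bijective)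

end General

section Site

variable {C : Type u} [SmallCategory C] {J : GrothendieckTopology C}
  {O_C : Sheaf J CommRingCat.{u}} {D : Type u} [SmallCategory D] {K : GrothendieckTopology D}
  {O_D : Sheaf K CommRingCat.{u}} (f : ModSite.RMor O_C O_D)

/-- The generator placed in degree `k`, in the homotopy category. -/
noncomputable abbrev genK (O : Sheaf J CommRingCat.{u}) (U : C) (k : ℤ) :
    HomotopyCategory (ModSite.Mod O) (ComplexShape.up ℤ) :=
  ((HomotopyCategory.singleFunctors (ModSite.Mod O)).functor k).obj ((freeMod O).obj U)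

/-- `f_*` on homotopy categories. -/
noncomputable abbrev pushK :
    HomotopyCategory (ModSite.Mod O_C) (ComplexShape.up ℤ) ⥤
      HomotopyCategory (ModSite.Mod O_D) (ComplexShape.up ℤ) :=
  f.push.mapHomotopyCategory (ComplexShape.up ℤ)

/-- Sections over `V` of the direct image are sections over `fn V`. -/
noncomputable def pullFreeIso (V : D) :
    f.pull.obj ((freeMod O_D).obj V) ≅ (freeMod O_C).obj (f.fn.obj V) :=
  corepIso (F := SheafOfModules.toSheaf.{u} (ModSite.ringSh O_C) ⋙ sheafToPresheaf J AddCommGrpCat.{u} ⋙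
      (evaluation _ _).obj (op (f.fn.obj V)) ⋙ CategoryTheory.forget AddCommGrpCat.{u})
    { homEquiv := fun {M} => (f.adj.homEquiv _ M).trans (secMod (f.push.obj M) V)
      homEquiv_comp := fun g φ => by
        simp only [Equiv.trans_apply, Adjunction.homEquiv_naturality_right]
        exact secMod_comp V _ (f.push.map g) }
    { homEquiv := fun {M} => secMod M (f.fn.obj V)
      homEquiv_comp := fun g φ => secMod_comp (f.fn.obj V) φ g }

/-- The pull-back of a generator in degree `k`. -/
noncomputable def pullGenIso (V : D) (k : ℤ) :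
    (f.pull.mapHomotopyCategory (ComplexShape.up ℤ)).obj (genK O_D V k) ≅
      genK O_C (f.fn.obj V) k :=
  (HomotopyCategory.quotient _ _).mapIso
    ((HomologicalComplex.singleMapHomologicalComplex f.pull _ k).app _ ≪≫
      (HomologicalComplex.single _ _ k).mapIso (pullFreeIso f V))

attribute [local instance] HasDerivedCategory.standard

/-- The derived direct image computed by K-injective resolutions. -/
noncomputable abbrev Rres :
    DerivedCategory (ModSite.Mod O_C) ⥤ DerivedCategory (ModSite.Mod O_D) :=
  KInj.res (ModSite.Mod O_C) ⋙ SiteCmp.pushKh f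

/-- Direct images of orthogonal complexes compute maps from generators. -/
theorem bijective_Qh_pushK {I : HomotopyCategory (ModSite.Mod O_C) (ComplexShape.up ℤ)}
    (hI : (HomotopyCategory.subcategoryAcyclic _).rightOrthogonal I) (V : D) (k : ℤ) :
    Function.Bijective (DerivedCategory.Qh.map :
      (genK O_D V k ⟶ (pushK f).obj I) → _) :=
  bijective_Qh_of_upstairs (tensShAdj (ModSite.ringSh O_D)) (SheafCoh.freeY K V) k
    (fun _ hI' => bijective_Qh_toSheaf hI' V k) ((pushK f).obj I)
    (bijective_Qh_push f.fn hI V k)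

/-- Maps from generators into `Rf_* E` are maps from generators into `E`. -/
noncomputable def pushHomEquiv (V : D) (k : ℤ) (E : DerivedCategory (ModSite.Mod O_C)) :
    ((DerivedCategory.singleFunctor (ModSite.Mod O_D) k).obj ((freeMod O_D).obj V) ⟶ (Rres f).obj E) ≃
      ((DerivedCategory.singleFunctor (ModSite.Mod O_C) k).obj ((freeMod O_C).obj (f.fn.obj V)) ⟶ E) :=
  (Equiv.ofBijective _ (bijective_Qh_pushK f (KInj.rightOrthogonal_res E) V k)).symm.trans
    ((((KInj.mapHomotopyAdj f.adj).homEquiv (genK O_D V k) ((KInj.res _).obj E)).symm.trans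
      (pullGenIso f V k).homFromEquiv).trans
        ((KInj.resAdj (ModSite.Mod O_C)).homEquiv (genK O_C (f.fn.obj V) k) E).symm)

lemma pushHomEquiv_Qh (V : D) (k : ℤ) (E : DerivedCategory (ModSite.Mod O_C))
    (ψ : genK O_D V k ⟶ (pushK f).obj ((KInj.res _).obj E)) :
    pushHomEquiv f V k E (DerivedCategory.Qh.map ψ) =
      ((KInj.resAdj (ModSite.Mod O_C)).homEquiv (genK O_C (f.fn.obj V) k) E).symm
        ((pullGenIso f V k).inv ≫ ((KInj.mapHomotopyAdj f.adj).homEquiv _ _).symm ψ) :=
  congrArg
    (((((KInj.mapHomotopyAdj f.adj).homEquiv (genK O_D V k) ((KInj.res _).obj E)).symm.trans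
      (pullGenIso f V k).homFromEquiv).trans
        ((KInj.resAdj (ModSite.Mod O_C)).homEquiv (genK O_C (f.fn.obj V) k) E).symm))
    (Equiv.ofBijective_symm_apply_apply _ (bijective_Qh_pushK f (KInj.rightOrthogonal_res E) V k) ψ)

lemma pushHomEquiv_comp (V : D) (k : ℤ) {E E' : DerivedCategory (ModSite.Mod O_C)} (g : E ⟶ E')
    (φ : (DerivedCategory.singleFunctor (ModSite.Mod O_D) k).obj ((freeMod O_D).obj V) ⟶ (Rres f).obj E) :
    pushHomEquiv f V k E' (φ ≫ (Rres f).map g) = pushHomEquiv f V k E φ ≫ g := by
  obtain ⟨ψ, rfl⟩ := (bijective_Qh_pushK f (KInj.rightOrthogonal_res E) V k).2 φ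
  have h1 : DerivedCategory.Qh.map ψ ≫ (Rres f).map g =
      DerivedCategory.Qh.map (ψ ≫ (pushK f).map ((KInj.res _).map g)) :=
    (DerivedCategory.Qh.map_comp ψ _).symm
  refine (congrArg (pushHomEquiv f V k E') h1).trans ((pushHomEquiv_Qh f V k E' _).trans ?_)
  rw [Adjunction.homEquiv_naturality_right_symm, ← Category.assoc,
    Adjunction.homEquiv_naturality_right_symm]
  exact congrArg (· ≫ g) (pushHomEquiv_Qh f V k E ψ).symm

lemma pushHomEquiv_zero (V : D) (k : ℤ) (E : DerivedCategory (ModSite.Mod O_C)) :
    pushHomEquiv f V k E 0 = 0 := by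
  have := pushHomEquiv_comp f V k (E := E) (E' := E) 0 0
  simpa using this

/-- `Rf_*` is left t-exact. -/
theorem isGE_Rres (E : DerivedCategory (ModSite.Mod O_C)) (n : ℤ) [E.IsGE n] :
    ((Rres f).obj E).IsGE n :=
  (DerivedCategory.isGE_iff _ n).2 fun i hi =>
    (isLocGen_freeMod (ModSite.ringSh O_D)).isZero_homology fun V φ => Locally.of_forall fun W k => by
      have hz : ∀ ψ : (DerivedCategory.singleFunctor (ModSite.Mod O_D) i).obj ((freeMod O_D).obj W) ⟶
          (Rres f).obj E, ψ = 0 := fun ψ => by
        apply (pushHomEquiv f W i E).injective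
        have h0 := fun x : (DerivedCategory.singleFunctor (ModSite.Mod O_C) i).obj
            ((freeMod O_C).obj (f.fn.obj W)) ⟶ E =>
          (DerivedCategory.TStructure.t (C := ModSite.Mod O_C)).zero_of_isLE_of_isGE x i n (by omega)
            inferInstance inferInstance
        exact (h0 _).trans (h0 _).symm
      exact hz _

/-- `Rf_*` preserves products. -/
theorem isIso_piComparison_Rres {ι : Type} (E : ι → DerivedCategory (ModSite.Mod O_C)) [HasProduct E]
    [HasProduct fun i => (Rres f).obj (E i)] : IsIso (piComparison (Rres f) E) := by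
  let R' := Rres f
  let PK := pushK f
  have : PK.IsRightAdjoint := (KInj.mapHomotopyAdj f.adj).isRightAdjoint
  let P := PK.obj ((KInj.res _).obj (∏ᶜ E))
  let hP : IsLimit (Fan.mk P fun i => PK.map ((KInj.res _).map (Pi.π E i))) :=
    isLimitFanMkObjOfIsLimit (KInj.res _ ⋙ PK) _ _ (productIsProduct E)
  let Q := (KInj.res (ModSite.Mod O_D)).obj (∏ᶜ fun i => R'.obj (E i))
  let η : P ⟶ (KInj.res _).obj (DerivedCategory.Qh.obj P) := (KInj.resAdj _).unit.app P
  let g : P ⟶ Q := η ≫ (KInj.res _).map (piComparison R' E)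
  have hg : ∀ i, g ≫ (KInj.res _).map (Pi.π (fun i => R'.obj (E i)) i) =
      PK.map ((KInj.res _).map (Pi.π E i)) ≫
        (KInj.resAdj _).unit.app (PK.obj ((KInj.res _).obj (E i))) := fun i => by
    simp only [g, η, Category.assoc, ← Functor.map_comp, piComparison_comp_π]
    exact ((KInj.resAdj (ModSite.Mod O_D)).unit.naturality
      (PK.map ((KInj.res _).map (Pi.π E i)))).symm
  have hcomp : ∀ i V k, Function.Bijective (fun φ : genK O_D V k ⟶ PK.obj ((KInj.res _).obj (E i)) =>
      φ ≫ (KInj.resAdj _).unit.app (PK.obj ((KInj.res _).obj (E i)))) := fun i V k =>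
    bijective_comp_of_Qh _ (bijective_Qh_pushK f (KInj.rightOrthogonal_res _) V k)
      (bijective_Qh_res _ _)
  have hbij : ∀ V k, Function.Bijective (fun φ : genK O_D V k ⟶ P => φ ≫ g) := by
    intro V k
    constructor
    · intro φ₁ φ₂ h
      refine Fan.IsLimit.hom_ext hP _ _ fun i => (hcomp i V k).1 ?_
      have := congrArg (fun x => x ≫ (KInj.res _).map (Pi.π (fun i => R'.obj (E i)) i)) h
      simp only [Category.assoc, hg] at this
      simpa using this
    · intro y
      choose x hx using fun i =>
        (hcomp i V k).2 (y ≫ (KInj.res _).map (Pi.π (fun i => R'.obj (E i)) i))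
      refine ⟨Fan.IsLimit.lift hP x, ?_⟩
      apply ((KInj.resAdj _).homEquiv _ _).symm.injective
      apply Limits.Pi.hom_ext
      intro i
      rw [← Adjunction.homEquiv_naturality_right_symm, ← Adjunction.homEquiv_naturality_right_symm,
        Category.assoc, hg]
      refine congrArg _ (Eq.trans ?_ (hx i))
      exact (Category.assoc _ _ _).symm.trans (congrArg (· ≫ _) (Fan.IsLimit.fac hP x i))
  have h1 : IsIso (DerivedCategory.Qh.map g) := (isLocGen_freeMod (ModSite.ringSh O_D)).isIso_Qh_map g hbij
  have : IsIso (DerivedCategory.Qh.map η) := isIso_Qh_map_unit P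
  rw [Functor.map_comp] at h1
  have h2 := @IsIso.of_isIso_comp_left _ _ _ _ _ _ _ this h1
  exact (NatIso.isIso_map_iff (asIso (KInj.resAdj (ModSite.Mod O_D)).counit) (piComparison R' E)).1 h2

end Site

end GrothLib.SiteDer
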