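import Groth.Agent.Lib.SiteDer.Generic
import Groth.Agent.Lib.KInj.SiteMod
import Mathlib.RingTheory.Flat.Equalizer
import Mathlib.RingTheory.Flat.TorsionFree
import Mathlib.Algebra.Category.Grp.Adjunctions
import Mathlib.Algebra.Category.Grp.Abelian
import Mathlib.CategoryTheory.Sites.EpiMono
import Mathlib.CategoryTheory.Preadditive.Biproducts

/-! # `R ⊗_ℤ -` on torsion-free abelian sheaves -/

universe u

open CategoryTheory CategoryTheory.Limits Opposite TensorProduct

namespace GrothLib.SiteDer

variable {C : Type u} [SmallCategory C]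

section Presheaf

variable (R : Cᵒᵖ ⥤ RingCat.{u})

/-- The abelian presheaf `X ↦ R(X) ⊗_ℤ F(X)`. -/
noncomputable def tensPre (F : Cᵒᵖ ⥤ AddCommGrpCat.{u}) : Cᵒᵖ ⥤ AddCommGrpCat.{u} where
  obj X := AddCommGrpCat.of (R.obj X ⊗[ℤ] F.obj X)
  map f := AddCommGrpCat.ofHom (TensorProduct.map (R.map f).hom.toAddMonoidHom.toIntLinearMap
    (F.map f).hom.toIntLinearMap).toAddMonoidHom
  map_id X := by
    ext z
    change TensorProduct.map _ _ z = z
    induction z using TensorProduct.induction_on with
    | zero => simp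
    | tmul r x => simp
    | add a b ha hb => rw [map_add, ha, hb]
  map_comp f g := by
    ext z
    change TensorProduct.map _ _ z = TensorProduct.map _ _ (TensorProduct.map _ _ z)
    induction z using TensorProduct.induction_on with
    | zero => simp
    | tmul r x => simp
    | add a b ha hb => rw [map_add, map_add, map_add, ha, hb]

noncomputable instance tensPreModule (F : Cᵒᵖ ⥤ AddCommGrpCat.{u}) (X : Cᵒᵖ) :
    Module (R.obj X) ((tensPre R F).obj X) :=
  inferInstanceAs (Module (R.obj X) (R.obj X ⊗[ℤ] F.obj X))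

lemma tensPre_map_smul (F : Cᵒᵖ ⥤ AddCommGrpCat.{u}) ⦃X Y : Cᵒᵖ⦄ (f : X ⟶ Y) (r : R.obj X)
    (m : (tensPre R F).obj X) :
    (tensPre R F).map f (r • m) = R.map f r • (tensPre R F).map f m := by
  change TensorProduct.map _ _ (r • (show R.obj X ⊗[ℤ] F.obj X from m)) =
    R.map f r • TensorProduct.map _ _ (show R.obj X ⊗[ℤ] F.obj X from m)
  generalize (show R.obj X ⊗[ℤ] F.obj X from m) = z
  induction z using TensorProduct.induction_on with
  | zero =>
    simp only [smul_zero, map_zero]
    exact (smul_zero (R.map f r)).symm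
  | tmul s x =>
    simp [TensorProduct.smul_tmul', map_mul]
    exact (TensorProduct.smul_tmul' (R.map f r) ((R.map f).hom s) ((F.map f).hom x)).symm
  | add a b ha hb =>
    simp only [smul_add, map_add, ha, hb]
    exact (smul_add (R.map f r) _ _).symm

/-- The presheaf of modules `R ⊗_ℤ F`. -/
noncomputable def tens (F : Cᵒᵖ ⥤ AddCommGrpCat.{u}) : PresheafOfModules.{u} R :=
  PresheafOfModules.ofPresheaf (tensPre R F) (tensPre_map_smul R F)

variable {R}

/-- Morphisms out of `R ⊗_ℤ F`. -/
noncomputable def tensDesc {F : Cᵒᵖ ⥤ AddCommGrpCat.{u}} {N : PresheafOfModules.{u} R}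
    (ψ : F ⟶ N.presheaf) : tens R F ⟶ N :=
  let l : ∀ X, R.obj X ⊗[ℤ] F.obj X →ₗ[ℤ] N.obj X := fun X => TensorProduct.lift
    (LinearMap.mk₂ ℤ (fun r x => r • (show N.obj X from ψ.app X x))
      (fun r s x => add_smul r s _)
      (fun c r x => smul_assoc c r _)
      (fun r x y => by
        change r • (show N.obj X from ψ.app X (x + y)) = _
        rw [map_add]; exact smul_add r _ _)
      (fun c r x => by
        change r • (show N.obj X from ψ.app X (c • x)) = _
        rw [map_zsmul]; exact map_zsmul (DistribSMul.toAddMonoidHom (N.obj X) r) c _))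
  PresheafOfModules.homMk
    { app := fun X => AddCommGrpCat.ofHom (l X).toAddMonoidHom
      naturality := fun X Y f => by
        ext z
        change l Y (TensorProduct.map _ _ z) = N.presheaf.map f (l X z)
        induction z using TensorProduct.induction_on with
        | zero =>
          simp only [map_zero]
          exact (map_zero (N.presheaf.map f).hom).symm
        | tmul r x =>
          simp only [l, TensorProduct.map_tmul, TensorProduct.lift.tmul, LinearMap.mk₂_apply]
          have := ConcreteCategory.congr_hom (ψ.naturality f) x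
          exact (congrArg (R.map f r • ·) this).trans (PresheafOfModules.map_smul N f r _).symm
        | add a b ha hb =>
          simp only [map_add, ha, hb]
          exact (map_add (N.presheaf.map f).hom _ _).symm }
    fun X r z => by
      change l X (r • (show R.obj X ⊗[ℤ] F.obj X from z)) = r • l X (show R.obj X ⊗[ℤ] F.obj X from z)
      generalize (show R.obj X ⊗[ℤ] F.obj X from z) = w
      induction w using TensorProduct.induction_on with
      | zero => simp
      | tmul s x =>
        have hl : ∀ a : R.obj X, l X (a ⊗ₜ[ℤ] x) = a • (show N.obj X from ψ.app X x) := fun a =>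
          TensorProduct.lift.tmul _ _
        rw [TensorProduct.smul_tmul', smul_eq_mul]
        exact (hl _).trans ((mul_smul r s _).trans (congrArg (r • ·) (hl s).symm))
      | add a b ha hb => simp only [smul_add, map_add, ha, hb]

lemma tensDesc_tmul {F : Cᵒᵖ ⥤ AddCommGrpCat.{u}} {N : PresheafOfModules.{u} R}
    (ψ : F ⟶ N.presheaf) (X : Cᵒᵖ) (r : R.obj X) (x : F.obj X) :
    (tensDesc ψ).app X (r ⊗ₜ[ℤ] x) = r • (show N.obj X from ψ.app X x) := by
  simp [tensDesc, PresheafOfModules.homMk]
  rfl

/-- The universal property of `R ⊗_ℤ F`. -/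
noncomputable def tensEquiv (F : Cᵒᵖ ⥤ AddCommGrpCat.{u}) (N : PresheafOfModules.{u} R) :
    (tens R F ⟶ N) ≃ (F ⟶ (PresheafOfModules.toPresheaf R).obj N) where
  toFun φ :=
    { app := fun X => AddCommGrpCat.ofHom
        (AddMonoidHom.mk' (fun x => φ.app X ((1 : R.obj X) ⊗ₜ[ℤ] x)) fun x y => by
          change φ.app X ((1 : R.obj X) ⊗ₜ[ℤ] (x + y)) = _
          rw [tmul_add]; exact map_add (φ.app X).hom _ _)
      naturality := fun X Y f => by
        ext x
        change φ.app Y ((1 : R.obj Y) ⊗ₜ[ℤ] F.map f x) = N.map f (φ.app X ((1 : R.obj X) ⊗ₜ[ℤ] x))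
        rw [← PresheafOfModules.naturality_apply φ f]
        congr 1
        change _ = TensorProduct.map _ _ ((1 : R.obj X) ⊗ₜ[ℤ] x)
        simp }
  invFun := tensDesc
  left_inv φ := by
    apply PresheafOfModules.hom_ext
    intro X
    ext z
    change R.obj X ⊗[ℤ] F.obj X at z
    induction z using TensorProduct.induction_on with
    | zero => exact (map_zero _).trans (map_zero _).symm
    | tmul r x =>
      refine (tensDesc_tmul _ X r x).trans ?_
      refine ((φ.app X).hom.map_smul r ((1 : R.obj X) ⊗ₜ[ℤ] x)).symm.trans (congrArg _ ?_)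
      change r • ((1 : R.obj X) ⊗ₜ[ℤ] x) = r ⊗ₜ[ℤ] x
      rw [TensorProduct.smul_tmul', smul_eq_mul, mul_one]
    | add a b ha hb => exact (map_add _ a b).trans ((congrArg₂ (· + ·) ha hb).trans (map_add _ a b).symm)
  right_inv ψ := by
    ext X x
    exact (tensDesc_tmul ψ X 1 x).trans (one_smul _ _)

variable (R)

/-- `R ⊗_ℤ -` as a functor. -/
noncomputable def tensFunctor : (Cᵒᵖ ⥤ AddCommGrpCat.{u}) ⥤ PresheafOfModules.{u} R :=
  Adjunction.leftAdjointOfEquiv (G := PresheafOfModules.toPresheaf R) (F_obj := tens R)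
    (fun F N => tensEquiv F N) (fun F N N' g φ => by ext X x; rfl)

/-- `R ⊗_ℤ - ⊣ toPresheaf`. -/
noncomputable def tensPreAdj : tensFunctor R ⊣ PresheafOfModules.toPresheaf R :=
  Adjunction.adjunctionOfEquivLeft _ _

lemma tensFunctor_map_app_tmul {F F' : Cᵒᵖ ⥤ AddCommGrpCat.{u}} (φ : F ⟶ F') (X : Cᵒᵖ)
    (r : R.obj X) (x : F.obj X) :
    ((tensFunctor R).map φ).app X (r ⊗ₜ[ℤ] x) = r ⊗ₜ[ℤ] φ.app X x := by
  refine (tensDesc_tmul _ X r x).trans ?_
  change r • ((1 : R.obj X) ⊗ₜ[ℤ] φ.app X x) = _
  rw [TensorProduct.smul_tmul', smul_eq_mul, mul_one]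

lemma tensFunctor_map_injective {F F' : Cᵒᵖ ⥤ AddCommGrpCat.{u}} (φ : F ⟶ F') (X : Cᵒᵖ)
    {M : Type u} [AddCommGroup M] (g : F'.obj X →+ M) (hφ : Function.Injective (φ.app X))
    (hex : Function.Exact (φ.app X) g) (hM : ∀ (n : ℤ) (m : M), n ≠ 0 → n • m = 0 → m = 0) :
    Function.Injective (((tensFunctor R).map φ).app X) := by
  let M₀ := g.range
  have : Module.IsTorsionFree ℤ M₀ := by
    rw [Submodule.isTorsionFree_iff_torsion_eq_bot, eq_bot_iff]
    rintro ⟨m, hm⟩ ⟨⟨n, hn⟩, hnm⟩
    rw [Submodule.mem_bot]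
    refine Subtype.ext (hM n m (nonZeroDivisors.ne_zero hn) ?_)
    exact congrArg Subtype.val hnm
  have : Module.Flat ℤ M₀ := Module.Flat.flat_iff_torsion_eq_bot_of_isBezout.2
    (Submodule.isTorsionFree_iff_torsion_eq_bot.1 inferInstance)
  have key := LinearMap.lTensor_injective_of_exact_of_flat g.rangeRestrict.toIntLinearMap
    g.rangeRestrict_surjective (φ.app X).hom.toIntLinearMap hφ
    (fun y => Subtype.ext_iff.trans (hex y)) (R.obj X)
  have e : ∀ z : R.obj X ⊗[ℤ] F.obj X, ((tensFunctor R).map φ).app X z =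
      LinearMap.lTensor (R.obj X) (φ.app X).hom.toIntLinearMap z := fun z => by
    induction z using TensorProduct.induction_on with
    | zero => exact map_zero _
    | tmul r x => exact tensFunctor_map_app_tmul R φ X r x
    | add a b ha hb => exact (map_add _ a b).trans ((congrArg₂ (· + ·) ha hb).trans (map_add _ a b).symm)
  intro a b h
  exact key ((e a).symm.trans (h.trans (e b)))

end Presheaf

section Sheaf

variable {J : GrothendieckTopology C} (R : Sheaf J RingCat.{u})

/-- `R ⊗_ℤ -` from abelian sheaves to sheaves of modules. -/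
noncomputable def tensSh : Sheaf J AddCommGrpCat.{u} ⥤ SheafOfModules.{u} R :=
  sheafToPresheaf J AddCommGrpCat.{u} ⋙ tensFunctor R.obj ⋙
    PresheafOfModules.sheafification.{u} (𝟙 R.obj)

/-- `R ⊗_ℤ - ⊣ toSheaf`. -/
noncomputable def tensShAdj : tensSh R ⊣ SheafOfModules.toSheaf.{u} R :=
  Adjunction.restrictFullyFaithful (iC := sheafToPresheaf J AddCommGrpCat.{u}) (iD := 𝟭 _)
    ((tensPreAdj R.obj).comp (PresheafOfModules.sheafificationAdjunction (𝟙 R.obj)))
    (fullyFaithfulSheafToPresheaf J AddCommGrpCat.{u}) (Functor.FullyFaithful.id _)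
    (Functor.rightUnitor _).symm (NatIso.ofComponents fun N => Iso.refl _)

attribute [local instance] preservesBinaryBiproducts_of_preservesBinaryCoproducts in
instance : (tensSh R).Additive :=
  have : (tensSh R).IsLeftAdjoint := (tensShAdj R).isLeftAdjoint
  Functor.additive_of_preservesBinaryBiproducts _

instance : PreservesFiniteColimits (tensSh R) :=
  have : PreservesColimitsOfSize.{0, 0} (tensSh R) := (tensShAdj R).leftAdjoint_preservesColimits
  inferInstance

/-- Torsion-free abelian sheaves. -/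
def torsionFree (J : GrothendieckTopology C) : ObjectProperty (Sheaf J AddCommGrpCat.{u}) :=
  fun F => ∀ (X : Cᵒᵖ) (n : ℤ) (x : F.obj.obj X), n ≠ 0 → n • x = 0 → x = 0

lemma torsionFree_of_mono {X Y : Sheaf J AddCommGrpCat.{u}} (f : X ⟶ Y) (hf : Mono f)
    (hY : torsionFree J Y) : torsionFree J X := fun U n x hn hx => by
  have := (sheafToPresheaf J AddCommGrpCat.{u}).map_mono f
  have hi : Function.Injective (f.hom.app U) := by
    have : Mono f.hom := this
    exact (AddCommGrpCat.mono_iff_injective _).1 ((NatTrans.mono_iff_mono_app f.hom).1 inferInstance U)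
  exact hi ((hY U n _ hn (by rw [← map_zsmul, hx, map_zero])).trans (map_zero _).symm)

lemma torsionFree_biprod {X Y : Sheaf J AddCommGrpCat.{u}} (hX : torsionFree J X)
    (hY : torsionFree J Y) : torsionFree J (X ⊞ Y) := fun U n x hn hx => by
  let ev := sheafToPresheaf J AddCommGrpCat.{u} ⋙ (evaluation _ _).obj U
  have h : 𝟙 (ev.obj (X ⊞ Y)) = ev.map biprod.fst ≫ ev.map biprod.inl +
      ev.map biprod.snd ≫ ev.map biprod.inr := by
    rw [← ev.map_comp, ← ev.map_comp, ← ev.map_add, biprod.total, ev.map_id]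
  have hz : ∀ {Z : Sheaf J AddCommGrpCat.{u}} (p : X ⊞ Y ⟶ Z), torsionFree J Z →
      ev.map p x = 0 := fun p hZ => hZ U n _ hn (by
    rw [show n • ev.map p x = ev.map p (n • x) from (map_zsmul _ _ _).symm, hx, map_zero])
  have e := ConcreteCategory.congr_hom h x
  simp only [AddCommGrpCat.hom_add, AddMonoidHom.add_apply, ConcreteCategory.comp_apply,
    ConcreteCategory.id_apply] at e
  rw [e]
  erw [hz biprod.fst hX, hz biprod.snd hY]
  simp

lemma torsionFree_presheafToSheaf (P : Cᵒᵖ ⥤ AddCommGrpCat.{u})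
    (h : ∀ (X : Cᵒᵖ) (n : ℤ) (x : P.obj X), n ≠ 0 → n • x = 0 → x = 0) :
    torsionFree J ((presheafToSheaf J AddCommGrpCat.{u}).obj P) := fun U n x hn hx => by
  have : Mono (n • 𝟙 P) := by
    refine @NatTrans.mono_of_mono_app _ _ _ _ _ _ _ fun X => ?_
    rw [AddCommGrpCat.mono_iff_injective, injective_iff_map_eq_zero]
    intro y hy
    exact h X n y hn (by simpa using hy)
  have h2 : (presheafToSheaf J AddCommGrpCat.{u}).map (n • 𝟙 P) = n • 𝟙 _ := by
    rw [Functor.map_zsmul, CategoryTheory.Functor.map_id]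
  have h3 : Mono (n • 𝟙 ((presheafToSheaf J AddCommGrpCat.{u}).obj P)) := by
    rw [← h2]; infer_instance
  have := (sheafToPresheaf J AddCommGrpCat.{u}).map_mono
    (n • 𝟙 ((presheafToSheaf J AddCommGrpCat.{u}).obj P))
  have hi := (AddCommGrpCat.mono_iff_injective _).1
    ((NatTrans.mono_iff_mono_app (n • 𝟙 ((presheafToSheaf J AddCommGrpCat.{u}).obj P)).hom).1 this U)
  apply hi
  let ev := sheafToPresheaf J AddCommGrpCat.{u} ⋙ (evaluation _ _).obj U
  refine Eq.trans ?_ (map_zero _).symm
  show (ev.map (n • 𝟙 ((presheafToSheaf J AddCommGrpCat.{u}).obj P))) x = 0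
  rw [Functor.map_zsmul, CategoryTheory.Functor.map_id]
  exact hx

lemma exists_torsionFree_cover (X : Sheaf J AddCommGrpCat.{u}) :
    ∃ (F : Sheaf J AddCommGrpCat.{u}) (π : F ⟶ X), Epi π ∧ torsionFree J F := by
  let P : Cᵒᵖ ⥤ AddCommGrpCat.{u} := X.obj ⋙ CategoryTheory.forget AddCommGrpCat.{u} ⋙ AddCommGrpCat.free
  let p : P ⟶ X.obj := Functor.whiskerLeft X.obj AddCommGrpCat.adj.counit ≫ (Functor.rightUnitor _).hom
  refine ⟨(presheafToSheaf J AddCommGrpCat.{u}).obj P,
    ((sheafificationAdjunction J AddCommGrpCat.{u}).homEquiv _ _).symm p, ?_,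
    torsionFree_presheafToSheaf P fun U n x hn hx => ?_⟩
  · have : Epi p := by
      refine @NatTrans.epi_of_epi_app _ _ _ _ _ _ _ fun U => ?_
      rw [AddCommGrpCat.epi_iff_surjective]
      intro x
      refine ⟨FreeAbelianGroup.of x, ?_⟩
      simp [p]
      exact FreeAbelianGroup.lift_apply_of _ x
    rw [Adjunction.homEquiv_counit]
    have : Epi ((presheafToSheaf J AddCommGrpCat.{u}).map p) := inferInstance
    have : IsIso ((sheafificationAdjunction J AddCommGrpCat.{u}).counit.app X) := inferInstance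
    exact @epi_comp _ _ _ _ _ _ ‹Epi _› _ (@IsIso.epi_of_iso _ _ _ _ _ this)
  · let e := FreeAbelianGroup.equivFinsupp (X.obj.obj U)
    have h := congrArg e (show n • (show FreeAbelianGroup (X.obj.obj U) from x) = 0 from hx)
    rw [map_zsmul, map_zero, smul_eq_zero] at h
    exact e.injective ((h.resolve_left hn).trans (map_zero e).symm)

/-- `R ⊗_ℤ -` is exact enough on torsion-free sheaves. -/
theorem isExactClass_tensSh : IsExactClass (tensSh R) (torsionFree J) where
  of_mono f hf := torsionFree_of_mono f hf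
  biprod := torsionFree_biprod
  cover := exists_torsionFree_cover
  mono_map S hS h₃ := by
    have := hS.mono_f
    have := (sheafToPresheaf J AddCommGrpCat.{u}).map_mono S.f
    have hm : Mono ((tensFunctor R.obj).map S.f.hom) := by
      apply Functor.mono_of_mono_map (PresheafOfModules.toPresheaf R.obj)
      refine @NatTrans.mono_of_mono_app _ _ _ _ _ _ _ fun X => ?_
      rw [AddCommGrpCat.mono_iff_injective]
      let ev := sheafToPresheaf J AddCommGrpCat.{u} ⋙ (evaluation _ _).obj X
      have hex : (S.map ev).Exact := hS.exact.map_of_mono_of_preservesKernel ev inferInstance inferInstance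
      refine tensFunctor_map_injective R.obj S.f.hom X (S.g.hom.app X).hom ?_ ?_
        (fun n m => h₃ X n m)
      · have : Mono S.f.hom := ‹Mono ((sheafToPresheaf J AddCommGrpCat.{u}).map S.f)›
        exact (AddCommGrpCat.mono_iff_injective _).1 ((NatTrans.mono_iff_mono_app S.f.hom).1 inferInstance X)
      · exact (ShortComplex.ab_exact_iff_function_exact _).1 hex
    exact @Functor.map_mono _ _ _ _ (PresheafOfModules.sheafification.{u} (𝟙 R.obj)) inferInstance _ _ _ hm

end Sheaf

end GrothLib.SiteDer
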