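import Groth.Agent.Lib.SiteDer.Generic
import Groth.Agent.Lib.KInj.Derived
import Mathlib.Algebra.Homology.DerivedCategory.Ext.Basic
import Mathlib.Algebra.Homology.DerivedCategory.ExactFunctor

/-! # Maps out of `T F` in the derived category through `Ext` groups upstairs -/

universe w w' w'' v v' u u'

open CategoryTheory Limits

namespace GrothLib.SiteDer

variable {B : Type u'} [Category.{v'} B] [Abelian B] [HasDerivedCategory.{w'} B]

open DerivedCategory in
/-- Vanishing of an `Ext` group as vanishing of maps between shifted objects. -/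
theorem eq_zero_of_subsingleton_ext [HasExt.{w''} B] (X N : B) (k q : ℤ) (n : ℕ)
    (h : k - q = n) (hs : Subsingleton (Abelian.Ext.{w''} X N n))
    (φ : (singleFunctor B k).obj X ⟶ (singleFunctor B q).obj N) : φ = 0 := by
  have : Subsingleton (ShiftedHom ((singleFunctor B 0).obj X) ((singleFunctor B 0).obj N) (n : ℤ)) :=
    Abelian.Ext.homEquiv.symm.subsingleton
  let e₁ : ((singleFunctor B k).obj X)⟦k⟧ ≅ (singleFunctor B 0).obj X :=
    ((singleFunctors B).shiftIso k 0 k (by omega)).app X
  let e₂ : ((singleFunctor B q).obj N)⟦k⟧ ≅ (singleFunctor B (-(n : ℤ))).obj N :=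
    ((singleFunctors B).shiftIso k (-(n : ℤ)) q (by omega)).app N
  let e₃ : ((singleFunctor B 0).obj N)⟦(n : ℤ)⟧ ≅ (singleFunctor B (-(n : ℤ))).obj N :=
    ((singleFunctors B).shiftIso (n : ℤ) (-(n : ℤ)) 0 (by omega)).app N
  apply (shiftFunctor (DerivedCategory B) k).map_injective
  have h0 : e₁.inv ≫ φ⟦k⟧' ≫ e₂.hom ≫ e₃.inv =
      (0 : (singleFunctor B 0).obj X ⟶ ((singleFunctor B 0).obj N)⟦(n : ℤ)⟧) :=
    @Subsingleton.elim _ this _ _
  rw [Functor.map_zero, ← cancel_epi e₁.inv, ← cancel_mono e₂.hom, ← cancel_mono e₃.inv]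
  simpa using h0

variable {A : Type u} [Category.{v} A] [Abelian A] [IsGrothendieckAbelian.{v} A]
  [HasDerivedCategory.{w} A]
  {T : B ⥤ A} {U : A ⥤ B} [T.Additive] [U.Additive] [PreservesFiniteColimits T]
  [PreservesFiniteLimits U] [PreservesFiniteColimits U] {P : ObjectProperty B}

/-- The transfer: maps from `T F` to `M` vanish when the corresponding `Ext` group does. -/
theorem eq_zero_of_subsingleton_ext' [HasExt.{w''} B] (hP : IsExactClass T P) (adj : T ⊣ U)
    (F : B) (hF : P F) (hP0 : ∀ Z : B, IsZero Z → P Z) (M : A) (k q : ℤ) (n : ℕ) (h : k - q = n)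
    (hs : Subsingleton (Abelian.Ext.{w''} F (U.obj M) n))
    (ψ : (DerivedCategory.singleFunctor A k).obj (T.obj F) ⟶
      (DerivedCategory.singleFunctor A q).obj M) : ψ = 0 := by
  let Y : HomotopyCategory A (ComplexShape.up ℤ) :=
    ((HomotopyCategory.singleFunctors A).functor q).obj M
  let I := (KInj.res A).obj (DerivedCategory.Qh.obj Y)
  let S : CochainComplex B ℤ := (HomologicalComplex.single B (ComplexShape.up ℤ) k).obj F
  let UK := U.mapHomotopyCategory (ComplexShape.up ℤ)
  let e : DerivedCategory.Qh.obj (UK.obj I) ≅ (DerivedCategory.singleFunctor B q).obj (U.obj M) :=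
    (U.mapDerivedCategoryFactorsh.app I).symm ≪≫
      U.mapDerivedCategory.mapIso ((asIso (KInj.resAdj A).counit).app (DerivedCategory.Qh.obj Y)) ≪≫
      (U.mapDerivedCategorySingleFunctor q).app M
  have hS : ∀ i, P (S.X i) := fun i => by
    by_cases hi : i = k
    · subst hi
      exact hP.of_mono (HomologicalComplex.singleObjXSelf (ComplexShape.up ℤ) i F).hom inferInstance hF
    · exact hP0 _ (HomologicalComplex.isZero_single_obj_X _ _ _ _ hi)
  have h1 : ∀ g : (HomotopyCategory.quotient B (ComplexShape.up ℤ)).obj S ⟶ UK.obj I, g = 0 := fun g => by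
    refine (bijective_Qh_map hP adj (KInj.rightOrthogonal_res _) S hS).1 ?_
    have hz : ∀ g' : (DerivedCategory.singleFunctor B k).obj F ⟶
        DerivedCategory.Qh.obj (UK.obj I), g' = 0 := fun g' =>
      (cancel_mono e.hom).1 ((eq_zero_of_subsingleton_ext F (U.obj M) k q n h hs _).trans
        zero_comp.symm)
    exact (hz _).trans (hz _).symm
  let c : (T.mapHomotopyCategory (ComplexShape.up ℤ)).obj ((HomotopyCategory.quotient B (ComplexShape.up ℤ)).obj S) ≅
      ((HomotopyCategory.singleFunctors A).functor k).obj (T.obj F) :=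
    (HomotopyCategory.quotient A _).mapIso ((HomologicalComplex.singleMapHomologicalComplex T _ k).app F)
  have h2 : ∀ g : ((HomotopyCategory.singleFunctors A).functor k).obj (T.obj F) ⟶ I, g = 0 :=
    fun g => by
      apply (cancel_epi c.hom).1
      apply ((KInj.mapHomotopyAdj adj).homEquiv _ _).injective
      exact (h1 _).trans (h1 _).symm
  apply ((KInj.resAdj A).homEquiv _ _).injective
  exact (h2 _).trans (h2 _).symm

end GrothLib.SiteDer
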