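import Mathlib.CategoryTheory.Triangulated.Pretriangulated
import Mathlib.CategoryTheory.Triangulated.Yoneda
import Groth.Prelude.Def_CohCx

/-! # Maps into derived limits of towers -/

universe v u

open CategoryTheory Limits Pretriangulated

namespace GrothLib.SiteDer

variable {T : Type u} [Category.{v} T]

/-- Lifts along the transition maps of a tower can be propagated. -/
lemma exists_compatible [Preadditive T] (X : T) : ∀ (n : ℕ) (K : ℕ → T) (t : ∀ m, K (m + 1) ⟶ K m),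
    (∀ m, n ≤ m → Function.Surjective (fun φ : X ⟶ K (m + 1) => φ ≫ t m)) →
      ∀ y : X ⟶ K n, ∃ z : ∀ m, X ⟶ K m, z n = y ∧ ∀ m, z (m + 1) ≫ t m = z m := by
  intro n
  induction n with
  | zero =>
    intro K t h y
    let z : ∀ m, X ⟶ K m := fun m =>
      Nat.rec (motive := fun m => X ⟶ K m) y (fun m prev => (h m (Nat.zero_le m) prev).choose) m
    exact ⟨z, rfl, fun m => (h m (Nat.zero_le m) (z m)).choose_spec⟩
  | succ n ih =>
    intro K t h y
    obtain ⟨z, hz, hz'⟩ := ih (fun m => K (m + 1)) (fun m => t (m + 1))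
      (fun m hm => h (m + 1) (by omega)) y
    exact ⟨fun m => match m with
      | 0 => z 0 ≫ t 0
      | m + 1 => z m, hz, fun m => match m with
      | 0 => rfl
      | m + 1 => hz' m⟩

lemma exists_telescope [Preadditive T] (X : T) : ∀ (n : ℕ) (K : ℕ → T) (t : ∀ m, K (m + 1) ⟶ K m),
    (∀ m, n ≤ m → Function.Surjective (fun φ : X ⟶ K (m + 1) => φ ≫ t m)) →
      ∀ x : ∀ m, X ⟶ K m, ∃ z : ∀ m, X ⟶ K m, ∀ m, z m - z (m + 1) ≫ t m = x m := by
  intro n
  induction n with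
  | zero =>
    intro K t h x
    let z : ∀ m, X ⟶ K m := fun m =>
      Nat.rec (motive := fun m => X ⟶ K m) 0 (fun m prev => (h m (Nat.zero_le m) (prev - x m)).choose) m
    refine ⟨z, fun m => ?_⟩
    have e : z (m + 1) ≫ t m = z m - x m := (h m (Nat.zero_le m) (z m - x m)).choose_spec
    rw [e, sub_sub_cancel]
  | succ n ih =>
    intro K t h x
    obtain ⟨z, hz⟩ := ih (fun m => K (m + 1)) (fun m => t (m + 1))
      (fun m hm => h (m + 1) (by omega)) (fun m => x (m + 1))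
    exact ⟨fun m => match m with
      | 0 => x 0 + z 0 ≫ t 0
      | m + 1 => z m, fun m => match m with
      | 0 => add_sub_cancel_right _ _
      | m + 1 => hz m⟩

variable [Preadditive T] [HasZeroObject T] [HasShift T ℤ] [∀ n : ℤ, (shiftFunctor T n).Additive]
  [Pretriangulated T] {K : ℕ → T} {t : ∀ n, K (n + 1) ⟶ K n} [HasProduct K] {L : T}
  {a : ∀ n, L ⟶ K n}

lemma rlim_compatible (hL : CohCx.IsRlimVia K t L a) (n : ℕ) : a (n + 1) ≫ t n = a n := by
  obtain ⟨c, hc⟩ := hL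
  have h0 : Pi.lift a ≫ (Pi.lift fun n => Pi.π K n - Pi.π K (n + 1) ≫ t n) = 0 :=
    comp_distTriang_mor_zero₁₂ _ hc
  have h := congrArg (fun f => f ≫ Pi.π K n) h0
  simp [Preadditive.comp_sub] at h
  exact (sub_eq_zero.1 h).symm

/-- Maps into a derived limit of an eventually constant tower. -/
theorem bijective_comp_rlim (hL : CohCx.IsRlimVia K t L a) (X : T) (n₁ : ℕ)
    (h₀ : ∀ n, n₁ ≤ n → Function.Bijective (fun φ : X ⟶ K (n + 1) => φ ≫ t n))
    (h₁ : ∀ n, n₁ ≤ n → Function.Surjective (fun φ : X⟦(1 : ℤ)⟧ ⟶ K (n + 1) => φ ≫ t n))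
    (n : ℕ) (hn : n₁ ≤ n) : Function.Bijective (fun φ : X ⟶ L => φ ≫ a n) := by
  obtain ⟨c, hc⟩ := id hL
  constructor
  · intro φ₁ φ₂ h12
    rw [← sub_eq_zero]
    set φ := φ₁ - φ₂ with hφ'
    have hφ : φ ≫ a n = 0 := by
      rw [hφ', Preadditive.sub_comp, sub_eq_zero]; exact h12
    have hall : ∀ m, φ ≫ a m = 0 := by
      intro m
      rcases le_total n m with hm | hm
      · induction m, hm using Nat.le_induction with
        | base => exact hφ
        | succ m hm ih =>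
          refine (h₀ m (hn.trans hm)).1 ?_
          change (φ ≫ a (m + 1)) ≫ t m = 0 ≫ t m
          rw [Category.assoc, rlim_compatible hL, ih, zero_comp]
      · exact Nat.decreasingInduction (motive := fun k _ => φ ≫ a k = 0)
          (fun k _ hk => by rw [← rlim_compatible hL, ← Category.assoc, hk, zero_comp]) hφ hm
    have hz : φ ≫ Pi.lift a = 0 := by
      ext m
      simp [hall m]
    obtain ⟨ψ, hψ⟩ := Triangle.coyoneda_exact₁ _ hc (φ⟦(1 : ℤ)⟧') (by
      change φ⟦(1 : ℤ)⟧' ≫ (Pi.lift a)⟦(1 : ℤ)⟧' = 0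
      rw [← Functor.map_comp, hz, Functor.map_zero])
    change X⟦(1 : ℤ)⟧ ⟶ ∏ᶜ K at ψ
    obtain ⟨z, hz'⟩ := exists_telescope _ n₁ K t h₁ (fun m => ψ ≫ Pi.π K m)
    have e : ψ = Pi.lift z ≫ Pi.lift fun m => Pi.π K m - Pi.π K (m + 1) ≫ t m := by
      ext m
      simp [Preadditive.comp_sub, hz']
    apply (shiftFunctor T (1 : ℤ)).map_injective
    rw [Functor.map_zero]
    refine hψ.trans ?_
    change ψ ≫ c = 0
    have h0 : (Pi.lift fun m => Pi.π K m - Pi.π K (m + 1) ≫ t m) ≫ c = 0 :=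
      comp_distTriang_mor_zero₂₃ _ hc
    rw [e, Category.assoc, h0, comp_zero]
  · intro y
    obtain ⟨z, hzn, hz⟩ := exists_compatible X n K t (fun m hm => (h₀ m (hn.trans hm)).2) y
    obtain ⟨φ, hφ⟩ := Triangle.coyoneda_exact₂ _ hc (Pi.lift z) (by
      change Pi.lift z ≫ (Pi.lift fun m => Pi.π K m - Pi.π K (m + 1) ≫ t m) = 0
      ext m
      simp [Preadditive.comp_sub, hz])
    refine ⟨φ, ?_⟩
    change X ⟶ L at φ
    change Pi.lift z = φ ≫ Pi.lift a at hφ
    have := congrArg (fun f => f ≫ Pi.π K n) hφ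
    simpa [← hzn] using this.symm

/-- Criterion for a transition map to be bijective on maps from `X`. -/
lemma bijective_comp_of_cone {Tr : Triangle T} (hT : Tr ∈ distTriang T) (X : T)
    (h₁ : ∀ φ : X ⟶ Tr.obj₃, φ = 0) (h₂ : ∀ φ : X⟦(1 : ℤ)⟧ ⟶ Tr.obj₃, φ = 0) :
    Function.Bijective (fun φ : X ⟶ Tr.obj₁ => φ ≫ Tr.mor₁) := by
  constructor
  · intro φ₁ φ₂ h12
    rw [← sub_eq_zero]
    obtain ⟨ψ, hψ⟩ := Triangle.coyoneda_exact₁ _ hT ((φ₁ - φ₂)⟦(1 : ℤ)⟧') (by
      rw [← Functor.map_comp, Preadditive.sub_comp, sub_eq_zero.2 h12, Functor.map_zero])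
    apply (shiftFunctor T (1 : ℤ)).map_injective
    rw [Functor.map_zero, hψ, h₂ ψ, zero_comp]
  · intro y
    obtain ⟨φ, hφ⟩ := Triangle.coyoneda_exact₂ _ hT y (h₁ _)
    exact ⟨φ, hφ.symm⟩

lemma surjective_comp_of_cone {Tr : Triangle T} (hT : Tr ∈ distTriang T) (X : T)
    (h₁ : ∀ φ : X ⟶ Tr.obj₃, φ = 0) :
    Function.Surjective (fun φ : X ⟶ Tr.obj₁ => φ ≫ Tr.mor₁) := fun y => by
  obtain ⟨φ, hφ⟩ := Triangle.coyoneda_exact₂ _ hT y (h₁ _)
  exact ⟨φ, hφ.symm⟩

end GrothLib.SiteDer
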