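import Groth.Agent.Lib.SiteDer.LocGen
import Groth.Agent.Lib.SiteDer.Tower

/-! # Cohomology of derived limits of eventually constant towers -/

universe w v u vC uC u'

open CategoryTheory Limits Pretriangulated DerivedCategory

namespace GrothLib.SiteDer

variable {A : Type u} [Category.{v} A] [Abelian A] [HasDerivedCategory.{w} A]

/-- Dévissage: no maps into a bounded below object with no maps into its cohomology. -/
theorem eq_zero_of_isGE (X : A) (k : ℤ) (m : ℕ) : ∀ (a : ℤ) (Z : DerivedCategory A) [Z.IsGE a],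
    k + 1 - a ≤ (m : ℤ) →
    (∀ q, a ≤ q → q ≤ k → ∀ ψ : (singleFunctor A k).obj X ⟶
      (singleFunctor A q).obj ((homologyFunctor A q).obj Z), ψ = 0) →
    ∀ φ : (singleFunctor A k).obj X ⟶ Z, φ = 0 := by
  induction m with
  | zero =>
    intro a Z _ ha _ φ
    exact (TStructure.t (C := A)).zero_of_isLE_of_isGE φ k a (by omega) inferInstance inferInstance
  | succ m ih =>
    intro a Z _ ha h φ
    by_cases hka : k < a
    · exact (TStructure.t (C := A)).zero_of_isLE_of_isGE φ k a (by omega) inferInstance inferInstance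
    have hG : ((TStructure.t.truncGE (a + 1)).obj Z).IsGE (a + 1) :=
      inferInstanceAs (TStructure.t.IsGE ((TStructure.t.truncGE (a + 1)).obj Z) (a + 1))
    have h1 : φ ≫ (TStructure.t.truncGEπ (a + 1)).app Z = 0 := by
      refine ih (a + 1) _ (by omega) (fun q hq hqk ψ => ?_) _
      have := DerTrunc.isIso_homology_truncGEπ Z (a + 1) q hq
      rw [← cancel_mono ((singleFunctor A q).map
        (inv ((homologyFunctor A q).map ((TStructure.t.truncGEπ (a + 1)).app Z)))), zero_comp]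
      exact h q (by omega) hqk _
    obtain ⟨ψ, hψ⟩ := Triangle.coyoneda_exact₂ _
      (TStructure.t.triangleLTGE_distinguished (a + 1) Z) φ h1
    change (singleFunctor A k).obj X ⟶ (TStructure.t.truncLT (a + 1)).obj Z at ψ
    have : ((TStructure.t.truncLT (a + 1)).obj Z).IsLE a :=
      inferInstanceAs (TStructure.t.IsLE ((TStructure.t.truncLT (a + 1)).obj Z) a)
    have : ((TStructure.t.truncLT (a + 1)).obj Z).IsGE a :=
      inferInstanceAs (TStructure.t.IsGE ((TStructure.t.truncLT (a + 1)).obj Z) a)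
    have := DerTrunc.isIso_homology_truncLTι Z (a + 1) a (by omega)
    let e := (DerTrunc.nonempty_iso_single ((TStructure.t.truncLT (a + 1)).obj Z) a).some ≪≫
      (singleFunctor A a).mapIso
        (asIso ((homologyFunctor A a).map ((TStructure.t.truncLTι (a + 1)).app Z)))
    have h2 : ψ = 0 := by
      rw [← cancel_mono e.hom, zero_comp]
      exact h a le_rfl (by omega) _
    rw [hψ, h2]
    exact zero_comp

theorem eq_zero_of_isGE' (X : A) (k a : ℤ) (Z : DerivedCategory A) [Z.IsGE a]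
    (h : ∀ q, a ≤ q → q ≤ k → ∀ ψ : (singleFunctor A k).obj X ⟶
      (singleFunctor A q).obj ((homologyFunctor A q).obj Z), ψ = 0)
    (φ : (singleFunctor A k).obj X ⟶ Z) : φ = 0 :=
  eq_zero_of_isGE X k (k + 1 - a).toNat a Z (by omega) h φ

/-- Shifting an object placed in one degree. -/
noncomputable def singleShiftOne (X : A) (j : ℤ) :
    ((singleFunctor A j).obj X)⟦(1 : ℤ)⟧ ≅ (singleFunctor A (j - 1)).obj X :=
  ((singleFunctors A).shiftIso 1 (j - 1) j (by omega)).app X

variable {C : Type uC} [Category.{vC} C] {J : GrothendieckTopology C} {G : C ⥤ A}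

section

variable {K : ℕ → DerivedCategory A} (t : ∀ n, K (n + 1) ⟶ K n)

/-- The transition maps of the tower are bijective on maps from the generator at `V` in degree `j`
and surjective in degree `j - 1`, from `n₁` on. -/
def GoodAt (G : C ⥤ A) (j : ℤ) (n₁ : ℕ) (V : C) : Prop :=
  ∀ n, n₁ ≤ n →
    Function.Bijective (fun φ : (singleFunctor A j).obj (G.obj V) ⟶ K (n + 1) => φ ≫ t n) ∧
    Function.Surjective (fun φ : (singleFunctor A (j - 1)).obj (G.obj V) ⟶ K (n + 1) => φ ≫ t n)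

variable {t}

lemma GoodAt.of_cone (G : C ⥤ A) (j : ℤ) (n₁ : ℕ) (V : C)
    (h : ∀ n, n₁ ≤ n → ∃ (Z : DerivedCategory A) (g : K n ⟶ Z) (c : Z ⟶ (K (n + 1))⟦(1 : ℤ)⟧),
      Triangle.mk (t n) g c ∈ distTriang _ ∧
      (∀ φ : (singleFunctor A j).obj (G.obj V) ⟶ Z, φ = 0) ∧
      (∀ φ : (singleFunctor A (j - 1)).obj (G.obj V) ⟶ Z, φ = 0)) : GoodAt t G j n₁ V := by
  intro n hn
  obtain ⟨Z, g, c, hT, hj, hj1⟩ := h n hn
  refine ⟨bijective_comp_of_cone hT _ hj fun φ => ?_, surjective_comp_of_cone hT _ hj1⟩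
  change ((singleFunctor A j).obj (G.obj V))⟦(1 : ℤ)⟧ ⟶ Z at φ
  exact (cancel_epi (singleShiftOne (G.obj V) j).inv).1 ((hj1 _).trans comp_zero.symm)

variable [HasProduct K] {L : DerivedCategory A} {a : ∀ n, L ⟶ K n}

lemma GoodAt.bijective {j : ℤ} {n₁ : ℕ} {V : C} (h : GoodAt t G j n₁ V)
    (hL : CohCx.IsRlimVia K t L a) (n : ℕ) (hn : n₁ ≤ n) :
    Function.Bijective (fun φ : (singleFunctor A j).obj (G.obj V) ⟶ L => φ ≫ a n) := by
  refine bijective_comp_rlim hL _ n₁ (fun m hm => (h m hm).1) (fun m hm y => ?_) n hn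
  obtain ⟨φ, hφ⟩ := (h m hm).2 ((singleShiftOne (G.obj V) j).inv ≫ y)
  exact ⟨(singleShiftOne (G.obj V) j).hom ≫ φ, by
    change ((singleShiftOne (G.obj V) j).hom ≫ φ) ≫ t m = y
    rw [Category.assoc, show φ ≫ t m = _ from hφ, Iso.hom_inv_id_assoc]⟩

lemma exists_iso_homology_rlim (hL : CohCx.IsRlimVia K t L a) (j : ℤ) (n₀ : ℕ)
    (hconst : ∀ n, n₀ ≤ n → IsIso ((homologyFunctor A j).map (t n))) (n : ℕ) (hn : n₀ ≤ n) (m : ℕ)
    (hm : n ≤ m) : ∃ c : (homologyFunctor A j).obj (K m) ⟶ (homologyFunctor A j).obj (K n),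
      IsIso c ∧ (homologyFunctor A j).map (a m) ≫ c = (homologyFunctor A j).map (a n) := by
  induction m, hm using Nat.le_induction with
  | base => exact ⟨𝟙 _, inferInstance, Category.comp_id _⟩
  | succ m hm ih =>
    obtain ⟨c, hc, hc'⟩ := ih
    have := hconst m (hn.trans hm)
    refine ⟨(homologyFunctor A j).map (t m) ≫ c, inferInstance, ?_⟩
    rw [← Functor.map_comp_assoc, rlim_compatible hL, hc']

/-- The cohomology of a derived limit of a tower which is eventually constant in degree `j` and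
eventually bijective on the local values in degree `j`. -/
theorem isIso_homology_rlim (hG : IsLocGen J G) (hL : CohCx.IsRlimVia K t L a) (j : ℤ) (n₀ : ℕ)
    (hconst : ∀ n, n₀ ≤ n → IsIso ((homologyFunctor A j).map (t n)))
    (B : Set C)
    (hB : ∀ U : C, ∃ (ι : Type u') (Y : ι → C) (g : ∀ i, Y i ⟶ U),
      Sieve.ofArrows Y g ∈ J U ∧ ∀ i, Y i ∈ B)
    (hgood : ∀ V ∈ B, ∃ n₁ : ℕ, ∀ T ∈ J V, ∃ (ι : Type u') (Y : ι → C) (g : ∀ i, Y i ⟶ V),
      (∀ i, T.arrows (g i)) ∧ Sieve.ofArrows Y g ∈ J V ∧ ∀ i, GoodAt t G j n₁ (Y i))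
    (n : ℕ) (hn : n₀ ≤ n) : IsIso ((homologyFunctor A j).map (a n)) := by
  have : Mono ((homologyFunctor A j).map (a n)) := by
    refine hG.mono _ fun U g hg => Locally.of_theta hG g fun W f φ hφ => ?_
    have hdc : ∀ ⦃V V'⦄ (f : V ⟶ W) (k : V' ⟶ V),
        (singleFunctor A j).map (G.map f) ≫ φ = 0 →
          (singleFunctor A j).map (G.map (k ≫ f)) ≫ φ = 0 := fun V V' f k h => by
      rw [G.map_comp, Functor.map_comp, Category.assoc, h, comp_zero]
    obtain ⟨ι, Y, b, hb, hYB⟩ := hB W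
    refine Locally.trans_family hdc b hb fun i => ?_
    obtain ⟨n₁, hn₁⟩ := hgood (Y i) (hYB i)
    obtain ⟨m, hm, hm₁⟩ : ∃ m, n ≤ m ∧ n₁ ≤ m := ⟨max n n₁, le_max_left _ _, le_max_right _ _⟩
    obtain ⟨c, hc, hc'⟩ := exists_iso_homology_rlim hL j n₀ hconst n hn m hm
    let φ' := (singleFunctor A j).map (G.map (b i)) ≫ φ
    have h0 : theta (φ' ≫ a m) = 0 := by
      rw [← cancel_mono c, zero_comp, theta_comp, Category.assoc, hc', theta_map_comp, hφ,
        Category.assoc, Category.assoc, hg, comp_zero, comp_zero]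
    obtain ⟨T, hT, hT'⟩ := hG.eq_zero_of_theta _ h0
    obtain ⟨ι', Z, d, hdT, hd, hgd⟩ := hn₁ T hT
    refine Locally.trans_family (fun V V' f k h => by
      rw [Category.assoc]; exact hdc (f ≫ b i) k h) d hd fun i' => ?_
    refine Locally.of_forall fun V k => ?_
    have h1 : (singleFunctor A j).map (G.map (d i')) ≫ φ' = 0 := by
      refine ((hgd i').bijective hL m hm₁).1 ?_
      change _ ≫ a m = 0 ≫ a m
      rw [Category.assoc, hT' _ (hdT i'), zero_comp]
    rw [Category.assoc, G.map_comp, G.map_comp, Functor.map_comp, Functor.map_comp, Category.assoc,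
      Category.assoc]
    erw [h1]
    exact comp_zero
  have : Epi ((homologyFunctor A j).map (a n)) := by
    refine hG.epi _ fun U g => ?_
    have hdc : ∀ ⦃V V'⦄ (f : V ⟶ U) (k : V' ⟶ V),
        (∃ h, h ≫ (homologyFunctor A j).map (a n) = G.map f ≫ g) →
          ∃ h, h ≫ (homologyFunctor A j).map (a n) = G.map (k ≫ f) ≫ g := fun V V' f k ⟨h, hh⟩ =>
      ⟨G.map k ≫ h, by rw [Category.assoc, hh, G.map_comp, Category.assoc]⟩
    obtain ⟨ι, Y, b, hb, hYB⟩ := hB U
    refine Locally.trans_family hdc b hb fun i => ?_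
    obtain ⟨n₁, hn₁⟩ := hgood (Y i) (hYB i)
    obtain ⟨m, hm, hm₁⟩ : ∃ m, n ≤ m ∧ n₁ ≤ m := ⟨max n n₁, le_max_left _ _, le_max_right _ _⟩
    obtain ⟨c, hc, hc'⟩ := exists_iso_homology_rlim hL j n₀ hconst n hn m hm
    obtain ⟨T, hT, hT'⟩ := hG.exists_theta (G.map (b i) ≫ g ≫ inv c)
    obtain ⟨ι', Z, d, hdT, hd, hgd⟩ := hn₁ T hT
    refine Locally.trans_family (fun V V' f k h => by
      rw [Category.assoc]; exact hdc (f ≫ b i) k h) d hd fun i' => ?_
    refine Locally.of_forall fun V k => ?_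
    obtain ⟨ψ, hψ⟩ := hT' _ (hdT i')
    obtain ⟨φ, hφ⟩ := ((hgd i').bijective hL m hm₁).2 ψ
    refine ⟨G.map k ≫ theta φ, ?_⟩
    rw [← hc', Category.assoc, ← Category.assoc (theta φ), ← theta_comp,
      show φ ≫ a m = ψ from hφ, hψ]
    simp [G.map_comp]
  exact isIso_of_mono_of_epi _

end

end GrothLib.SiteDer
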