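import Groth.Agent.Lib.SiteDer.TorsionFree
import Groth.Agent.Lib.SiteDer.Transfer
import Groth.Agent.Lib.SiteDer.RlimLoc
import Groth.Agent.Lib.SheafCoh.Sections
import Groth.Agent.Lib.QCoh.ToSheaf
import Groth.Agent.Lib.KInj.SiteMod
import Mathlib.Algebra.Homology.ShortComplex.ExactFunctor

/-! # The generators `R ⊗ ℤ[h_U]` of sheaves of modules -/

universe w u

open CategoryTheory CategoryTheory.Limits Opposite

namespace GrothLib.SiteDer

variable {C : Type u} [SmallCategory C] {J : GrothendieckTopology C} (R : Sheaf J RingCat.{u})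

instance preservesFiniteColimits_toSheaf :
    PreservesFiniteColimits (SheafOfModules.toSheaf.{u} R) := by
  have : (SheafOfModules.toSheaf.{u} R).PreservesEpimorphisms :=
    ⟨fun g _ => QCoh.toSheaf_map_epi g⟩
  have : (SheafOfModules.toSheaf.{u} R).PreservesHomology :=
    Functor.preservesHomology_of_preservesEpis_and_kernels _
  exact (SheafOfModules.toSheaf.{u} R).preservesFiniteColimits_of_preservesHomology

/-- `U ↦ R ⊗ ℤ[h_U]^#`. -/
noncomputable abbrev freeModF : C ⥤ SheafOfModules.{u} R :=
  SheafCoh.freeYFunctor J ⋙ tensSh R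

variable {R}

/-- Maps out of the generator are sections. -/
noncomputable def secMod (M : SheafOfModules.{u} R) (U : C) :
    ((freeModF R).obj U ⟶ M) ≃ ((SheafOfModules.toSheaf.{u} R).obj M).obj.obj (op U) :=
  ((tensShAdj R).homEquiv (SheafCoh.freeY J U) M).trans
    (SheafCoh.homFreeY ((SheafOfModules.toSheaf.{u} R).obj M) U).toEquiv

lemma secMod_comp {M N : SheafOfModules.{u} R} (U : C) (φ : (freeModF R).obj U ⟶ M) (g : M ⟶ N) :
    secMod N U (φ ≫ g) = ((SheafOfModules.toSheaf.{u} R).map g).hom.app (op U) (secMod M U φ) := by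
  have h := (tensShAdj R).homEquiv_naturality_right (X := SheafCoh.freeY J U) φ g
  exact (congrArg (SheafCoh.homFreeY _ U) h).trans (SheafCoh.homFreeY_comp U _ _)

lemma secMod_map (M : SheafOfModules.{u} R) {U V : C} (f : V ⟶ U) (φ : (freeModF R).obj U ⟶ M) :
    secMod M V ((freeModF R).map f ≫ φ) =
      ((SheafOfModules.toSheaf.{u} R).obj M).obj.map f.op (secMod M U φ) := by
  have h := (tensShAdj R).homEquiv_naturality_left (SheafCoh.freeYMap J f) φ
  exact (congrArg (SheafCoh.homFreeY _ V) h).trans (SheafCoh.homFreeY_map _ f _)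

lemma secMod_zero (M : SheafOfModules.{u} R) (U : C) : secMod M U 0 = 0 := by
  have h : (tensShAdj R).homEquiv (SheafCoh.freeY J U) M 0 = 0 := by
    rw [Adjunction.homEquiv_unit, Functor.map_zero, comp_zero]
  exact (congrArg (SheafCoh.homFreeY _ U) h).trans (map_zero _)

variable (R) in
theorem isLocGen_freeMod : IsLocGen J (freeModF R) where
  lift {M N} p _ U g := by
    let q := (SheafOfModules.toSheaf.{u} R).map p
    have : Sheaf.IsLocallySurjective q :=
      (Sheaf.isLocallySurjective_iff_epi' AddCommGrpCat.{u} q).2 inferInstance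
    refine ⟨Presheaf.imageSieve q.hom (secMod N U g), Presheaf.imageSieve_mem J q.hom _,
      fun V f hf => ?_⟩
    obtain ⟨t, ht⟩ := hf
    refine ⟨(secMod M V).symm t, (secMod N V).injective ?_⟩
    rw [secMod_comp, Equiv.apply_symm_apply, secMod_map]
    exact ht
  sep {M U} g h := by
    obtain ⟨S, hS, hS'⟩ := h
    apply (secMod M U).injective
    rw [secMod_zero]
    refine Presheaf.IsSheaf.isSeparated ((SheafOfModules.toSheaf.{u} R).obj M).2 U S hS _ _ fun V f hf => ?_
    rw [map_zero, ← secMod_map, hS' f hf, secMod_zero]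
  mono {M N} p h := by
    apply Functor.mono_of_mono_map (SheafOfModules.toSheaf.{u} R)
    have hm : ∀ U : Cᵒᵖ, Mono (((SheafOfModules.toSheaf.{u} R).map p).hom.app U) := fun U => by
      rw [AddCommGrpCat.mono_iff_injective, injective_iff_map_eq_zero]
      intro x hx
      have h0 := h U.unop ((secMod M U.unop).symm x) ((secMod N U.unop).injective (by
        rw [secMod_comp, Equiv.apply_symm_apply, secMod_zero]; exact hx))
      rw [← (secMod M U.unop).apply_symm_apply x, h0, secMod_zero]
    have : Mono ((SheafOfModules.toSheaf.{u} R).map p).hom := NatTrans.mono_of_mono_app _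
    exact (sheafToPresheaf J AddCommGrpCat.{u}).mono_of_mono_map this
  epi {M N} p h := by
    apply Functor.epi_of_epi_map (SheafOfModules.toSheaf.{u} R)
    let q := (SheafOfModules.toSheaf.{u} R).map p
    refine (Sheaf.isLocallySurjective_iff_epi' AddCommGrpCat.{u} q).1 ⟨fun {U} s => ?_⟩
    obtain ⟨S, hS, hS'⟩ := h U ((secMod N U).symm s)
    refine J.superset_covering (fun V f hf => ?_) hS
    obtain ⟨t, ht⟩ := hS' f hf
    refine ⟨secMod M V t, ?_⟩
    rw [← secMod_comp, ht, secMod_map, Equiv.apply_symm_apply]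

variable {O : Sheaf J CommRingCat.{u}} [HasDerivedCategory.{w} (ModSite.Mod O)]

/-- The generator of `Mod O` at `U`. -/
noncomputable abbrev freeMod (O : Sheaf J CommRingCat.{u}) : C ⥤ ModSite.Mod O :=
  freeModF (ModSite.ringSh O)

/-- Maps between objects placed in one degree vanish when cohomology does. -/
theorem eq_zero_of_subsingleton_HU (M : ModSite.Mod O) (U : C) (k q : ℤ) (n : ℕ) (h : k - q = n)
    (hs : Subsingleton (ModSite.HU O M n U))
    (ψ : (DerivedCategory.singleFunctor (ModSite.Mod O) k).obj ((freeMod O).obj U) ⟶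
      (DerivedCategory.singleFunctor (ModSite.Mod O) q).obj M) : ψ = 0 := by
  let := HasDerivedCategory.standard (Sheaf J AddCommGrpCat.{u})
  refine eq_zero_of_subsingleton_ext' (P := torsionFree J) (isExactClass_tensSh (ModSite.ringSh O))
    (tensShAdj (ModSite.ringSh O)) (SheafCoh.freeY J U) ?_ (fun Z hZ => ?_) M k q n h ?_ ψ
  · refine torsionFree_presheafToSheaf _ fun X m x hm hx => ?_
    let α := (yoneda.obj U).obj X
    let e := FreeAbelianGroup.equivFinsupp α
    have h := congrArg e (show m • (show FreeAbelianGroup α from x) = 0 from hx)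
    rw [map_zsmul, map_zero, smul_eq_zero] at h
    exact e.injective ((h.resolve_left hm).trans (map_zero e).symm)
  · intro X m x _ _
    have := AddCommGrpCat.subsingleton_of_isZero
      ((sheafToPresheaf J AddCommGrpCat.{u} ⋙ (evaluation _ _).obj X).map_isZero hZ)
    exact Subsingleton.elim (α := ((sheafToPresheaf J AddCommGrpCat.{u} ⋙
      (evaluation _ _).obj X).obj Z)) x 0
  · exact (SheafCoh.HUext (ModSite.toAb M) n U).symm.toEquiv.subsingleton

end GrothLib.SiteDer
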