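import Groth.Agent.Lib.SiteDer.RlimMap
import Groth.Agent.Lib.SiteDer.RlimTower
import Groth.Agent.Lib.DerCat.MapExtend
import Groth.Agent.Lib.DerCat.CohIn
import Groth.Agent.Lib.HoCat.Product

/-! # Cohomology sheaves of derived direct images and truncation -/

universe u

open CategoryTheory CategoryTheory.Limits Opposite Pretriangulated

namespace GrothLib.SiteDer

attribute [local instance] HasDerivedCategory.standard

variable {C : Type u} [SmallCategory C] {J : GrothendieckTopology C}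
  {O_C : Sheaf J CommRingCat.{u}} {D : Type u} [SmallCategory D] {K : GrothendieckTopology D}
  {O_D : Sheaf K CommRingCat.{u}} (f : ModSite.RMor O_C O_D)

theorem nonempty_homology_Rres_single [HasInjectiveResolutions (ModSite.Mod O_C)]
    (M : ModSite.Mod O_C) (p : ℕ) :
    Nonempty ((DerivedCategory.homologyFunctor (ModSite.Mod O_D) (p : ℤ)).obj
      ((Rres f).obj ((DerivedCategory.singleFunctor (ModSite.Mod O_C) 0).obj M)) ≅
        (f.Rpush p).obj M) := by
  let R := InjectiveResolution.of M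
  let I := (HomotopyCategory.quotient (ModSite.Mod O_C) (ComplexShape.up ℤ)).obj R.cochainComplex
  have hI : (HomotopyCategory.subcategoryAcyclic (ModSite.Mod O_C)).rightOrthogonal I :=
    CochainComplex.IsKInjective.rightOrthogonal R.cochainComplex
  have := KInj.isIso_unit_of_rightOrthogonal hI
  have : IsIso (DerivedCategory.Q.map R.ι') := by
    rw [DerivedCategory.isIso_Q_map_iff_quasiIso]; infer_instance
  let e : (DerivedCategory.singleFunctor (ModSite.Mod O_C) 0).obj M ≅ DerivedCategory.Qh.obj I :=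
    @asIso _ _ _ _ (DerivedCategory.Q.map R.ι') this ≪≫
      ((DerivedCategory.quotientCompQhIso _).app R.cochainComplex).symm
  let Kf := (f.push.mapHomologicalComplex (ComplexShape.up ℤ)).obj R.cochainComplex
  exact ⟨(DerivedCategory.homologyFunctor _ (p : ℤ)).mapIso ((Rres f).mapIso e ≪≫
      (SiteCmp.pushKh f).mapIso (asIso ((KInj.resAdj _).unit.app I)).symm ≪≫
      (DerivedCategory.quotientCompQhIso _).app Kf) ≪≫
    (DerivedCategory.homologyFunctorFactors _ (p : ℤ)).app Kf ≪≫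
    DerTrunc.rightDerivedExtendIso f.push R p⟩

theorem nonempty_homology_Rres_shift (M : ModSite.Mod O_C) (j q : ℤ) :
    Nonempty ((DerivedCategory.homologyFunctor (ModSite.Mod O_D) j).obj
      ((Rres f).obj ((DerivedCategory.singleFunctor (ModSite.Mod O_C) q).obj M)) ≅
      (DerivedCategory.homologyFunctor (ModSite.Mod O_D) (j - q)).obj
        ((Rres f).obj ((DerivedCategory.singleFunctor (ModSite.Mod O_C) 0).obj M))) := by
  let e : ((DerivedCategory.singleFunctor (ModSite.Mod O_C) 0).obj M)⟦-q⟧ ≅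
      (DerivedCategory.singleFunctor (ModSite.Mod O_C) q).obj M :=
    ((DerivedCategory.singleFunctors (ModSite.Mod O_C)).shiftIso (-q) q 0 (by omega)).app M
  exact ⟨(DerivedCategory.homologyFunctor _ j).mapIso
      ((Rres f).mapIso e.symm ≪≫ ((Rres f).commShiftIso (-q)).app _) ≪≫
    ((DerivedCategory.homologyFunctor (ModSite.Mod O_D) 0).shiftIso (-q) j (j - q) (by omega)).app _⟩

theorem isZero_homology_Rres_single [HasInjectiveResolutions (ModSite.Mod O_C)] {N : ℤ}
    (M : ModSite.Mod O_C) (h : ∀ p : ℕ, N < (p : ℤ) → IsZero ((f.Rpush p).obj M))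
    (j q : ℤ) (hjq : N < j - q) :
    IsZero ((DerivedCategory.homologyFunctor (ModSite.Mod O_D) j).obj
      ((Rres f).obj ((DerivedCategory.singleFunctor (ModSite.Mod O_C) q).obj M))) := by
  by_cases h0 : 0 ≤ j - q
  · obtain ⟨p, hp⟩ := Int.eq_ofNat_of_zero_le h0
    refine IsZero.of_iso ?_ (nonempty_homology_Rres_shift f M j q).some
    rw [hp]
    exact (h p (by omega)).of_iso (nonempty_homology_Rres_single f M p).some
  · have := isGE_Rres f ((DerivedCategory.singleFunctor (ModSite.Mod O_C) q).obj M) q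
    exact DerivedCategory.isZero_of_isGE _ q j (by omega)

variable (P : ObjectProperty (ModSite.Mod O_C)) [WSerre.IsWeakSerre P]

theorem cohIn_Rres_of_plus [HasInjectiveResolutions (ModSite.Mod O_C)]
    (Q : ObjectProperty (ModSite.Mod O_D)) [WSerre.IsWeakSerre Q]
    (h3 : ∀ M, P M → ∀ p : ℕ, Q ((f.Rpush p).obj M))
    (X : DerivedCategory (ModSite.Mod O_C)) (a : ℤ) [X.IsGE a] (hX : WSerre.cohIn P X) :
    WSerre.cohIn Q ((Rres f).obj X) := by
  haveI : (Rres f).IsTriangulated := isTriangulated_res_map f.push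
  refine DerTrunc.cohIn_map_of_isGE P Q (fun X n _ => isGE_Rres f X n) (fun M hM i => ?_) X a hX
  by_cases h0 : 0 ≤ i
  · obtain ⟨p, rfl⟩ := Int.eq_ofNat_of_zero_le h0
    exact Q.prop_of_iso (nonempty_homology_Rres_single f M p).some.symm (h3 M hM p)
  · have := isGE_Rres f ((DerivedCategory.singleFunctor (ModSite.Mod O_C) 0).obj M) 0
    exact Q.prop_of_isZero (DerivedCategory.isZero_of_isGE _ 0 i (by omega))

/-- Local vanishing of the values over `W` of direct images, above `d`. -/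
def VanD (d : ℤ) (W : D) : Prop :=
  ∀ M, P M → ∀ k q : ℤ, d < k - q →
    ∀ φ : (DerivedCategory.singleFunctor (ModSite.Mod O_D) k).obj ((freeMod O_D).obj W) ⟶
      (Rres f).obj ((DerivedCategory.singleFunctor (ModSite.Mod O_C) q).obj M), φ = 0

omit [WSerre.IsWeakSerre P] in
/-- Vanishing over `u(W)` gives `VanD`. -/
theorem vanD_of_upstairs (d : ℕ) (W : D)
    (h : ∀ M, P M → ∀ k : ℕ, d < k → Subsingleton (ModSite.HU O_C M k (f.fn.obj W))) :
    VanD f P d W := by
  intro M hM k q hkq φ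
  obtain ⟨N, hN⟩ : ∃ N : ℕ, (N : ℤ) = k - q := ⟨(k - q).toNat, by omega⟩
  apply (pushHomEquiv f W k _).injective
  rw [pushHomEquiv_zero]
  exact eq_zero_of_subsingleton_HU M _ k q N (by omega) (h M hM N (by omega)) _

/-- Vanishing over `W` and a bound on `R^p f_*` give `VanD`. -/
theorem vanD_of_downstairs [HasInjectiveResolutions (ModSite.Mod O_C)]
    (Q : ObjectProperty (ModSite.Mod O_D)) [WSerre.IsWeakSerre Q] (N : ℤ)
    (h3 : ∀ M, P M → ∀ p : ℕ, Q ((f.Rpush p).obj M))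
    (h4 : ∀ M, P M → ∀ p : ℕ, N < (p : ℤ) → IsZero ((f.Rpush p).obj M))
    (d : ℕ) (W : D) (h : ∀ M, Q M → ∀ k : ℕ, d < k → Subsingleton (ModSite.HU O_D M k W)) :
    VanD f P ((d : ℤ) + max N 0) W := by
  intro M hM k q hkq φ
  have := isGE_Rres f ((DerivedCategory.singleFunctor (ModSite.Mod O_C) q).obj M) q
  refine eq_zero_of_isGE' _ k q _ (fun q' hq' hq'k ψ => ?_) φ
  by_cases hN : N < q' - q
  · exact ((DerivedCategory.singleFunctor _ q').map_isZero
      (isZero_homology_Rres_single f M (h4 M hM) q' q hN)).eq_of_tgt _ _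
  · obtain ⟨n, hn⟩ : ∃ n : ℕ, (n : ℤ) = k - q' := ⟨(k - q').toNat, by omega⟩
    refine eq_zero_of_subsingleton_HU _ W k q' n (by omega) (h _ ?_ n (by omega)) ψ
    have := cohIn_Rres_of_plus f P Q h3 _ q (DerTrunc.cohIn_single P hM q)
    exact this q'

/-- The derived direct image and truncations: the key statement. -/
theorem isIso_homology_Rres_truncπ (E : DerivedCategory (ModSite.Mod O_C)) (hE : WSerre.cohIn P E)
    (B : Set C)
    (hB : ∀ U : C, ∃ (ι : Type u) (Y : ι → C) (g : ∀ i, Y i ⟶ U),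
      Sieve.ofArrows Y g ∈ J U ∧ ∀ i, Y i ∈ B)
    (hA : ∀ V ∈ B, ∃ d : ℕ, ∀ T ∈ J V, ∃ (ι : Type u) (Y : ι → C) (g : ∀ i, Y i ⟶ V),
      (∀ i, T.arrows (g i)) ∧ Sieve.ofArrows Y g ∈ J V ∧
      ∀ (i : ι) (F : ModSite.Mod O_C), P F → ∀ k : ℕ, d < k → Subsingleton (ModSite.HU O_C F k (Y i)))
    (B' : Set D)
    (hB' : ∀ U : D, ∃ (ι : Type u) (Y : ι → D) (g : ∀ i, Y i ⟶ U),
      Sieve.ofArrows Y g ∈ K U ∧ ∀ i, Y i ∈ B')
    (hV : ∀ V ∈ B', ∃ d : ℤ, ∀ T ∈ K V, ∃ (ι : Type u) (Y : ι → D) (g : ∀ i, Y i ⟶ V),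
      (∀ i, T.arrows (g i)) ∧ Sieve.ofArrows Y g ∈ K V ∧ ∀ i, VanD f P d (Y i))
    (j : ℤ) (n : ℕ)
    (hconst : ∀ m : ℕ, n ≤ m → IsIso ((DerivedCategory.homologyFunctor (ModSite.Mod O_D) j).map
      ((Rres f).map ((DerivedCategory.TStructure.t.natTransTruncGEOfLE (-((m + 1 : ℕ) : ℤ)) (-(m : ℤ))
        (by omega)).app E)))) :
    IsIso ((DerivedCategory.homologyFunctor (ModSite.Mod O_D) j).map
      ((Rres f).map ((DerivedCategory.TStructure.t.truncGEπ (-(n : ℤ))).app E))) := by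
  haveI : (Rres f).IsTriangulated := isTriangulated_res_map f.push
  have := HoCat.derivedCategory_hasLimitsOfShape (A := ModSite.Mod O_C) ℕ
  have := HoCat.derivedCategory_hasLimitsOfShape (A := ModSite.Mod O_D) ℕ
  have hE' := isRlimVia_trunc (isLocGen_freeMod (ModSite.ringSh O_C)) E B hB fun V hV j' => by
    obtain ⟨d, hd⟩ := hA V hV
    refine ⟨((d : ℤ) - j' + 1).toNat + (-j').toNat + 2, fun T hT => ?_⟩
    obtain ⟨ι, Y, g, hg, hgT, hsub⟩ := hd T hT
    refine ⟨ι, Y, g, hg, hgT, fun i => goodAt_of_homology j' _ _ fun m hm => ?_⟩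
    obtain ⟨Z, a, c, hZT, hZ, hz, ⟨e⟩⟩ := exists_cone_truncMap E m
    refine ⟨Z, a, c, _, hZT, hZ, fun k q hk hqk ψ => ?_⟩
    by_cases hq : q = -(m : ℤ) - 2
    · subst hq
      have hk' : j' - 1 ≤ k := by rcases hk with rfl | rfl <;> omega
      obtain ⟨M, hM⟩ : ∃ M : ℕ, (M : ℤ) = k + m + 2 := ⟨(k + m + 2).toNat, by omega⟩
      exact eq_zero_of_subsingleton_HU _ _ k _ M (by omega)
        (hsub i _ (P.prop_of_iso e.symm (hE _)) M (by omega)) _
    · exact ((DerivedCategory.singleFunctor _ q).map_isZero (hz q hq)).eq_of_tgt _ _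
  have hR := isRlimVia_map (Rres f) hE' (isIso_piComparison_Rres f _)
  refine isIso_homology_rlim (isLocGen_freeMod (ModSite.ringSh O_D)) hR j n hconst B' hB'
    (fun V hVB => ?_) n le_rfl
  obtain ⟨d, hd⟩ := hV V hVB
  refine ⟨(d - j + 1).toNat + (-j).toNat + 2, fun T hT => ?_⟩
  obtain ⟨ι, Y, g, hg, hgT, hsub⟩ := hd T hT
  refine ⟨ι, Y, g, hg, hgT, fun i => GoodAt.of_cone _ j _ _ fun m hm => ?_⟩
  obtain ⟨Z, a, c, hZT, hZ, hz, ⟨e⟩⟩ := exists_cone_truncMap E m
  have : Z.IsLE (-(m : ℤ) - 2) := (DerivedCategory.isLE_iff _ _).2 fun q hq => hz q (by omega)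
  obtain ⟨eZ⟩ := DerTrunc.nonempty_iso_single Z (-(m : ℤ) - 2)
  refine ⟨_, _, _, (Rres f).map_distinguished _ hZT, ?_, ?_⟩ <;> intro φ <;>
    refine (cancel_mono ((Rres f).map eZ.hom)).1 ((hsub i _ (P.prop_of_iso e.symm (hE _)) _ _ ?_ _).trans
      zero_comp.symm) <;> omega

end GrothLib.SiteDer
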