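import Groth.Agent.Lib.KInj.Adjoint
import Groth.Agent.Lib.DerCat.Acyclic
import Mathlib.Algebra.Homology.HomotopyCategory.ShortExact
import Mathlib.Algebra.Homology.DerivedCategory.KInjective
import Mathlib.Algebra.Homology.DerivedCategory.HomologySequence

/-! # Adjunctions which are exact enough to compute derived Homs into right adjoint images -/

universe w v v' u u'

open CategoryTheory CategoryTheory.Limits HomologicalComplex HomotopyCategory

namespace GrothLib.SiteDer

variable {A : Type u} [Category.{v} A] [Abelian A] {B : Type u'} [Category.{v'} B] [Abelian B]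

/-- A class of objects on which a left adjoint is exact enough. -/
structure IsExactClass (T : B ⥤ A) (P : ObjectProperty B) : Prop where
  of_mono : ∀ {X Y : B} (f : X ⟶ Y), Mono f → P Y → P X
  biprod : ∀ {X Y : B}, P X → P Y → P (X ⊞ Y)
  cover : ∀ X : B, ∃ (F : B) (π : F ⟶ X), Epi π ∧ P F
  mono_map : ∀ S : ShortComplex B, S.ShortExact → P S.X₃ → Mono (T.map S.f)

variable {T : B ⥤ A} [T.Additive] [PreservesFiniteColimits T] {P : ObjectProperty B}
  (hP : IsExactClass T P)

include hP in
/-- The left adjoint preserves acyclicity of complexes with terms in the class. -/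
theorem acyclic_map (Z : CochainComplex B ℤ) (hZ : Z.Acyclic) (h : ∀ n, P (Z.X n)) :
    HomologicalComplex.Acyclic ((T.mapHomologicalComplex (ComplexShape.up ℤ)).obj Z) := by
  intro j
  obtain ⟨n, rfl⟩ : ∃ n, n + 1 = j := ⟨j - 1, by omega⟩
  let ι := fun k => Z.iCycles k
  let π := fun k : ℤ => Z.toCycles k (k + 1)
  have hπ : ∀ k, Epi (π k) := fun k => by
    rw [epi_iff_surjective_up_to_refinements]
    intro W a
    obtain ⟨W', p, hp, y, hy⟩ :=
      ((Z.exactAt_iff' k (k + 1) (k + 1 + 1) (by simp) (by simp)).1 (hZ (k + 1))).exact_up_to_refinements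
        (a ≫ Z.iCycles (k + 1)) (by
          change (a ≫ Z.iCycles (k + 1)) ≫ Z.d (k + 1) (k + 1 + 1) = 0
          rw [Category.assoc, Z.iCycles_d, comp_zero])
    refine ⟨W', p, hp, y, ?_⟩
    rw [← cancel_mono (Z.iCycles (k + 1))]
    change p ≫ a ≫ Z.iCycles (k + 1) = y ≫ Z.d k (k + 1) at hy
    simp only [π, Category.assoc, toCycles_i]
    exact hy
  have hw : ∀ k : ℤ, ι k ≫ π k = 0 := fun k => by
    rw [← cancel_mono (Z.iCycles (k + 1))]; simp [ι, π]
  have hse : ∀ k : ℤ, (ShortComplex.mk (ι k) (π k) (hw k)).ShortExact := fun k =>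
    { exact := ShortComplex.exact_of_f_is_kernel _ (KernelFork.IsLimit.ofι' _ _ fun g hg => by
        refine ⟨Z.liftCycles g (k + 1) (by simp) ?_, Z.liftCycles_i _ _ _ _⟩
        change g ≫ Z.d k (k + 1) = 0
        rw [← Z.toCycles_i k (k + 1), ← Category.assoc, show g ≫ Z.toCycles k (k + 1) = 0 from hg,
          zero_comp])
      mono_f := inferInstanceAs (Mono (Z.iCycles k))
      epi_g := hπ k }
  have hT : ∀ k : ℤ, Mono (T.map (ι k)) := fun k =>
    hP.mono_map _ (hse k) (hP.of_mono (Z.iCycles (k + 1)) inferInstance (h (k + 1)))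
  have hd : ∀ k : ℤ, Z.d k (k + 1) = π k ≫ ι (k + 1) := fun k => (Z.toCycles_i k (k + 1)).symm
  have hexT := (((T.preservesFiniteColimits_tfae.out 3 0
    (a := PreservesFiniteColimits T)
    (b := ∀ S : ShortComplex B, S.ShortExact → (S.map T).Exact ∧ Epi (T.map S.g))).1 inferInstance)
      _ (hse (n + 1))).1
  have hepi : Epi (T.map (π n)) := have := hπ n; inferInstance
  rw [HomologicalComplex.exactAt_iff' _ n (n + 1) (n + 1 + 1) (by simp) (by simp)]
  let S₁ : ShortComplex A := ShortComplex.mk (T.map (Z.d n (n + 1))) (T.map (π (n + 1))) (by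
    rw [← T.map_comp, hd, Category.assoc, hw, comp_zero, T.map_zero])
  have h₁ : S₁.Exact := by
    let S₂ := (ShortComplex.mk (ι (n + 1)) (π (n + 1)) (hw _)).map T
    let φ : S₁ ⟶ S₂ := ShortComplex.homMk (T.map (π n)) (𝟙 _) (𝟙 _)
      (show T.map (π n) ≫ T.map (ι (n + 1)) = T.map (Z.d n (n + 1)) ≫ 𝟙 _ by
        rw [Category.comp_id, ← T.map_comp, hd])
      (show 𝟙 _ ≫ T.map (π (n + 1)) = T.map (π (n + 1)) ≫ 𝟙 _ by rw [Category.id_comp, Category.comp_id])
    have : Epi φ.τ₁ := hepi
    have : IsIso φ.τ₂ := inferInstanceAs (IsIso (𝟙 _))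
    have : Mono φ.τ₃ := inferInstanceAs (Mono (𝟙 _))
    exact (ShortComplex.exact_iff_of_epi_of_isIso_of_mono φ).2 hexT
  let φ' : S₁ ⟶ ((T.mapHomologicalComplex (ComplexShape.up ℤ)).obj Z).sc' n (n + 1) (n + 1 + 1) :=
    ShortComplex.homMk (𝟙 _) (𝟙 _) (T.map (ι (n + 1 + 1)))
      (show 𝟙 _ ≫ T.map (Z.d n (n + 1)) = T.map (Z.d n (n + 1)) ≫ 𝟙 _ by
        rw [Category.id_comp, Category.comp_id])
      (show 𝟙 _ ≫ T.map (Z.d (n + 1) (n + 1 + 1)) = T.map (π (n + 1)) ≫ T.map (ι (n + 1 + 1)) by
        rw [Category.id_comp, ← T.map_comp, hd])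
  have : Epi φ'.τ₁ := inferInstanceAs (Epi (𝟙 _))
  have : IsIso φ'.τ₂ := inferInstanceAs (IsIso (𝟙 _))
  have : Mono φ'.τ₃ := hT (n + 1 + 1)
  exact (ShortComplex.exact_iff_of_epi_of_isIso_of_mono φ').1 h₁

/-- Every complex is resolved by a complex with terms in the class. -/
theorem exists_resolution {T' : B ⥤ A} (hP' : IsExactClass T' P) (X : CochainComplex B ℤ) :
    ∃ (Q : CochainComplex B ℤ) (q : Q ⟶ X), QuasiIso q ∧ ∀ n, P (Q.X n) := by
  choose F π hπ hF using fun n : ℤ => hP'.cover (X.X (n - 1))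
  let Fc : CochainComplex B ℤ :=
    { X := fun k => F k
      d := fun _ _ => 0 }
  let D := CochainComplex.mappingCone (𝟙 Fc)
  let α : CochainComplex.HomComplex.Cochain Fc X (-1) :=
    CochainComplex.HomComplex.Cochain.mk fun p q hpq =>
      π p ≫ eqToHom (by rw [show q = p - 1 by omega])
  let z : CochainComplex.HomComplex.Cocycle Fc X 0 :=
    CochainComplex.HomComplex.Cocycle.mk (CochainComplex.HomComplex.δ (-1) 0 α) 1 (by simp)
      (by simp [CochainComplex.HomComplex.δ_δ])
  let q₀ : D ⟶ X := CochainComplex.mappingCone.desc (𝟙 Fc) α z.homOf (by simp [z])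
  have : Epi q₀ := @HomologicalComplex.epi_of_epi_f _ _ _ _ _ _ _ q₀ fun k => by
    have e : (CochainComplex.mappingCone.inl (𝟙 Fc)).v (k + 1) k (by omega) ≫ q₀.f k =
        α.v (k + 1) k (by omega) := by simp [q₀, D]
    have : Epi (α.v (k + 1) k (by omega)) := by
      have := hπ (k + 1)
      simp only [α, CochainComplex.HomComplex.Cochain.mk_v]
      infer_instance
    exact epi_of_epi_fac e
  have hD : ∀ k, P (D.X k) := fun k => by
    obtain ⟨h⟩ : Nonempty (D.X k ≅ Fc.X (k + 1) ⊞ Fc.X k) :=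
      ⟨homotopyCofiber.XIsoBiprod (𝟙 Fc) k (k + 1) (by simp)⟩
    exact hP'.of_mono h.hom inferInstance (hP'.biprod (hF _) (hF _))
  have hse : (ShortComplex.mk _ _ (kernel.condition q₀)).ShortExact :=
    { exact := ShortComplex.exact_kernel q₀ }
  have hK : ∀ k, P ((kernel q₀).X k) := fun k =>
    hP'.of_mono ((kernel.ι q₀).f k) inferInstance (hD k)
  refine ⟨CochainComplex.mappingCone (kernel.ι q₀),
    CochainComplex.mappingCone.descShortComplex (ShortComplex.mk _ _ (kernel.condition q₀)),
    CochainComplex.mappingCone.quasiIso_descShortComplex hse, fun k => ?_⟩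
  exact hP'.of_mono (homotopyCofiber.XIsoBiprod (kernel.ι q₀) k (k + 1) (by simp)).hom inferInstance
    (hP'.biprod (hK _) (hD _))

include hP in
/-- The left adjoint preserves quasi-isomorphisms between complexes with terms in the class. -/
theorem quasiIso_map {Q M : CochainComplex B ℤ} (f : Q ⟶ M) (hQ : ∀ n, P (Q.X n))
    (hM : ∀ n, P (M.X n)) (hf : QuasiIso f) :
    QuasiIso ((T.mapHomologicalComplex (ComplexShape.up ℤ)).map f) := by
  rw [DerCat.quasiIso_iff_acyclic_mappingCone] at hf ⊢
  refine DerCat.acyclic_of_iso (CochainComplex.mappingCone.mapHomologicalComplexIso f T) ?_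
  exact acyclic_map hP _ hf fun k =>
    hP.of_mono (homotopyCofiber.XIsoBiprod f k (k + 1) (by simp)).hom inferInstance
      (hP.biprod (hQ _) (hM _))

variable {U : A ⥤ B} [U.Additive] (adj : T ⊣ U) [HasDerivedCategory.{w} B]

include hP adj in
/-- Homotopy classes of maps out of a complex in the class into the image of a right orthogonal
object compute morphisms in the derived category. -/
theorem bijective_Qh_map {I : HomotopyCategory A (ComplexShape.up ℤ)}
    (hI : (subcategoryAcyclic A).rightOrthogonal I) (M : CochainComplex B ℤ) (hM : ∀ n, P (M.X n)) :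
    Function.Bijective (DerivedCategory.Qh.map : ((quotient B (ComplexShape.up ℤ)).obj M ⟶
      (U.mapHomotopyCategory (ComplexShape.up ℤ)).obj I) → _) := by
  let := HasDerivedCategory.standard A
  let TK := T.mapHomotopyCategory (ComplexShape.up ℤ)
  let a := KInj.mapHomotopyAdj adj
  -- refinement of a morphism inverted in the derived category
  have key : ∀ {Z : HomotopyCategory B (ComplexShape.up ℤ)} (s : Z ⟶ (quotient B _).obj M),
      (subcategoryAcyclic B).trW s → ∃ (Q : HomotopyCategory B (ComplexShape.up ℤ)) (q : Q ⟶ Z),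
        IsIso (DerivedCategory.Qh.map (q ≫ s)) ∧ IsIso (DerivedCategory.Qh.map (TK.map (q ≫ s))) := by
    intro Z s hs
    obtain ⟨K, rfl⟩ := HomotopyCategory.quotient_obj_surjective Z
    obtain ⟨Q, q, hq, hQ⟩ := exists_resolution hP K
    let q' : (quotient B _).obj Q ⟶ (quotient B _).obj K := (quotient B _).map q
    have hi₁ : IsIso (DerivedCategory.Qh.map q') := by
      refine Localization.inverts DerivedCategory.Qh (HomotopyCategory.quasiIso B (ComplexShape.up ℤ)) _ ?_
      rwa [quotient_map_mem_quasiIso_iff, HomologicalComplex.mem_quasiIso_iff]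
    have hi₂ := Localization.inverts (DerivedCategory.Qh (C := B)) (subcategoryAcyclic B).trW _ hs
    have hi : IsIso (DerivedCategory.Qh.map (q' ≫ s)) := by
      rw [Functor.map_comp]; exact IsIso.comp_isIso
    refine ⟨_, q', hi, ?_⟩
    obtain ⟨t, ht⟩ := (quotient B _).map_surjective (q' ≫ s)
    rw [← ht] at hi
    rw [show TK.map (q' ≫ s) = TK.map ((quotient B _).map t) from congrArg TK.map ht.symm]
    have hqt : QuasiIso t := by
      rw [← HomologicalComplex.mem_quasiIso_iff, ← quotient_map_mem_quasiIso_iff,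
        ← DerivedCategory.isIso_Qh_map_iff]
      exact hi
    rw [DerivedCategory.isIso_Qh_map_iff]
    exact (quotient_map_mem_quasiIso_iff _).2
      ((HomologicalComplex.mem_quasiIso_iff _).2 (quasiIso_map hP t hQ hM hqt))
  constructor
  · intro f g hfg
    obtain ⟨Z, s, hs, hsfg⟩ :=
      (MorphismProperty.map_eq_iff_precomp DerivedCategory.Qh (subcategoryAcyclic B).trW f g).1 hfg
    obtain ⟨Q, q, hq, hTq⟩ := key s hs
    apply (a.homEquiv _ _).symm.injective
    apply (hI.map_bijective_of_isTriangulated DerivedCategory.Qh _).1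
    rw [← cancel_epi (DerivedCategory.Qh.map (TK.map (q ≫ s))), ← Functor.map_comp,
      ← Functor.map_comp]
    congr 1
    rw [← a.homEquiv_naturality_left_symm, ← a.homEquiv_naturality_left_symm, Category.assoc,
      Category.assoc, hsfg]
  · intro ψ
    obtain ⟨φ, hφ⟩ := Localization.exists_rightFraction DerivedCategory.Qh
      (subcategoryAcyclic B).trW ψ
    obtain ⟨Q, q, hq, hTq⟩ := key φ.s φ.hs
    obtain ⟨g, hg⟩ := (hI.map_bijective_of_isTriangulated DerivedCategory.Qh _).2
      (inv (DerivedCategory.Qh.map (TK.map (q ≫ φ.s))) ≫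
        DerivedCategory.Qh.map ((a.homEquiv _ _).symm (q ≫ φ.f)))
    have hg' : TK.map (q ≫ φ.s) ≫ g = (a.homEquiv _ _).symm (q ≫ φ.f) :=
      (hI.map_bijective_of_isTriangulated DerivedCategory.Qh _).1 (by
        rw [Functor.map_comp, hg, IsIso.hom_inv_id_assoc])
    have hg'' := congrArg (a.homEquiv _ _) hg'
    rw [Adjunction.homEquiv_naturality_left, Equiv.apply_symm_apply] at hg''
    refine ⟨a.homEquiv _ _ g, ?_⟩
    rw [← cancel_epi (DerivedCategory.Qh.map (q ≫ φ.s)), ← Functor.map_comp, hg'', hφ,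
      Functor.map_comp, Functor.map_comp, Category.assoc, φ.map_s_comp_map]

end GrothLib.SiteDer
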