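import Groth.Agent.Lib.SiteDer.CompareSit

/-!
# Consequences of the vanishing of `R^i ε_*` in the two-topology situation
-/

universe v v' v'' v₁ u u' u'' u₁

open CategoryTheory CategoryTheory.Limits Opposite

namespace GrothLib.HomGamma

open ZeroObject

set_option backward.isDefEq.respectTransparency false

variable {T : Type u} [Category.{v} T] [Abelian T] [EnoughInjectives T]
  {T' : Type u'} [Category.{v'} T'] [Abelian T'] [EnoughInjectives T']
  {ε : T ⥤ T'} [ε.Additive] [PreservesFiniteLimits ε]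
  {B : Type u''} [Category.{v''} B] [Abelian B]

/-- `R^i Φ (ε F) = R^i (ε ⋙ Φ) F` when `R^j ε F = 0` for `1 ≤ j ≤ n` and `i ≤ n`. -/
theorem nonempty_rightDerived_eps' [ε.Full] [ε.Faithful] (hinj : ∀ I : T, Injective I → Injective (ε.obj I))
    (Φ : T' ⥤ B) [Φ.Additive] [PreservesFiniteLimits Φ] (F : T) (n : ℕ)
    (hF : ∀ i, 1 ≤ i → i ≤ n → IsZero ((ε.rightDerived i).obj F)) (i : ℕ) (hi : i ≤ n) :
    Nonempty (((ε ⋙ Φ).rightDerived i).obj F ≅ (Φ.rightDerived i).obj (ε.obj F)) := by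
  haveI : PreservesFiniteLimits (ε ⋙ Φ) := comp_preservesFiniteLimits ε Φ
  cases i with
  | zero => exact ⟨(ε ⋙ Φ).rightDerivedZeroIsoSelf.app F ≪≫ (Φ.rightDerivedZeroIsoSelf.app (ε.obj F)).symm⟩
  | succ i =>
    have := injective_eps_X hinj F
    obtain ⟨e⟩ := nonempty_rightDerived_iso_homology Φ
      ((ε.mapHomologicalComplex (ComplexShape.up ℕ)).obj (injectiveResolution F).cocomplex) i
      fun j h1 h2 => exactAt_eps F n hF j h1 (by omega)
    refine ⟨(injectiveResolution F).isoRightDerivedObj (ε ⋙ Φ) (i + 1) ≪≫ ?_ ≪≫ e.symm ≪≫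
      (Φ.rightDerived (i + 1)).mapIso (zcEpsIso F)⟩
    exact Iso.refl _

/-- The pullback of a weak Serre class along a localisation is weak Serre. -/
theorem isWeakSerre_inverseImage {a : T' ⥤ T} (adj : a ⊣ ε) [ε.Full] [ε.Faithful]
    [a.Additive] [PreservesFiniteLimits a] [PreservesFiniteColimits a]
    {P : ObjectProperty T'} [WSerre.IsWeakSerre P] (hP : ∀ M, P M → IsIso (adj.unit.app M))
    (h1 : ∀ G, P (ε.obj G) → IsZero ((ε.rightDerived 1).obj G)) :
    WSerre.IsWeakSerre (P.inverseImage ε) := by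
  refine { exists_zero := ?_, kernels_le := ?_, cokernels_le := ?_, prop_X₂_of_shortExact := ?_ }
  · exact ⟨0, isZero_zero T, P.prop_of_isZero (ε.map_isZero (isZero_zero T))⟩
  · rintro K ⟨φ, k, hk, hX, hY⟩
    exact P.prop_of_isLimit_kernelFork (k.mapIsLimit hk ε) hX hY
  · rintro K ⟨φ, k, hk, hX, hY⟩
    have hc : P (cokernel (ε.map φ)) :=
      P.prop_of_isColimit_cokernelCofork (colimit.isColimit (parallelPair (ε.map φ) 0)) hX hY
    have := hP _ hc
    refine P.prop_of_iso (asIso (adj.unit.app (cokernel (ε.map φ))) ≪≫ ε.mapIso ?_) hc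
    exact PreservesCokernel.iso a (ε.map φ) ≪≫
      cokernel.mapIso (a.map (ε.map φ)) φ (asIso (adj.counit.app _)) (asIso (adj.counit.app _))
        (adj.counit.naturality φ) ≪≫
      (colimit.isColimit (parallelPair φ 0)).coconePointUniqueUpToIso hk
  · intro S hS hA hB
    exact P.prop_X₂_of_shortExact (shortExact_map_of_isZero ε hS (h1 _ hA)) hA hB

end GrothLib.HomGamma

namespace GrothLib.SiteDer

variable {C : Type u} [SmallCategory C] {J J' : GrothendieckTopology C} (h : J' ≤ J)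
  {P : MorphismProperty C}
  {A' : ∀ X : C, ObjectProperty (Sheaf (J'.over X) AddCommGrpCat.{u})} [∀ X : C, WSerre.IsWeakSerre (A' X)]
  (hs : Situation (J := J) P A')

include hs in
/-- `R^i f_{τ',*} ε_* = ε_* R^i f_{τ,*}` in low degrees. -/
theorem Situation.nonempty_iso_relocalisation (n : ℕ)
    (hV : ∀ (Z : C) (G : Sheaf (J.over Z) AddCommGrpCat.{u}), A' Z ((epsX h Z).obj G) →
      ∀ i : ℕ, 1 ≤ i → i ≤ n → IsZero (((epsX h Z).rightDerived i).obj G))
    {X Y : C} (f : X ⟶ Y) (hf : P f) [HasPullbacksAlong f]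
    [((Over.map f).sheafPushforwardCocontinuous AddCommGrpCat.{u} (J'.over X) (J'.over Y)).Additive]
    [((Over.map f).sheafPushforwardCocontinuous AddCommGrpCat.{u} (J.over X) (J.over Y)).Additive]
    (F : Sheaf (J.over X) AddCommGrpCat.{u}) (hF : A' X ((epsX h X).obj F)) (i : ℕ) (hi : i ≤ n) :
    Nonempty ((((Over.map f).sheafPushforwardCocontinuous AddCommGrpCat.{u} (J'.over X) (J'.over Y)).rightDerived i).obj
        ((epsX h X).obj F) ≅
      (epsX h Y).obj ((((Over.map f).sheafPushforwardCocontinuous AddCommGrpCat.{u} (J.over X) (J.over Y)).rightDerived i).obj F)) := by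
  let U := CohSite.push (J.over X) (J.over Y) (Over.pullback f)
  let Φ := CohSite.push (J'.over X) (J'.over Y) (Over.pullback f)
  haveI : PreservesLimitsOfSize.{0, 0} U :=
    ((Over.pullback f).sheafAdjunctionContinuous AddCommGrpCat.{u} (J.over Y) (J.over X)).rightAdjoint_preservesLimits (G := U)
  haveI : PreservesLimitsOfSize.{0, 0} Φ :=
    ((Over.pullback f).sheafAdjunctionContinuous AddCommGrpCat.{u} (J'.over Y) (J'.over X)).rightAdjoint_preservesLimits (G := Φ)
  let I := (injectiveResolution F).cocomplex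
  let e : U ⋙ epsX h Y ≅ epsX h X ⋙ Φ :=
    NatIso.ofComponents (fun G => ObjectProperty.isoMk _ (NatIso.ofComponents (fun _ => Iso.refl _)
      (fun _ => (Category.comp_id _).trans (Category.id_comp _).symm)))
      (fun φ => Sheaf.hom_ext (by ext Z x; rfl))
  obtain ⟨e₁⟩ := HomGamma.nonempty_rightDerived_eps' (ε := epsX h X)
    (injective_epsSh (SiteCmp.over_le h X)) Φ F n
    (fun j h1 h2 => hV X F hF j h1 h2) i hi
  let eF := (SheafCoh.rightDerivedCongr (cocontIso J' f) i).app ((epsX h X).obj F)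
  let e₂ : ((U ⋙ epsX h Y).mapHomologicalComplex (ComplexShape.up ℕ)).obj I ≅
      ((epsX h X ⋙ Φ).mapHomologicalComplex (ComplexShape.up ℕ)).obj I :=
    (NatIso.mapHomologicalComplex e _).app I
  let S := ((U.mapHomologicalComplex (ComplexShape.up ℕ)).obj I).sc i
  let e₃ : (S.map (epsX h Y)).homology ≅
      (((Over.map f).sheafPushforwardCocontinuous AddCommGrpCat.{u} (J'.over X) (J'.over Y)).rightDerived i).obj
        ((epsX h X).obj F) :=
    (HomologicalComplex.homologyFunctor _ _ i).mapIso e₂ ≪≫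
      ((injectiveResolution F).isoRightDerivedObj (epsX h X ⋙ Φ) i).symm ≪≫ e₁ ≪≫ eF.symm
  have hP : A' Y (S.map (epsX h Y)).homology :=
    (A' Y).prop_of_iso e₃.symm (hs.push f hf _ hF i)
  exact ⟨e₃.symm ≪≫
    (HomGamma.epsHomologyIso (SiteCmp.epsShAdj (SiteCmp.over_le h Y) AddCommGrpCat.{u})
      (hs.isIso_unit h Y) S hP).symm ≪≫
    (epsX h Y).mapIso (((injectiveResolution F).isoRightDerivedObj U i).symm ≪≫
      ((SheafCoh.rightDerivedCongr (cocontIso J f) i).app F).symm)⟩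

/-- Cohomology is unchanged by `ε_*` when its higher derived functors vanish. -/
theorem nonempty_HU_eps {J J' : GrothendieckTopology C} (h : J' ≤ J) (F : Sheaf J AddCommGrpCat.{u})
    (hF : ∀ q, IsZero (((SiteCmp.epsSh h AddCommGrpCat.{u}).rightDerived (q + 1)).obj F)) (n : ℕ) (U : C) :
    Nonempty (CohSite.HU ((SiteCmp.epsSh h AddCommGrpCat.{u}).obj F) n U ≃+ CohSite.HU F n U) := by
  haveI := SiteCmp.idContinuous h
  haveI : PreservesFiniteLimits (CohSite.push J J' (𝟭 C)) :=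
    inferInstanceAs (PreservesFiniteLimits (SiteCmp.epsSh h AddCommGrpCat.{u}))
  exact ⟨((SheafCoh.cohomologyPresheafPushIso (J := J) J' (𝟭 C) (fun I hI => injective_epsSh h I hI) F
    hF n).app (op U)).addCommGroupIsoToAddEquiv⟩

include hs in
/-- `H^n_{τ'}(X, F') = H^n_τ(X, ε^{-1} F')`. -/
theorem Situation.nonempty_cohomology
    (h5 : ∀ (U : C) (S : Sieve U), S ∈ J U → ∃ (ι : Type u) (V : ι → C) (v : ∀ j, V j ⟶ U),
      Sieve.ofArrows V v ∈ J' U ∧ ∀ j, ∃ (W : C) (w : W ⟶ V j), P w ∧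
        Sieve.ofArrows (fun _ : PUnit.{u + 1} => W) (fun _ => w) ∈ J (V j) ∧
        ∃ (κ : Type u) (Wk : κ → C) (wk : ∀ k, Wk k ⟶ W), Sieve.ofArrows Wk wk ∈ J' W ∧
          ∀ k, S.arrows (wk k ≫ w ≫ v j))
    (X : C) (F' : Sheaf (J'.over X) AddCommGrpCat.{u}) (hF' : A' X F') (n : ℕ) (U : Over X) :
    Nonempty (CohSite.HU F' n U ≃+
      CohSite.HU ((SiteCmp.epsShInv (SiteCmp.over_le h X) AddCommGrpCat.{u}).obj F') n U) := by
  let G := (SiteCmp.epsShInv (SiteCmp.over_le h X) AddCommGrpCat.{u}).obj F'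
  have := hs.isIso_unit h X F' hF'
  let e := asIso ((SiteCmp.epsShAdj (SiteCmp.over_le h X) AddCommGrpCat.{u}).unit.app F')
  have hG : A' X ((epsX h X).obj G) := (A' X).prop_of_iso e hF'
  obtain ⟨e₁⟩ := nonempty_HU_eps (SiteCmp.over_le h X) G
    (fun q => hs.isZero_rightDerived_eps h h5 (q + 1) X G hG (q + 1) (by omega) le_rfl) n U
  exact ⟨((((Sheaf.cohomologyPresheafFunctor.{u} (J'.over X) n).mapIso e).app (op U)).addCommGroupIsoToAddEquiv).trans e₁⟩

end GrothLib.SiteDer
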