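import Groth.Agent.Lib.SheafCoh.Leray
import Groth.Agent.Lib.SheafCoh.DerivedComp
import Groth.Agent.Lib.SheafCoh.OverLan
import Groth.Agent.Lib.SheafCoh.Acyclic
import Mathlib.CategoryTheory.Limits.Shapes.Pullback.IsPullback.Basic

/-!
# Higher relocalisation direct images along a morphism with base changes
-/

universe u

open CategoryTheory CategoryTheory.Limits Opposite

namespace GrothLib.SiteDer

variable {C : Type u} [SmallCategory C] (J : GrothendieckTopology C) {X Y : C} (f : X ⟶ Y)

/-- Relocalisation preserves injective abelian sheaves. -/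
theorem injective_push_overMap (I : Sheaf (J.over Y) AddCommGrpCat.{u}) [Injective I] :
    Injective ((CohSite.push (J.over Y) (J.over X) (Over.map f)).obj I) := by
  let e := (Over.mk f).iteratedSliceEquiv
  let I₁ := ((Over.forget (Over.mk f)).sheafPushforwardContinuous AddCommGrpCat.{u}
    ((J.over Y).over (Over.mk f)) (J.over Y)).obj I
  have : Injective I₁ := GrothLib.SheafCoh.injective_over (Over.mk f) (J.over Y) I
  let adj := Adjunction.sheafPushforwardContinuous (E := AddCommGrpCat.{u})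
    (J := (J.over Y).over (Over.mk f)) (K := J.over (Over.mk f).left) e.toAdjunction
  have : PreservesLimitsOfSize.{0, 0}
      ((Over.mk f).iteratedSliceForward.sheafPushforwardContinuous AddCommGrpCat.{u}
        ((J.over Y).over (Over.mk f)) (J.over (Over.mk f).left)) :=
    (Functor.sheafAdjunctionContinuous _ AddCommGrpCat.{u} _ _).rightAdjoint_preservesLimits
      (F := (Over.mk f).iteratedSliceForward.sheafPullback AddCommGrpCat.{u} _ _)
  have : ((Over.mk f).iteratedSliceForward.sheafPushforwardContinuous AddCommGrpCat.{u}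
      ((J.over Y).over (Over.mk f)) (J.over (Over.mk f).left)).PreservesMonomorphisms :=
    preservesMonomorphisms_of_preservesLimitsOfShape _
  exact Injective.injective_of_adjoint adj I₁

/-- Relocalisation is exact, so has no higher derived functors. -/
theorem isZero_Rpush_overMap (F : Sheaf (J.over Y) AddCommGrpCat.{u}) (q : ℕ) :
    IsZero ((CohSite.Rpush (J.over Y) (J.over X) (Over.map f) (q + 1)).obj F) := by
  let G := CohSite.push (J.over Y) (J.over X) (Over.map f)
  have : PreservesColimitsOfSize.{0, 0} G :=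
    ((Over.map f).sheafAdjunctionCocontinuous AddCommGrpCat.{u} (J.over X) (J.over Y)).leftAdjoint_preservesColimits
  have : PreservesLimitsOfSize.{0, 0} G :=
    ((Over.map f).sheafAdjunctionContinuous AddCommGrpCat.{u} (J.over X) (J.over Y)).rightAdjoint_preservesLimits (G := G)
  have : G.PreservesHomology := Functor.preservesHomologyOfExact G
  refine IsZero.of_iso ?_ ((injectiveResolution F).isoRightDerivedObj G (q + 1))
  rw [HomologicalComplex.homologyFunctor_obj, ← HomologicalComplex.exactAt_iff_isZero_homology]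
  exact ((injectiveResolution F).cocomplex_exactAt_succ q).map G

/-- `H^n(Z, F|X) = H^n(Z, F)` naturally in `Z` over `X`. -/
noncomputable def cohPresheafOverMapIso (F : Sheaf (J.over Y) AddCommGrpCat.{u}) (n : ℕ) :
    Sheaf.cohomologyPresheaf.{u} ((CohSite.push (J.over Y) (J.over X) (Over.map f)).obj F) n ≅
      (Over.map f).op ⋙ Sheaf.cohomologyPresheaf.{u} F n :=
  have : PreservesLimitsOfSize.{0, 0} (CohSite.push (J.over Y) (J.over X) (Over.map f)) :=
    ((Over.map f).sheafAdjunctionContinuous AddCommGrpCat.{u} (J.over X) (J.over Y)).rightAdjoint_preservesLimits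
      (G := CohSite.push (J.over Y) (J.over X) (Over.map f))
  GrothLib.SheafCoh.cohomologyPresheafPushIso (J := J.over Y) (J.over X) (Over.map f)
    (fun I hI => @injective_push_overMap C _ J X Y f I hI) F (isZero_Rpush_overMap J f F) n

theorem hasPullbacksAlong_of_isPullback
    (h : ∀ ⦃Y' : C⦄ (g : Y' ⟶ Y), ∃ (W : C) (p : W ⟶ Y') (q : W ⟶ X), IsPullback p q g f) :
    ∀ {W} (g : W ⟶ Y), HasPullback g f := fun g => by
  obtain ⟨W, p, q, hW⟩ := h g
  exact hW.hasPullback

variable [HasPullbacksAlong f]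

instance isContinuous_overPullback : (Over.pullback f).IsContinuous (J.over Y) (J.over X) :=
  (Over.mapPullbackAdj f).isContinuous_of_isCocontinuous _ _

/-- The relocalisation direct image is restriction along base change. -/
noncomputable def cocontIso :
    (Over.map f).sheafPushforwardCocontinuous AddCommGrpCat.{u} (J.over X) (J.over Y) ≅
      CohSite.push (J.over X) (J.over Y) (Over.pullback f) :=
  ((Over.map f).sheafAdjunctionCocontinuous AddCommGrpCat.{u} (J.over X) (J.over Y)).rightAdjointUniq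
    (Adjunction.sheafPushforwardContinuous (E := AddCommGrpCat.{u}) (J := J.over X) (K := J.over Y)
      (Over.mapPullbackAdj f))

/-- Base change along `f`, as an endofunctor of `Over Y`. -/
noncomputable abbrev bc : Over Y ⥤ Over Y := Over.pullback f ⋙ Over.map f

/-- `R^q f_* (F|X)` is the sheafification of `Z ↦ H^q(Z ×_Y X, F)`. -/
noncomputable def rightDerivedOverMapIso
    [((Over.map f).sheafPushforwardCocontinuous AddCommGrpCat.{u} (J.over X) (J.over Y)).Additive]
    (F : Sheaf (J.over Y) AddCommGrpCat.{u}) (q : ℕ) :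
    (((Over.map f).sheafPushforwardCocontinuous AddCommGrpCat.{u} (J.over X) (J.over Y)).rightDerived q).obj
        ((CohSite.push (J.over Y) (J.over X) (Over.map f)).obj F) ≅
      (presheafToSheaf (J.over Y) AddCommGrpCat.{u}).obj
        ((bc f).op ⋙ Sheaf.cohomologyPresheaf.{u} F q) :=
  GrothLib.SheafCoh.rightDerivedCompIso
    ((Over.map f).sheafPushforwardCocontinuous AddCommGrpCat.{u} (J.over X) (J.over Y))
    (GrothLib.SheafCoh.precompSheafify (J.over Y) (Over.pullback f))
    (cocontIso J f ≪≫ GrothLib.SheafCoh.pushIso (J.over Y) (Over.pullback f)) _ q ≪≫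
  (GrothLib.SheafCoh.precompSheafify (J.over Y) (Over.pullback f)).mapIso (cohPresheafOverMapIso J f F q)

/-- The projection from the base change to `mk f`. -/
noncomputable def bcProj (Z : Over Y) : (bc f).obj Z ⟶ Over.mk f :=
  Over.homMk (pullback.snd Z.hom f) rfl

lemma bc_map_bcProj {Z Z' : Over Y} (g : Z' ⟶ Z) : (bc f).map g ≫ bcProj f Z = bcProj f Z' := by
  ext
  simp [bcProj, pullback.lift_snd]

/-- The counit of base change. -/
noncomputable def bcFst (Z : Over Y) : (bc f).obj Z ⟶ Z :=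
  Over.homMk (pullback.fst Z.hom f) pullback.condition

lemma bc_map_bcFst {Z Z' : Over Y} (g : Z' ⟶ Z) : (bc f).map g ≫ bcFst f Z = bcFst f Z' ≫ g := by
  ext
  simp [bcFst, pullback.lift_fst]

/-- A class equalized on `X ×_Y X` dies locally on `Y`, if `R^{n+1}f_*` is separated for the `f`-covering. -/
theorem exists_cover_killing
    (F : Sheaf (J.over Y) AddCommGrpCat.{u}) (n : ℕ)
    (hsep : ∀ (Q : Sheaf (J.over Y) AddCommGrpCat.{u}),
      Nonempty (Q ≅ (presheafToSheaf (J.over Y) AddCommGrpCat.{u}).obj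
        ((bc f).op ⋙ Sheaf.cohomologyPresheaf.{u} F (n + 1))) →
      ∀ s : Q.obj.obj (op (Over.mk (𝟙 Y))),
        Q.obj.map ((Over.mkIdTerminal (X := Y)).from (Over.mk f)).op s = 0 → s = 0)
    (θ : CohSite.HU F (n + 1) (Over.mk f))
    (hθ : ∀ (W : C) (p q : W ⟶ X) (hW : IsPullback p q f f),
      CohSite.res F (n + 1) (Over.homMk p rfl : Over.mk (p ≫ f) ⟶ Over.mk f) θ =
        CohSite.res F (n + 1) (Over.homMk q hW.w.symm : Over.mk (p ≫ f) ⟶ Over.mk f) θ) :
    ∃ (ι : Type u) (Z : ι → C) (g : ∀ i, Z i ⟶ Y), Sieve.ofArrows Z g ∈ J Y ∧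
      ∀ (i : ι) (W : C) (p : W ⟶ Z i) (q : W ⟶ X), IsPullback p q (g i) f →
        CohSite.res F (n + 1) (Over.homMk q rfl : Over.mk (q ≫ f) ⟶ Over.mk f) θ = 0 := by
  let H := Sheaf.cohomologyPresheaf.{u} F (n + 1)
  let P := (bc f).op ⋙ H
  let Q := (presheafToSheaf (J.over Y) AddCommGrpCat.{u}).obj P
  let η : P ⟶ Q.obj := toSheafify (J.over Y) P
  let θc : ∀ Z, P.obj (op Z) := fun Z => CohSite.res F (n + 1) (bcProj f Z) θ
  have res_comp : ∀ {A B D : Over Y} (a : A ⟶ B) (b : B ⟶ D) (x : CohSite.HU F (n + 1) D),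
      CohSite.res F (n + 1) (a ≫ b) x = CohSite.res F (n + 1) a (CohSite.res F (n + 1) b x) := by
    intro A B D a b x
    simp only [CohSite.res]
    rw [op_comp, CategoryTheory.Functor.map_comp]
    rfl
  have hPmap : ∀ {A B : Over Y} (a : A ⟶ B), P.map a.op (θc B) = θc A := by
    intro A B a
    change CohSite.res F (n + 1) ((bc f).map a) (CohSite.res F (n + 1) (bcProj f B) θ) = _
    rw [← res_comp, bc_map_bcProj]
  let top : Over Y := Over.mk (𝟙 Y)
  have hmid : η.app (op (Over.mk f)) (θc (Over.mk f)) = 0 := by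
    obtain ⟨S, hS, hS0⟩ := GrothLib.SheafCoh.exists_cover_res_eq_zero F (Over.mk f) n θ
    refine ((isSheaf_iff_isSheaf_of_type _ _).1
      (((Presheaf.isSheaf_iff_isSheaf_forget _ _ (forget AddCommGrpCat.{u}))).1 Q.property) S hS).isSeparatedFor.ext
      fun V a ha => ?_
    change Q.obj.map a.op (η.app (op (Over.mk f)) (θc (Over.mk f))) = Q.obj.map a.op 0
    rw [map_zero, ← NatTrans.naturality_apply η a.op, ← map_zero (η.app (op V)).hom]
    congr 1
    have hproj : θc (Over.mk f) = CohSite.res F (n + 1) (bcFst f (Over.mk f)) θ := by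
      have := hθ _ (pullback.fst f f) (pullback.snd f f) (IsPullback.of_hasPullback f f)
      let k : (bc f).obj (Over.mk f) ⟶ Over.mk (pullback.fst f f ≫ f) :=
        Over.homMk (𝟙 _) (by simpa using pullback.condition (f := f) (g := f))
      have e1 : bcProj f (Over.mk f) = k ≫ (Over.homMk (pullback.snd f f) pullback.condition.symm : Over.mk (pullback.fst f f ≫ f) ⟶ Over.mk f) := by
        ext; simp [bcProj, k]
      have e2 : bcFst f (Over.mk f) = k ≫ (Over.homMk (pullback.fst f f) rfl : Over.mk (pullback.fst f f ≫ f) ⟶ Over.mk f) := by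
        ext; simp [bcFst, k]
      change CohSite.res F (n + 1) (bcProj f (Over.mk f)) θ = _
      rw [e1, e2, res_comp, res_comp, ← this]
    change CohSite.res F (n + 1) ((bc f).map a) (θc (Over.mk f)) = 0
    rw [hproj, ← res_comp, bc_map_bcFst, res_comp, hS0 a ha, map_zero]
  have htop : η.app (op top) (θc top) = 0 := by
    refine hsep Q ⟨Iso.refl _⟩ _ ?_
    rw [← NatTrans.naturality_apply η, hPmap]
    exact hmid
  let S := Presheaf.equalizerSieve (F := P) (θc top) 0
  have hS : S ∈ J.over Y top :=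
    Presheaf.equalizerSieve_mem (J.over Y) η (θc top) 0 (htop.trans (map_zero (η.app (op top)).hom).symm)
  rw [GrothendieckTopology.mem_over_iff] at hS
  refine ⟨Σ Z : C, {g : Z ⟶ Y // Sieve.overEquiv top S g}, fun i => i.1, fun i => i.2.1,
    J.superset_covering (fun Z g hg => Sieve.ofArrows_mk
      (fun i : (Σ Z : C, {g : Z ⟶ Y // Sieve.overEquiv top S g}) => i.1) (fun i => i.2.1)
      ⟨Z, g, hg⟩) hS, ?_⟩
  rintro ⟨Z, g, hg⟩ W p q hW
  rw [Sieve.overEquiv_iff] at hg
  let a : Over.mk g ⟶ top := Over.homMk g (by simp [top])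
  have hzero : θc (Over.mk g) = 0 := by
    have ha : S.arrows a := by
      refine (congrArg (fun φ => S.arrows φ) ?_).mpr
        (S.downward_closed hg (Over.homMk (𝟙 Z) (by simp [top]) : Over.mk g ⟶ Over.mk (g ≫ top.hom)))
      ext; simp [a]
    have := hPmap a
    rw [← this]
    exact ha.trans (map_zero (P.map a.op).hom)
  let k : Over.mk (q ≫ f) ⟶ (bc f).obj (Over.mk g) :=
    Over.homMk (pullback.lift p q hW.w)
      (by change pullback.lift p q hW.w ≫ pullback.snd g f ≫ f = q ≫ f; rw [pullback.lift_snd_assoc])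
  have e : (Over.homMk q rfl : Over.mk (q ≫ f) ⟶ Over.mk f) = k ≫ bcProj f (Over.mk g) := by
    ext; simp [k, bcProj, pullback.lift_snd]
  rw [e, res_comp]
  change CohSite.res F (n + 1) k (θc (Over.mk g)) = 0
  rw [hzero, map_zero]

end GrothLib.SiteDer

namespace GrothLib.SiteDer

variable {C : Type u} [SmallCategory C]

/-- A section of a `J`-sheaf vanishing on a one-element `J`-covering vanishes. -/
theorem eq_zero_of_isSheaf_of_cover {J : GrothendieckTopology C} {X Y : C} (f : X ⟶ Y)
    (hcov : Sieve.ofArrows (fun _ : PUnit.{u + 1} => X) (fun _ => f) ∈ J Y)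
    (P : (Over Y)ᵒᵖ ⥤ AddCommGrpCat.{u}) (hP : Presheaf.IsSheaf (J.over Y) P)
    (s : P.obj (op (Over.mk (𝟙 Y))))
    (hs : P.map ((Over.mkIdTerminal (X := Y)).from (Over.mk f)).op s = 0) : s = 0 := by
  let a := (Over.mkIdTerminal (X := Y)).from (Over.mk f)
  have hS : Sieve.ofArrows (fun _ : PUnit.{u + 1} => Over.mk f) (fun _ => a) ∈
      J.over Y (Over.mk (𝟙 Y)) := by
    rw [GrothendieckTopology.mem_over_iff, Sieve.overEquiv_ofArrows]
    refine J.superset_covering ?_ hcov
    rintro Z g ⟨_, h, _, ⟨i⟩, rfl⟩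
    refine ⟨_, h, _, Presieve.ofArrows.mk i, ?_⟩
    have : a.left = f := by simpa using Over.w a
    rw [this]
  refine ((isSheaf_iff_isSheaf_of_type _ _).1
    (((Presheaf.isSheaf_iff_isSheaf_forget _ _ (forget AddCommGrpCat.{u}))).1 hP) _ hS).isSeparatedFor.ext
    ?_
  rintro V g ⟨_, h, _, ⟨i⟩, rfl⟩
  change P.map (h ≫ a).op s = P.map (h ≫ a).op 0
  rw [map_zero, op_comp, CategoryTheory.Functor.map_comp]
  exact (congrArg (P.map h.op) hs).trans (map_zero (P.map h.op).hom)

/-- A class equalized on `X ×_Y X` dies `J'`-locally on `Y`, for a `J`-covering `X ⟶ Y`. -/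
theorem exists_cover_killing_of_situation {J J' : GrothendieckTopology C}
    (A' : ∀ X : C, ObjectProperty (Sheaf (J'.over X) AddCommGrpCat.{u}))
    {X Y : C} (f : X ⟶ Y) [(A' Y).IsClosedUnderIsomorphisms] [HasPullbacksAlong f]
    [((Over.map f).sheafPushforwardCocontinuous AddCommGrpCat.{u} (J'.over X) (J'.over Y)).Additive]
    (hcov : Sieve.ofArrows (fun _ : PUnit.{u + 1} => X) (fun _ => f) ∈ J Y)
    (h3 : ∀ G, A' Y G → Presheaf.IsSheaf (J.over Y) G.obj)
    (F : Sheaf (J'.over Y) AddCommGrpCat.{u}) (n : ℕ)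
    (h4 : A' Y ((((Over.map f).sheafPushforwardCocontinuous AddCommGrpCat.{u} (J'.over X) (J'.over Y)).rightDerived (n + 1)).obj
      ((CohSite.push (J'.over Y) (J'.over X) (Over.map f)).obj F)))
    (θ : CohSite.HU F (n + 1) (Over.mk f))
    (hθ : ∀ (W : C) (p q : W ⟶ X) (hW : IsPullback p q f f),
      CohSite.res F (n + 1) (Over.homMk p rfl : Over.mk (p ≫ f) ⟶ Over.mk f) θ =
        CohSite.res F (n + 1) (Over.homMk q hW.w.symm : Over.mk (p ≫ f) ⟶ Over.mk f) θ) :
    ∃ (ι : Type u) (Z : ι → C) (g : ∀ i, Z i ⟶ Y), Sieve.ofArrows Z g ∈ J' Y ∧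
      ∀ (i : ι) (W : C) (p : W ⟶ Z i) (q : W ⟶ X), IsPullback p q (g i) f →
        CohSite.res F (n + 1) (Over.homMk q rfl : Over.mk (q ≫ f) ⟶ Over.mk f) θ = 0 :=
  exists_cover_killing J' f F n (fun Q hQ s hs => eq_zero_of_isSheaf_of_cover f hcov Q.obj
    (h3 Q (by
      obtain ⟨e⟩ := hQ
      exact (A' Y).prop_of_iso (rightDerivedOverMapIso J' f F (n + 1) ≪≫ e.symm) h4)) s hs) θ hθ

end GrothLib.SiteDer
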