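import Groth.Agent.Lib.SiteDer.CompareTop

/-!
# Vanishing of `R^i ε_*` in the two-topology situation
-/

universe u

open CategoryTheory CategoryTheory.Limits Opposite

namespace GrothLib.SiteDer

variable {C : Type u} [SmallCategory C] {J J' : GrothendieckTopology C} (h : J' ≤ J)
  (P : MorphismProperty C)
  (A' : ∀ X : C, ObjectProperty (Sheaf (J'.over X) AddCommGrpCat.{u})) [∀ X : C, WSerre.IsWeakSerre (A' X)]

/-- The hypotheses (1)–(4) on a situation. -/
structure Situation : Prop where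
  pb : ∀ ⦃X Y : C⦄ (f : X ⟶ Y), P f → ∀ ⦃Y' : C⦄ (g : Y' ⟶ Y),
      ∃ (W : C) (p : W ⟶ Y') (q : W ⟶ X), IsPullback p q g f ∧ P p
  res : ∀ ⦃X Y : C⦄ (f : X ⟶ Y) (F' : Sheaf (J'.over Y) AddCommGrpCat.{u}), A' Y F' →
      A' X ((CohSite.push (J'.over Y) (J'.over X) (Over.map f)).obj F')
  isSheaf : ∀ (X : C) (F' : Sheaf (J'.over X) AddCommGrpCat.{u}), A' X F' → Presheaf.IsSheaf (J.over X) F'.obj
  push : ∀ ⦃X Y : C⦄ (f : X ⟶ Y)
      [((Over.map f).sheafPushforwardCocontinuous AddCommGrpCat.{u} (J'.over X) (J'.over Y)).Additive],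
      P f → ∀ (F' : Sheaf (J'.over X) AddCommGrpCat.{u}), A' X F' → ∀ i : ℕ,
        A' Y ((((Over.map f).sheafPushforwardCocontinuous AddCommGrpCat.{u} (J'.over X) (J'.over Y)).rightDerived i).obj F')

/-- `ε_*` over `X`. -/
noncomputable abbrev epsX (X : C) :=
  SiteCmp.epsSh (SiteCmp.over_le h X) AddCommGrpCat.{u}

variable {P A'} (hs : Situation (J := J) P A')

include hs in
theorem Situation.isIso_unit (X : C) (F' : Sheaf (J'.over X) AddCommGrpCat.{u}) (hF' : A' X F') :
    IsIso ((SiteCmp.epsShAdj (SiteCmp.over_le h X) AddCommGrpCat.{u}).unit.app F') :=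
  isIso_unit_of_isSheaf _ F' (hs.isSheaf X F' hF')

include hs in
/-- `α` is injective on `R^{n+1} ε_*` along a covering in `P`. -/
theorem Situation.mono_bcUnit_rightDerived (n : ℕ)
    (hV : ∀ (Z : C) (G : Sheaf (J.over Z) AddCommGrpCat.{u}), A' Z ((epsX h Z).obj G) →
      ∀ i : ℕ, 1 ≤ i → i ≤ n → IsZero (((epsX h Z).rightDerived i).obj G))
    {X Y : C} (f : X ⟶ Y) (hf : P f) [HasPullbacksAlong f]
    (hcov : Sieve.ofArrows (fun _ : PUnit.{u + 1} => X) (fun _ => f) ∈ J Y)
    (F : Sheaf (J.over Y) AddCommGrpCat.{u}) (hF : A' Y ((epsX h Y).obj F)) :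
    Mono ((bcUnit J' f).app (((epsX h Y).rightDerived (n + 1)).obj F)) := by
  haveI : ((Over.map f).sheafPushforwardCocontinuous AddCommGrpCat.{u} (J'.over X) (J'.over Y)).Additive :=
    ((Over.map f).sheafAdjunctionCocontinuous AddCommGrpCat.{u} (J'.over X) (J'.over Y)).right_adjoint_additive
  let U := CohSite.push (J.over Y) (J.over Y) (bc f)
  let Φ := CohSite.push (J'.over Y) (J'.over Y) (bc f)
  haveI : PreservesLimitsOfSize.{0, 0} U :=
    ((bc f).sheafAdjunctionContinuous AddCommGrpCat.{u} (J.over Y) (J.over Y)).rightAdjoint_preservesLimits (G := U)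
  haveI : PreservesLimitsOfSize.{0, 0} Φ :=
    ((bc f).sheafAdjunctionContinuous AddCommGrpCat.{u} (J'.over Y) (J'.over Y)).rightAdjoint_preservesLimits (G := Φ)
  haveI : ∀ G, Mono ((bcUnit J f).app G) := mono_bcUnit J f hcov
  let e : U ⋙ epsX h Y ≅ epsX h Y ⋙ Φ :=
    NatIso.ofComponents (fun G => ObjectProperty.isoMk _ (NatIso.ofComponents (fun _ => Iso.refl _)
      (fun _ => (Category.comp_id _).trans (Category.id_comp _).symm)))
      (fun φ => Sheaf.hom_ext (by ext Z x; rfl))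
  refine HomGamma.mono_app_rightDerived (SiteCmp.epsShAdj (SiteCmp.over_le h Y) AddCommGrpCat.{u})
    (hs.isIso_unit h Y) (injective_epsSh (SiteCmp.over_le h Y)) Φ n
    (fun G hG i h1 h2 => hV Y G hG i h1 h2) U (fun I hI => @injective_push_bc C _ J X Y f _ I hI)
    (bcUnit J f) (bcUnit J' f) e (fun G => Sheaf.hom_ext (by ext Z x; rfl)) F hF fun q => ?_
  exact (A' Y).prop_of_iso (RpushBcIso J' f _ q) (hs.push f hf _ (hs.res f _ hF) q)

include hs in
/-- `R^i ε_{X,*} F = 0` for `F` in `A_X` and `i ≥ 1`. -/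
theorem Situation.isZero_rightDerived_eps
    (h5 : ∀ (U : C) (S : Sieve U), S ∈ J U → ∃ (ι : Type u) (V : ι → C) (v : ∀ j, V j ⟶ U),
      Sieve.ofArrows V v ∈ J' U ∧ ∀ j, ∃ (W : C) (w : W ⟶ V j), P w ∧
        Sieve.ofArrows (fun _ : PUnit.{u + 1} => W) (fun _ => w) ∈ J (V j) ∧
        ∃ (κ : Type u) (Wk : κ → C) (wk : ∀ k, Wk k ⟶ W), Sieve.ofArrows Wk wk ∈ J' W ∧
          ∀ k, S.arrows (wk k ≫ w ≫ v j))
    (n : ℕ) : ∀ (Z : C) (G : Sheaf (J.over Z) AddCommGrpCat.{u}), A' Z ((epsX h Z).obj G) →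
      ∀ i : ℕ, 1 ≤ i → i ≤ n → IsZero (((epsX h Z).rightDerived i).obj G) := by
  induction n with
  | zero => intro Z G hG i h1 h2; omega
  | succ n ih =>
    intro X F hF i h1 h2
    rcases Nat.lt_or_ge i (n + 1) with h3 | h3
    · exact ih X F hF i h1 (by omega)
    obtain rfl : i = n + 1 := by omega
    let H := ((epsX h X).rightDerived (n + 1)).obj F
    rw [IsZero.iff_id_eq_zero]
    apply Sheaf.hom_ext
    ext U₀ ξ
    change ξ = 0
    revert ξ
    obtain ⟨U₀⟩ := U₀
    intro ξ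
    obtain ⟨S, hS, hS0⟩ := exists_cover_of_isZero_epsShInv (SiteCmp.over_le h X) H
      (HomGamma.isZero_a_rightDerived (SiteCmp.epsShAdj (SiteCmp.over_le h X) AddCommGrpCat.{u}) F n) U₀ ξ
    rw [GrothendieckTopology.mem_over_iff] at hS
    obtain ⟨ι, V, v, hV, hVW⟩ := h5 U₀.left _ hS
    let b : ∀ j, Over.mk (v j ≫ U₀.hom) ⟶ U₀ := fun j => Over.homMk (v j) rfl
    refine eq_zero_of_locally_zero H ξ (Sieve.ofArrows _ b) ?_ ?_
    · rw [GrothendieckTopology.mem_over_iff, Sieve.overEquiv_ofArrows]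
      exact hV
    rintro Z a ⟨_, k, _, ⟨j⟩, rfl⟩
    suffices hj : H.obj.map (b j).op ξ = 0 by
      rw [op_comp, CategoryTheory.Functor.map_comp]
      exact (congrArg (H.obj.map k.op) hj).trans (map_zero (H.obj.map k.op).hom)
    obtain ⟨W, w, hPw, hw, κ, Wk, wk, hWk, hWS⟩ := hVW j
    haveI : HasPullbacksAlong w := hasPullbacksAlong_of_isPullback w
      (fun _ g => by obtain ⟨W', p, q, hW', -⟩ := hs.pb w hPw g; exact ⟨W', p, q, hW'⟩)
    let g : V j ⟶ X := v j ≫ U₀.hom
    obtain ⟨eR⟩ := nonempty_restrict_rightDerived_eps h g F (n + 1)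
    have hmono := hs.mono_bcUnit_rightDerived h n ih w hPw hw
      ((CohSite.push (J.over X) (J.over (V j)) (Over.map g)).obj F) (hs.res g _ hF)
    have : Mono ((bcUnit J' w).app ((CohSite.push (J'.over X) (J'.over (V j)) (Over.map g)).obj H)) :=
      ((MorphismProperty.monomorphisms _).arrow_mk_iso_iff
        (Arrow.isoMk eR ((CohSite.push (J'.over (V j)) (J'.over (V j)) (bc w)).mapIso eR)
          ((bcUnit J' w).naturality eR.hom))).1 hmono
    let top : Over (V j) := Over.mk (𝟙 (V j))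
    let c : (Over.map g).obj top ⟶ U₀ :=
      Over.homMk (v j) (Category.id_comp g).symm
    let c' : Over.mk (v j ≫ U₀.hom) ⟶ (Over.map g).obj top :=
      Over.homMk (𝟙 _) (by simp [top, g])
    have hbc : b j = c' ≫ c := by ext; simp [b, c, c']
    suffices hc : H.obj.map c.op ξ = 0 by
      rw [hbc, op_comp, CategoryTheory.Functor.map_comp]
      exact (congrArg (H.obj.map c'.op) hc).trans (map_zero (H.obj.map c'.op).hom)
    have hinj := app_injective_of_mono
      ((bcUnit J' w).app ((CohSite.push (J'.over X) (J'.over (V j)) (Over.map g)).obj H)) (op top)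
    apply hinj
    refine Eq.trans ?_ (map_zero (((bcUnit J' w).app
      ((CohSite.push (J'.over X) (J'.over (V j)) (Over.map g)).obj H)).hom.app (op top)).hom).symm
    let z : (Over.map g).obj ((bc w).obj top) ⟶ (Over.map g).obj top := (Over.map g).map (bcFst w top)
    change H.obj.map z.op (H.obj.map c.op ξ) = 0
    refine eq_zero_of_locally_zero H _
      ((Sieve.overEquiv _).symm ((Sieve.ofArrows Wk wk).pullback (pullback.snd (𝟙 (V j)) w))) ?_ ?_
    · exact GrothendieckTopology.overEquiv_symm_mem_over _ _ _ (J'.pullback_stable _ hWk)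
    intro Z a ha
    rw [Sieve.overEquiv_symm_iff] at ha
    obtain ⟨_, l, _, ⟨k⟩, hl⟩ := ha
    rw [← ConcreteCategory.comp_apply, ← ConcreteCategory.comp_apply, ← CategoryTheory.Functor.map_comp,
      ← CategoryTheory.Functor.map_comp, ← op_comp, ← op_comp]
    refine hS0 _ ?_
    have hd : (a ≫ z ≫ c).left = l ≫ wk k ≫ w ≫ v j := by
      have hp : pullback.fst (𝟙 (V j)) w = pullback.snd (𝟙 (V j)) w ≫ w := by
        simpa using pullback.condition (f := 𝟙 (V j)) (g := w)
      change a.left ≫ pullback.fst (𝟙 (V j)) w ≫ v j = _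
      rw [hp, Category.assoc, ← Category.assoc a.left, ← hl, Category.assoc]
    rw [← (Sieve.overEquiv U₀).symm_apply_apply S, Sieve.overEquiv_symm_iff, Category.assoc, hd]
    exact (Sieve.overEquiv U₀ S).downward_closed (hWS k) l

end GrothLib.SiteDer
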