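import Groth.Agent.Lib.SiteDer.CompareLoc
import Groth.Agent.Lib.DerCat.CompareCore
import Groth.Prelude.Def_SiteCmp

/-!
# Comparing two topologies: site-level ingredients
-/

universe u

open CategoryTheory CategoryTheory.Limits Opposite

namespace GrothLib.SiteDer

variable {C : Type u} [SmallCategory C] {J J' : GrothendieckTopology C} (h : J' ≤ J)

instance faithful_epsSh : (SiteCmp.epsSh h AddCommGrpCat.{u}).Faithful where
  map_injective {F G} a b hab := Sheaf.hom_ext (by
    ext U x
    exact congrArg (fun φ : (SiteCmp.epsSh h AddCommGrpCat.{u}).obj F ⟶ _ => φ.hom.app U x) hab)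

instance full_epsSh : (SiteCmp.epsSh h AddCommGrpCat.{u}).Full where
  map_surjective {F G} g := ⟨⟨{ app := fun U => g.hom.app U, naturality := fun _ _ a => g.hom.naturality a }⟩, rfl⟩

instance preservesFiniteLimits_epsShInv :
    PreservesFiniteLimits (SiteCmp.epsShInv h AddCommGrpCat.{u}) :=
  haveI := SiteCmp.idContinuous h
  have : PreservesFiniteLimits ((𝟭 C).op.lan : (_ ⥤ Cᵒᵖ ⥤ AddCommGrpCat.{u})) :=
    lan_preservesFiniteLimits_of_flat _ _
  Functor.sheafPullbackConstruction.preservesFiniteLimits (𝟭 C) AddCommGrpCat.{u} J' J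

instance preservesColimits_epsShInv :
    PreservesColimitsOfSize.{0, 0} (SiteCmp.epsShInv h AddCommGrpCat.{u}) :=
  (SiteCmp.epsShAdj h AddCommGrpCat.{u}).leftAdjoint_preservesColimits

instance additive_epsShInv : (SiteCmp.epsShInv h AddCommGrpCat.{u}).Additive :=
  haveI := SiteCmp.idContinuous h
  (SiteCmp.epsShAdj h AddCommGrpCat.{u}).left_adjoint_additive

instance preservesFiniteLimits_epsSh :
    PreservesFiniteLimits (SiteCmp.epsSh h AddCommGrpCat.{u}) :=
  have : PreservesLimitsOfSize.{0, 0} (SiteCmp.epsSh h AddCommGrpCat.{u}) :=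
    (SiteCmp.epsShAdj h AddCommGrpCat.{u}).rightAdjoint_preservesLimits
  inferInstance

theorem injective_epsSh (I : Sheaf J AddCommGrpCat.{u}) (hI : Injective I) :
    Injective ((SiteCmp.epsSh h AddCommGrpCat.{u}).obj I) :=
  have : (SiteCmp.epsShInv h AddCommGrpCat.{u}).PreservesMonomorphisms :=
    preservesMonomorphisms_of_preservesLimitsOfShape _
  @Injective.injective_of_adjoint _ _ _ _ _ _ this (SiteCmp.epsShAdj h AddCommGrpCat.{u}) I hI

/-- The unit is invertible on sheaves for the finer topology. -/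
theorem isIso_unit_of_isSheaf (F : Sheaf J' AddCommGrpCat.{u}) (hF : Presheaf.IsSheaf J F.obj) :
    IsIso ((SiteCmp.epsShAdj h AddCommGrpCat.{u}).unit.app F) := by
  let G : Sheaf J AddCommGrpCat.{u} := ⟨F.obj, hF⟩
  let e : F ≅ (SiteCmp.epsSh h AddCommGrpCat.{u}).obj G :=
    ObjectProperty.isoMk _ (NatIso.ofComponents (fun _ => Iso.refl _) (fun _ => by
      simp only [Iso.refl_hom, Category.comp_id, Category.id_comp]; rfl))
  exact (NatTrans.isIso_app_iff_of_iso _ e).2 inferInstance

/-- A sheaf killed by sheafification is locally zero. -/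
theorem exists_cover_of_isZero_epsShInv (H : Sheaf J' AddCommGrpCat.{u})
    (hH : IsZero ((SiteCmp.epsShInv h AddCommGrpCat.{u}).obj H)) (U : C) (x : H.obj.obj (op U)) :
    ∃ S ∈ J U, ∀ ⦃V : C⦄ (g : V ⟶ U), S g → H.obj.map g.op x = 0 := by
  let G := (presheafToSheaf J AddCommGrpCat.{u}).obj H.obj
  let t : H ⟶ (SiteCmp.epsSh h AddCommGrpCat.{u}).obj G :=
    ⟨{ app := fun V => (toSheafify J H.obj).app V, naturality := fun _ _ a => (toSheafify J H.obj).naturality a }⟩
  have ht : t = 0 := by
    apply (SiteCmp.epsShAdj h AddCommGrpCat.{u}).homEquiv _ _ |>.symm.injective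
    exact hH.eq_of_src _ _
  have hx : (toSheafify J H.obj).app (op U) x = 0 := congrArg (fun φ : H ⟶ _ => φ.hom.app (op U) x) ht
  exact ⟨_, Presheaf.equalizerSieve_mem J (toSheafify J H.obj) x 0
    (hx.trans (map_zero ((toSheafify J H.obj).app (op U)).hom).symm),
    fun V g hg => hg.trans (map_zero (H.obj.map g.op).hom)⟩

theorem app_injective_of_mono {J : GrothendieckTopology C} {F G : Sheaf J AddCommGrpCat.{u}}
    (φ : F ⟶ G) [Mono φ] (U : Cᵒᵖ) : Function.Injective (φ.hom.app U) := by
  have : Mono φ.hom := inferInstanceAs (Mono ((sheafToPresheaf J AddCommGrpCat.{u}).map φ))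
  exact (AddCommGrpCat.mono_iff_injective _).1 inferInstance

theorem eq_zero_of_locally_zero {J : GrothendieckTopology C} (F : Sheaf J AddCommGrpCat.{u}) {U : C}
    (x : F.obj.obj (op U)) (S : Sieve U) (hS : S ∈ J U)
    (hx : ∀ ⦃V : C⦄ (g : V ⟶ U), S g → F.obj.map g.op x = 0) : x = 0 :=
  ((isSheaf_iff_isSheaf_of_type _ _).1
    (((Presheaf.isSheaf_iff_isSheaf_forget _ _ (forget AddCommGrpCat.{u}))).1 F.property) S hS).isSeparatedFor.ext
    fun V g hg => (hx g hg).trans (map_zero (F.obj.map g.op).hom).symm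

section BaseChange

variable {X Y : C} (f : X ⟶ Y) [HasPullbacksAlong f] (J)

instance isContinuous_bc : (bc f).IsContinuous (J.over Y) (J.over Y) :=
  Functor.isContinuous_comp (Over.pullback f) (Over.map f) (J.over Y) (J.over X) (J.over Y)

/-- The projection `bc ⟶ id`. -/
noncomputable def bcFstNat : bc f ⟶ 𝟭 (Over Y) where
  app := bcFst f
  naturality _ _ g := bc_map_bcFst f g

/-- `G → f_* f^* G`. -/
noncomputable def bcUnit :
    𝟭 (Sheaf (J.over Y) AddCommGrpCat.{u}) ⟶ CohSite.push (J.over Y) (J.over Y) (bc f) where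
  app G := ⟨Functor.whiskerRight (NatTrans.op (bcFstNat f)) G.obj⟩
  naturality G G' φ := Sheaf.hom_ext (by
    ext Z x
    exact (NatTrans.naturality_apply φ.hom (bcFst f Z.unop).op x).symm)

theorem injective_push_bc (I : Sheaf (J.over Y) AddCommGrpCat.{u}) [Injective I] :
    Injective ((CohSite.push (J.over Y) (J.over Y) (bc f)).obj I) := by
  have := injective_push_overMap J f I
  have : PreservesLimitsOfSize.{0, 0} (CohSite.push (J.over Y) (J.over X) (Over.map f)) :=
    ((Over.map f).sheafAdjunctionContinuous AddCommGrpCat.{u} (J.over X) (J.over Y)).rightAdjoint_preservesLimits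
      (G := CohSite.push (J.over Y) (J.over X) (Over.map f))
  have : (CohSite.push (J.over Y) (J.over X) (Over.map f)).PreservesMonomorphisms :=
    preservesMonomorphisms_of_preservesLimitsOfShape _
  exact Injective.injective_of_adjoint
    (Adjunction.sheafPushforwardContinuous (E := AddCommGrpCat.{u}) (J := J.over X) (K := J.over Y)
      (Over.mapPullbackAdj f)) ((CohSite.push (J.over Y) (J.over X) (Over.map f)).obj I)

theorem mono_bcUnit (hcov : Sieve.ofArrows (fun _ : PUnit.{u + 1} => X) (fun _ => f) ∈ J Y)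
    (G : Sheaf (J.over Y) AddCommGrpCat.{u}) : Mono ((bcUnit J f).app G) := by
  apply (sheafToPresheaf (J.over Y) AddCommGrpCat.{u}).mono_of_mono_map
  have : ∀ Z, Mono (((bcUnit J f).app G).hom.app Z) := fun Z => by
    rw [AddCommGrpCat.mono_iff_injective, injective_iff_map_eq_zero]
    intro x hx
    refine eq_zero_of_locally_zero G x (Sieve.ofArrows (fun _ : PUnit.{u + 1} => (bc f).obj Z.unop)
      (fun _ => bcFst f Z.unop)) ?_ ?_
    · rw [GrothendieckTopology.mem_over_iff, Sieve.overEquiv_ofArrows]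
      refine J.superset_covering ?_ (J.pullback_stable Z.unop.hom hcov)
      rintro W g ⟨_, k, _, ⟨i⟩, hk⟩
      exact ⟨_, pullback.lift g k hk.symm, _, Presieve.ofArrows.mk i, pullback.lift_fst _ _ _⟩
    · rintro V g ⟨_, k, _, ⟨i⟩, rfl⟩
      have hx' : G.obj.map (bcFst f Z.unop).op x = 0 := hx
      rw [op_comp, CategoryTheory.Functor.map_comp]
      exact (congrArg (G.obj.map k.op) hx').trans (map_zero (G.obj.map k.op).hom)
  exact @NatTrans.mono_of_mono_app _ _ _ _ _ _ _ this

/-- The two descriptions of `R^q f_* f^*`. -/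
noncomputable def RpushBcIso
    [((Over.map f).sheafPushforwardCocontinuous AddCommGrpCat.{u} (J.over X) (J.over Y)).Additive]
    (F : Sheaf (J.over Y) AddCommGrpCat.{u}) (q : ℕ) :
    (((Over.map f).sheafPushforwardCocontinuous AddCommGrpCat.{u} (J.over X) (J.over Y)).rightDerived q).obj
        ((CohSite.push (J.over Y) (J.over X) (Over.map f)).obj F) ≅
      (CohSite.Rpush (J.over Y) (J.over Y) (bc f) q).obj F :=
  rightDerivedOverMapIso J f F q ≪≫ (GrothLib.SheafCoh.RpushIso (J.over Y) (bc f) F q).symm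

end BaseChange

section Restrict

variable {X V : C} (g : V ⟶ X)

/-- Higher `ε_*` commute with relocalisation. -/
theorem nonempty_restrict_rightDerived_eps (F : Sheaf (J.over X) AddCommGrpCat.{u}) (i : ℕ) :
    Nonempty (((SiteCmp.epsSh (SiteCmp.over_le h V) AddCommGrpCat.{u}).rightDerived i).obj
        ((CohSite.push (J.over X) (J.over V) (Over.map g)).obj F) ≅
      (CohSite.push (J'.over X) (J'.over V) (Over.map g)).obj
        (((SiteCmp.epsSh (SiteCmp.over_le h X) AddCommGrpCat.{u}).rightDerived i).obj F)) := by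
  let G := CohSite.push (J.over X) (J.over V) (Over.map g)
  let G' := CohSite.push (J'.over X) (J'.over V) (Over.map g)
  let εV := SiteCmp.epsSh (SiteCmp.over_le h V) AddCommGrpCat.{u}
  let εX := SiteCmp.epsSh (SiteCmp.over_le h X) AddCommGrpCat.{u}
  have : PreservesLimitsOfSize.{0, 0} G :=
    ((Over.map g).sheafAdjunctionContinuous AddCommGrpCat.{u} (J.over V) (J.over X)).rightAdjoint_preservesLimits (G := G)
  have : PreservesLimitsOfSize.{0, 0} G' :=
    ((Over.map g).sheafAdjunctionContinuous AddCommGrpCat.{u} (J'.over V) (J'.over X)).rightAdjoint_preservesLimits (G := G')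
  have : PreservesColimitsOfSize.{0, 0} G' :=
    ((Over.map g).sheafAdjunctionCocontinuous AddCommGrpCat.{u} (J'.over V) (J'.over X)).leftAdjoint_preservesColimits
  have : G'.PreservesHomology := Functor.preservesHomologyOfExact G'
  let P := injectiveResolution F
  let P' := GrothLib.SheafCoh.mapInjectiveResolution G P (fun I hI => @injective_push_overMap C _ J V X g I hI)
    (fun n => isZero_Rpush_overMap J g F n)
  refine ⟨P'.isoRightDerivedObj εV i ≪≫ ?_ ≪≫
    G'.mapIso (P.isoRightDerivedObj εX i).symm⟩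
  let K := (εX.mapHomologicalComplex (ComplexShape.up ℕ)).obj P.cocomplex
  refine (HomologicalComplex.homologyFunctor _ _ i).mapIso ?_ ≪≫ GrothLib.SheafCoh.mapHCHomologyIso G' K i
  exact HomologicalComplex.Hom.isoOfComponents (fun _ => Iso.refl _)
    (fun _ _ _ => (Category.id_comp _).trans (Category.comp_id _).symm)

end Restrict

end GrothLib.SiteDer
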