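import Groth.Agent.Lib.SiteDer.PushEquiv
import Groth.Agent.Lib.KInj.SiteMod
import Mathlib.Algebra.Homology.DerivedCategory.SingleTriangle
import Mathlib.CategoryTheory.Adjunction.FullyFaithful

/-! # The comparison morphism between two topologies, on modules -/

universe u

open CategoryTheory CategoryTheory.Limits Opposite Pretriangulated

namespace GrothLib.SiteDer

attribute [local instance] HasDerivedCategory.standard

variable {C : Type u} [SmallCategory C] {J J' : GrothendieckTopology C} (h : J' ≤ J)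
  (O : Sheaf J CommRingCat.{u})

/-- `ε_*` is fully faithful. -/
noncomputable def epsPushFF : (SiteCmp.eps h O).push.FullyFaithful where
  preimage {M N} g := ⟨PresheafOfModules.homMk
    { app := fun X => AddCommGrpCat.ofHom (g.val.app X).hom.toAddMonoidHom
      naturality := fun X Y i => by ext x; exact PresheafOfModules.naturality_apply g.val i x }
    (fun X r m => (g.val.app X).hom.map_smul r m)⟩
  map_preimage g := by ext X x; rfl
  preimage_map g := by ext X x; rfl

theorem isIso_eps_counit : IsIso (SiteCmp.eps h O).adj.counit := by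
  have := (epsPushFF h O).full
  have := (epsPushFF h O).faithful
  infer_instance

variable (A : ObjectProperty (ModSite.Mod O)) (B : Set C)
  (hB : ∀ U : C, ∃ (ι : Type u) (Y : ι → C) (g : ∀ i, Y i ⟶ U), Sieve.ofArrows Y g ∈ J' U ∧ ∀ i, Y i ∈ B)
  (hvan : ∀ U ∈ B, ∀ F : ModSite.Mod O, A F → ∀ p : ℕ, 0 < p → Subsingleton (ModSite.HU O F p U))

include hB hvan in
lemma epi_eps_push (S : ShortComplex (ModSite.Mod O)) (hS : S.ShortExact) (hK : A S.X₁) :
    Epi ((SiteCmp.eps h O).push.map S.g) := by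
  refine (isLocGen_freeMod (ModSite.ringSh (SiteCmp.epsRing h O))).epi _ fun U g => ?_
  obtain ⟨ι, Y, b, hb, hYB⟩ := hB U
  refine Locally.trans_family (fun V W f k ⟨x, hx⟩ =>
    ⟨(freeMod (SiteCmp.epsRing h O)).map k ≫ x, by
      rw [Category.assoc, hx, Functor.map_comp, Category.assoc]⟩) b hb fun i => ?_
  let e := pullFreeIso (SiteCmp.eps h O) (Y i)
  let g' : (freeMod O).obj ((SiteCmp.eps h O).fn.obj (Y i)) ⟶ S.X₃ :=
    e.inv ≫ ((SiteCmp.eps h O).adj.homEquiv _ _).symm ((freeMod (SiteCmp.epsRing h O)).map (b i) ≫ g)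
  have hlift : ∃ x : (freeMod O).obj ((SiteCmp.eps h O).fn.obj (Y i)) ⟶ S.X₂, x ≫ S.g = g' := by
    obtain ⟨y, hy⟩ := Triangle.coyoneda_exact₃ _ hS.singleTriangle_distinguished
      ((DerivedCategory.singleFunctor (ModSite.Mod O) 0).map g') (by
        let e₁ : ((DerivedCategory.singleFunctor (ModSite.Mod O) 0).obj S.X₁)⟦(1 : ℤ)⟧ ≅
            (DerivedCategory.singleFunctor (ModSite.Mod O) (-1)).obj S.X₁ :=
          ((DerivedCategory.singleFunctors (ModSite.Mod O)).shiftIso 1 (-1) 0 (by omega)).app S.X₁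
        refine (cancel_mono e₁.hom).1 ((eq_zero_of_subsingleton_HU S.X₁ (Y i) 0 (-1) 1 (by omega) ?_ _).trans
          zero_comp.symm)
        exact hvan _ (hYB i) _ hK 1 Nat.one_pos)
    obtain ⟨x, hx⟩ := (DerivedCategory.singleFunctor (ModSite.Mod O) 0).map_surjective y
    refine ⟨x, (DerivedCategory.singleFunctor (ModSite.Mod O) 0).map_injective ?_⟩
    rw [Functor.map_comp, hx]
    exact hy.symm
  obtain ⟨x, hx⟩ := hlift
  refine Locally.of_forall fun V k => ?_
  refine ⟨(freeMod (SiteCmp.epsRing h O)).map k ≫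
    (SiteCmp.eps h O).adj.homEquiv _ _ (e.hom ≫ x), ?_⟩
  rw [Category.assoc, ← Adjunction.homEquiv_naturality_right, Category.assoc, hx, Iso.hom_inv_id_assoc,
    Equiv.apply_symm_apply, Functor.map_comp, Category.assoc]

variable [WSerre.IsWeakSerre A]

include hB hvan in
theorem isWeakSerre_map [PreservesFiniteLimits (SiteCmp.eps h O).pull] :
    WSerre.IsWeakSerre (A.map (SiteCmp.eps h O).push) := by
  let f := SiteCmp.eps h O
  have := isIso_eps_counit h O
  have := (epsPushFF h O).full
  have := (epsPushFF h O).faithful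
  have : PreservesLimitsOfSize.{0, 0} f.push := f.adj.rightAdjoint_preservesLimits
  have : PreservesFiniteLimits f.push := inferInstance
  have hmem : ∀ F, A F → A.map f.push (f.push.obj F) := fun F hF => A.prop_map_obj f.push hF
  have : (A.map f.push).IsClosedUnderIsomorphisms := inferInstance
  refine { exists_zero := ?_, kernels_le := ?_, cokernels_le := ?_, prop_X₂_of_shortExact := ?_ }
  · obtain ⟨Z, hZ, hAZ⟩ := A.exists_prop_of_containsZero
    exact ⟨_, f.push.map_isZero hZ, hmem Z hAZ⟩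
  · rintro _ ⟨φ, k, hk, hX, hY⟩
    rw [ObjectProperty.prop_map_iff] at hX hY
    obtain ⟨X, hX, ⟨eX⟩⟩ := hX
    obtain ⟨Y, hY, ⟨eY⟩⟩ := hY
    obtain ⟨ψ, hψ⟩ := f.push.map_surjective (eX.hom ≫ φ ≫ eY.inv)
    have hker : A (kernel ψ) := A.prop_of_isLimit_kernelFork (limit.isLimit (parallelPair ψ 0)) hX hY
    refine (A.map f.push).prop_of_iso ?_ (hmem _ hker)
    exact PreservesKernel.iso f.push ψ ≪≫ kernel.mapIso (f.push.map ψ) φ eX eY (by rw [hψ]; simp) ≪≫
      (limit.isLimit (parallelPair φ 0)).conePointUniqueUpToIso hk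
  · rintro _ ⟨φ, k, hk, hX, hY⟩
    rw [ObjectProperty.prop_map_iff] at hX hY
    obtain ⟨X, hX, ⟨eX⟩⟩ := hX
    obtain ⟨Y, hY, ⟨eY⟩⟩ := hY
    obtain ⟨ψ, hψ⟩ := f.push.map_surjective (eX.hom ≫ φ ≫ eY.inv)
    have hcok : A (cokernel ψ) := A.prop_of_isColimit_cokernelCofork (colimit.isColimit (parallelPair ψ 0)) hX hY
    have hker : A (kernel ψ) := A.prop_of_isLimit_kernelFork (limit.isLimit (parallelPair ψ 0)) hX hY
    let S₁ := ShortComplex.mk (kernel.ι ψ) (Abelian.factorThruImage ψ) (by
      rw [← cancel_mono (Abelian.image.ι ψ)]; simp)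
    have hS₁ : S₁.ShortExact := { exact := (ShortComplex.exact_iff_of_epi_of_isIso_of_mono
      (S₁ := S₁) (S₂ := ShortComplex.mk (kernel.ι ψ) ψ (kernel.condition ψ))
      { τ₁ := 𝟙 _, τ₂ := 𝟙 _, τ₃ := Abelian.image.ι ψ }).2 (ShortComplex.exact_kernel ψ) }
    have h₁ := epi_eps_push h O A B hB hvan S₁ hS₁ hker
    let S₂ := ShortComplex.mk (Abelian.image.ι ψ) (cokernel.π ψ) (kernel.condition _)
    have hS₂ : S₂.ShortExact := { exact := ShortComplex.exact_kernel (cokernel.π ψ) }
    have him : A (Abelian.image ψ) :=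
      A.prop_of_isLimit_kernelFork (limit.isLimit (parallelPair (cokernel.π ψ) 0)) hY hcok
    have h₂ := epi_eps_push h O A B hB hvan S₂ hS₂ him
    have hex : (S₂.map f.push).Exact :=
      hS₂.exact.map_of_mono_of_preservesKernel f.push inferInstance inferInstance
    have : Epi (f.push.map (Abelian.factorThruImage ψ)) := h₁
    have : Epi (S₂.map f.push).g := h₂
    have w : f.push.map ψ ≫ f.push.map (cokernel.π ψ) = 0 := by
      rw [← Functor.map_comp, cokernel.condition, Functor.map_zero]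
    let χ : ShortComplex.mk (f.push.map ψ) (f.push.map (cokernel.π ψ)) w ⟶ S₂.map f.push :=
        { τ₁ := f.push.map (Abelian.factorThruImage ψ), τ₂ := 𝟙 _, τ₃ := 𝟙 _
          comm₁₂ := by
            change f.push.map (Abelian.factorThruImage ψ) ≫ f.push.map (Abelian.image.ι ψ) = f.push.map ψ ≫ 𝟙 _
            rw [Category.comp_id, ← Functor.map_comp, Abelian.image.fac]
          comm₂₃ := (Category.id_comp _).trans (Category.comp_id _).symm }
    have : Epi χ.τ₁ := h₁
    have : IsIso χ.τ₂ := IsIso.id _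
    have : IsIso χ.τ₃ := IsIso.id _
    have : Mono χ.τ₃ := inferInstance
    have hex' : (ShortComplex.mk (f.push.map ψ) (f.push.map (cokernel.π ψ)) w).Exact :=
      (ShortComplex.exact_iff_of_epi_of_isIso_of_mono χ).2 hex
    have : Epi (f.push.map (cokernel.π ψ)) := h₂
    let e : cokernel (f.push.map ψ) ≅ f.push.obj (cokernel ψ) :=
      (colimit.isColimit (parallelPair (f.push.map ψ) 0)).coconePointUniqueUpToIso hex'.gIsCokernel
    refine (A.map f.push).prop_of_iso ?_ (hmem _ hcok)
    exact e.symm ≪≫ cokernel.mapIso (f.push.map ψ) φ eX eY (by rw [hψ]; simp) ≪≫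
      (colimit.isColimit (parallelPair φ 0)).coconePointUniqueUpToIso hk
  · intro S hS h₁ h₃
    rw [ObjectProperty.prop_map_iff] at h₁ h₃
    obtain ⟨F, hF, ⟨eF⟩⟩ := h₁
    obtain ⟨G, hG, ⟨eG⟩⟩ := h₃
    have hS' : (S.map f.pull).ShortExact := hS.map_of_exact f.pull
    have iF : IsIso (f.adj.unit.app S.X₁) :=
      (NatTrans.isIso_app_iff_of_iso f.adj.unit eF).1 inferInstance
    have iG : IsIso (f.adj.unit.app S.X₃) :=
      (NatTrans.isIso_app_iff_of_iso f.adj.unit eG).1 inferInstance
    have hA₁ : A (f.pull.obj S.X₁) :=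
      A.prop_of_iso ((asIso (f.adj.counit.app F)).symm ≪≫ f.pull.mapIso eF) hF
    have hA₃ : A (f.pull.obj S.X₃) :=
      A.prop_of_iso ((asIso (f.adj.counit.app G)).symm ≪≫ f.pull.mapIso eG) hG
    have hA₂ : A (f.pull.obj S.X₂) := A.prop_X₂_of_shortExact hS' hA₁ hA₃
    have h₂ := epi_eps_push h O A B hB hvan (S.map f.pull) hS' hA₁
    have := hS'.mono_f
    have hS'' : ((S.map f.pull).map f.push).ShortExact :=
      { exact := hS'.exact.map_of_mono_of_preservesKernel f.push inferInstance inferInstance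
        mono_f := inferInstanceAs (Mono (f.push.map (S.map f.pull).f))
        epi_g := h₂ }
    let φ : S ⟶ (S.map f.pull).map f.push :=
      { τ₁ := f.adj.unit.app S.X₁, τ₂ := f.adj.unit.app S.X₂, τ₃ := f.adj.unit.app S.X₃
        comm₁₂ := (f.adj.unit.naturality S.f).symm
        comm₂₃ := (f.adj.unit.naturality S.g).symm }
    have : IsIso φ.τ₁ := iF
    have : IsIso φ.τ₃ := iG
    have h2 : IsIso φ.τ₂ := ShortComplex.isIso₂_of_shortExact_of_isIso₁₃ φ hS hS''
    exact (A.map f.push).prop_of_iso (@asIso _ _ _ _ φ.τ₂ h2).symm (hmem _ hA₂)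

include hB hvan in
theorem eps_unit_inD [PreservesFiniteLimits (SiteCmp.eps h O).pull] [SiteCmp.HasRpushD (SiteCmp.eps h O)]
    (adj : SiteCmp.pullD (SiteCmp.eps h O) ⊣ SiteCmp.RpushD (SiteCmp.eps h O))
    (F' : ModSite.Mod (SiteCmp.epsRing h O)) (hF' : A.map (SiteCmp.eps h O).push F') :
    IsIso (adj.unit.app (SiteCmp.inD _ F')) := by
  have := isIso_eps_counit h O
  obtain ⟨F, hF, ⟨eF⟩⟩ := (A.prop_map_iff (SiteCmp.eps h O).push F').1 hF'
  have := (epsPushFF h O).full
  have := (epsPushFF h O).faithful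
  have iu : IsIso ((SiteCmp.eps h O).adj.unit.app F') :=
    (NatTrans.isIso_app_iff_of_iso (SiteCmp.eps h O).adj.unit eF).1 inferInstance
  let f := SiteCmp.eps h O
  let inC := DerivedCategory.singleFunctor (ModSite.Mod O) 0
  let inC' := DerivedCategory.singleFunctor (ModSite.Mod (SiteCmp.epsRing h O)) 0
  let eL : ∀ N, (SiteCmp.pullD f).obj (inC'.obj N) ≅ inC.obj (f.pull.obj N) := fun N =>
    (f.pull.mapDerivedCategorySingleFunctor 0).app N
  have hPF : A (f.pull.obj F') :=
    A.prop_of_iso ((asIso (f.adj.counit.app F)).symm ≪≫ f.pull.mapIso eF) hF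
  let M := f.pull.obj F'
  let X := (SiteCmp.RpushD f).obj ((SiteCmp.pullD f).obj (inC'.obj F'))
  let eX : X ≅ (Rres f).obj (inC.obj M) :=
    (rpushDIso f).app _ ≪≫ (Rres f).mapIso (eL F')
  have hGE : ((Rres f).obj (inC.obj M)).IsGE 0 := isGE_Rres f _ 0
  have hLE : ((Rres f).obj (inC.obj M)).IsLE 0 := by
    rw [DerivedCategory.isLE_iff]
    intro k hk
    refine (isLocGen_freeMod (ModSite.ringSh (SiteCmp.epsRing h O))).isZero_homology fun V φ => ?_
    obtain ⟨ι, Y, b, hb, hYB⟩ := hB V
    refine Locally.trans_family (fun W W' g l hg => by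
      rw [Functor.map_comp, Functor.map_comp, Category.assoc, hg, comp_zero]) b hb fun i =>
        Locally.of_forall fun W l => ?_
    have := vanD_of_upstairs f A 0 (Y i) (fun N hN p hp => hvan _ (hYB i) N hN p hp) M hPF k 0
      (by omega) ((DerivedCategory.singleFunctor _ k).map
        ((freeMod (SiteCmp.epsRing h O)).map (b i)) ≫ φ)
    rw [Functor.map_comp, Functor.map_comp, Category.assoc, this, comp_zero]
  obtain ⟨e'⟩ := DerTrunc.nonempty_iso_single ((Rres f).obj (inC.obj M)) 0
  obtain ⟨u, hu⟩ := inC'.map_surjective (adj.unit.app (inC'.obj F') ≫ eX.hom ≫ e'.hom)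
  have hb : ∀ N, Function.Bijective (fun g : N ⟶ F' => f.pull.map g) := by
    intro N
    have : IsIso (f.adj.unit.app F') := iu
    have e1 : (fun g : N ⟶ F' => f.pull.map g) =
        (fun g => (f.adj.homEquiv _ _).symm (g ≫ f.adj.unit.app F')) := by
      funext g
      simp [Adjunction.homEquiv_counit]
    rw [e1]
    exact (f.adj.homEquiv _ _).symm.bijective.comp (asIso (f.adj.unit.app F')).homToEquiv.bijective
  have hbij : ∀ N, Function.Bijective (fun g : N ⟶ F' => g ≫ u) := by
    intro N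
    let Φ : (f.pull.obj N ⟶ M) ≃ (N ⟶ (DerivedCategory.homologyFunctor _ 0).obj ((Rres f).obj (inC.obj M))) :=
      (Functor.FullyFaithful.ofFullyFaithful inC).homEquiv.trans
        (((Iso.homCongr (eL N).symm (eL F').symm).trans (adj.homEquiv _ _)).trans
          ((Iso.homCongr (Iso.refl _) (eX ≪≫ e')).trans
            (Functor.FullyFaithful.ofFullyFaithful inC').homEquiv.symm))
    have hΦ : (fun g : N ⟶ F' => g ≫ u) = Φ ∘ (fun g => f.pull.map g) := by
      funext g
      apply inC'.map_injective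
      have hn := (f.pull.mapDerivedCategorySingleFunctor 0).hom.naturality g
      change (SiteCmp.pullD f).map (inC'.map g) ≫ (eL F').hom = (eL N).hom ≫ inC.map (f.pull.map g) at hn
      rw [Functor.map_comp, hu]
      simp only [Φ, Function.comp_apply, Equiv.trans_apply, Iso.homCongr_apply,
        Functor.FullyFaithful.homEquiv_symm_apply, Functor.FullyFaithful.homEquiv_apply,
        Functor.FullyFaithful.map_preimage]
      simp only [Iso.refl_inv, Category.id_comp, Iso.symm_inv, Iso.symm_hom, Iso.trans_hom]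
      erw [← reassoc_of% hn, Iso.hom_inv_id, Category.comp_id]
      rw [Adjunction.homEquiv_unit]
      exact (Category.assoc _ _ _).symm.trans (congrArg (· ≫ _) (adj.unit.naturality (inC'.map g)))
    rw [hΦ]
    exact Φ.bijective.comp (hb N)
  have : IsIso u := by
    obtain ⟨v, hv⟩ := (hbij _).2 (𝟙 _)
    exact ⟨v, (hbij _).1 (by simp only [Category.assoc]; rw [show v ≫ u = 𝟙 _ from hv, Category.comp_id, Category.id_comp]), hv⟩
  have : IsIso (adj.unit.app (inC'.obj F') ≫ eX.hom ≫ e'.hom) := by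
    rw [← hu]; infer_instance
  exact IsIso.of_isIso_comp_right _ (eX.hom ≫ e'.hom)

end GrothLib.SiteDer
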