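import Groth.Agent.Lib.DerCat.CohIn

/-! # Comparison by an exact functor on bounded below derived categories -/

universe w w' v v' u u'

open CategoryTheory Limits DerivedCategory

namespace GrothLib.DerTrunc

variable {A : Type u} [Category.{v} A] [Abelian A] [HasDerivedCategory.{w} A]
  {B : Type u'} [Category.{v'} B] [Abelian B] [HasDerivedCategory.{w'} B]
  {F : A ⥤ B} [F.Additive] [PreservesFiniteLimits F] [PreservesFiniteColimits F]
  {G : DerivedCategory B ⥤ DerivedCategory A} (adj : F.mapDerivedCategory ⊣ G)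
  (P : ObjectProperty B) [WSerre.IsWeakSerre P] (Q : ObjectProperty A) [WSerre.IsWeakSerre Q]

omit [WSerre.IsWeakSerre Q] in
lemma cohIn_mapDerivedCategory (ha : ∀ M, Q M → P (F.obj M)) {Y : DerivedCategory A}
    (hY : WSerre.cohIn Q Y) : WSerre.cohIn P (F.mapDerivedCategory.obj Y) := fun i =>
  P.prop_of_iso (nonempty_homology_mapDerivedCategory F Y i).some.symm (ha _ (hY i))

omit [WSerre.IsWeakSerre Q] in
lemma isIso_counit_single (hc : ∀ M, P M → ∃ M', Q M' ∧ Nonempty (F.obj M' ≅ M))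
    (h3 : ∀ M', Q M' → IsIso (adj.unit.app ((singleFunctor A 0).obj M'))) {M : B} (hM : P M) :
    IsIso (adj.counit.app ((singleFunctor B 0).obj M)) ∧
      ∃ M', Q M' ∧ Nonempty (G.obj ((singleFunctor B 0).obj M) ≅ (singleFunctor A 0).obj M') := by
  obtain ⟨M', hM', ⟨e⟩⟩ := hc M hM
  let e' : F.mapDerivedCategory.obj ((singleFunctor A 0).obj M') ≅ (singleFunctor B 0).obj M :=
    (F.mapDerivedCategorySingleFunctor 0).app M' ≪≫ (singleFunctor B 0).mapIso e
  have := h3 M' hM'
  have t := adj.left_triangle_components ((singleFunctor A 0).obj M')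
  have : IsIso (F.mapDerivedCategory.map (adj.unit.app ((singleFunctor A 0).obj M')) ≫
      adj.counit.app (F.mapDerivedCategory.obj ((singleFunctor A 0).obj M'))) := by
    rw [t]; exact IsIso.id _
  have h := IsIso.of_isIso_comp_left
    (F.mapDerivedCategory.map (adj.unit.app ((singleFunctor A 0).obj M')))
    (adj.counit.app (F.mapDerivedCategory.obj ((singleFunctor A 0).obj M')))
  exact ⟨(NatTrans.isIso_app_iff_of_iso adj.counit e').1 h, M', hM',
    ⟨G.mapIso e'.symm ≪≫ (asIso (adj.unit.app ((singleFunctor A 0).obj M'))).symm⟩⟩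

theorem equivalence_cohInPlus (ha : ∀ M, Q M → P (F.obj M))
    (hc : ∀ M, P M → ∃ M', Q M' ∧ Nonempty (F.obj M' ≅ M))
    (h3 : ∀ M', Q M' → IsIso (adj.unit.app ((singleFunctor A 0).obj M'))) :
    (∀ Y, WSerre.cohInPlus Q Y → WSerre.cohInPlus P (F.mapDerivedCategory.obj Y) ∧
      IsIso (adj.unit.app Y)) ∧
    (∀ X, WSerre.cohInPlus P X → WSerre.cohInPlus Q (G.obj X) ∧ IsIso (adj.counit.app X)) := by
  constructor
  · rintro Y ⟨hY, hY'⟩
    obtain ⟨a, ha'⟩ := exists_isGE_of_plus hY'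
    exact ⟨⟨cohIn_mapDerivedCategory P Q ha hY, a, isGE_mapDerivedCategory F Y a⟩,
      isIso_unit_of_isGE adj Y a fun q => h3 _ (hY q)⟩
  · rintro X ⟨hX, hX'⟩
    obtain ⟨a, ha'⟩ := exists_isGE_of_plus hX'
    refine ⟨⟨?_, a, isGE_rightAdjoint adj X a⟩,
      isIso_counit_of_isGE adj X a fun q => (isIso_counit_single adj P Q hc h3 (hX q)).1⟩
    letI := adj.rightAdjointCommShift ℤ
    haveI := adj.commShift_of_leftAdjoint ℤ
    haveI := adj.isTriangulated_rightAdjoint
    refine cohIn_map_of_isGE P Q (fun X n _ => isGE_rightAdjoint adj X n) (fun M hM => ?_) X a hX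
    obtain ⟨M', hM', ⟨e⟩⟩ := (isIso_counit_single adj P Q hc h3 hM).2
    exact cohIn_of_iso Q e.symm (cohIn_single Q hM' 0)

end GrothLib.DerTrunc
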