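import Groth.Agent.Lib.SiteDer.PushCoh

/-! # Bounded cohomological dimension of derived direct images -/

universe u

open CategoryTheory CategoryTheory.Limits Opposite Pretriangulated

namespace GrothLib.SiteDer

attribute [local instance] HasDerivedCategory.standard

variable {C : Type u} [SmallCategory C] {J : GrothendieckTopology C}
  {O_C : Sheaf J CommRingCat.{u}} {D : Type u} [SmallCategory D] {K : GrothendieckTopology D}
  {O_D : Sheaf K CommRingCat.{u}} (f : ModSite.RMor O_C O_D)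
  (P : ObjectProperty (ModSite.Mod O_C)) [WSerre.IsWeakSerre P]

theorem isIso_homology_Rres_truncMap [HasInjectiveResolutions (ModSite.Mod O_C)] (N : ℤ)
    (h4 : ∀ M, P M → ∀ p : ℕ, N < (p : ℤ) → IsZero ((f.Rpush p).obj M))
    (E : DerivedCategory (ModSite.Mod O_C)) (hE : WSerre.cohIn P E) (j : ℤ) (m : ℕ)
    (hm : N - (m : ℤ) ≤ j) :
    IsIso ((DerivedCategory.homologyFunctor (ModSite.Mod O_D) j).map
      ((Rres f).map ((DerivedCategory.TStructure.t.natTransTruncGEOfLE (-((m + 1 : ℕ) : ℤ)) (-(m : ℤ))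
        (by omega)).app E))) := by
  haveI : (Rres f).IsTriangulated := isTriangulated_res_map f.push
  obtain ⟨Z, a, c, hZT, hZ, hz, ⟨e⟩⟩ := exists_cone_truncMap E m
  have : Z.IsLE (-(m : ℤ) - 2) := (DerivedCategory.isLE_iff _ _).2 fun q hq => hz q (by omega)
  obtain ⟨eZ⟩ := DerTrunc.nonempty_iso_single Z (-(m : ℤ) - 2)
  have hPZ := P.prop_of_iso e.symm (hE _)
  have h0 : ∀ i, N < i - (-(m : ℤ) - 2) →
      IsZero ((DerivedCategory.homologyFunctor (ModSite.Mod O_D) i).obj ((Rres f).obj Z)) := fun i hi =>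
    (isZero_homology_Rres_single f _ (h4 _ hPZ) i _ hi).of_iso
      ((DerivedCategory.homologyFunctor _ i).mapIso ((Rres f).mapIso eZ))
  exact DerTrunc.isIso_homology_mor₁ ((Rres f).map_distinguished _ hZT) j (h0 _ (by omega)) (h0 _ (by omega))

variable [SiteCmp.HasRpushD f]

lemma isIso_homology_RpushD_iff {X Y : DerivedCategory (ModSite.Mod O_C)} (g : X ⟶ Y) (j : ℤ) :
    IsIso ((DerivedCategory.homologyFunctor (ModSite.Mod O_D) j).map ((SiteCmp.RpushD f).map g)) ↔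
      IsIso ((DerivedCategory.homologyFunctor (ModSite.Mod O_D) j).map ((Rres f).map g)) :=
  NatIso.isIso_map_iff
    (Functor.isoWhiskerRight (rpushDIso f) (DerivedCategory.homologyFunctor (ModSite.Mod O_D) j)) g

theorem cohIn_RpushD_of_plus [HasInjectiveResolutions (ModSite.Mod O_C)]
    (Q : ObjectProperty (ModSite.Mod O_D)) [WSerre.IsWeakSerre Q]
    (h3 : ∀ M, P M → ∀ p : ℕ, Q ((f.Rpush p).obj M))
    (X : DerivedCategory (ModSite.Mod O_C)) (a : ℤ) [X.IsGE a] (hX : WSerre.cohIn P X) :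
    WSerre.cohIn Q ((SiteCmp.RpushD f).obj X) :=
  DerTrunc.cohIn_of_iso Q ((rpushDIso f).app X).symm (cohIn_Rres_of_plus f P Q h3 X a hX)

/-- The truncation comparison. -/
theorem isIso_homology_RpushD_truncπ [HasInjectiveResolutions (ModSite.Mod O_C)]
    (B : Set C)
    (hB : ∀ U : C, ∃ (ι : Type u) (Y : ι → C) (g : ∀ i, Y i ⟶ U),
      Sieve.ofArrows Y g ∈ J U ∧ ∀ i, Y i ∈ B)
    (hA : ∀ V ∈ B, ∃ d : ℕ, ∀ T ∈ J V, ∃ (ι : Type u) (Y : ι → C) (g : ∀ i, Y i ⟶ V),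
      (∀ i, T.arrows (g i)) ∧ Sieve.ofArrows Y g ∈ J V ∧
      ∀ (i : ι) (F : ModSite.Mod O_C), P F → ∀ k : ℕ, d < k → Subsingleton (ModSite.HU O_C F k (Y i)))
    (B' : Set D)
    (hB' : ∀ U : D, ∃ (ι : Type u) (Y : ι → D) (g : ∀ i, Y i ⟶ U),
      Sieve.ofArrows Y g ∈ K U ∧ ∀ i, Y i ∈ B')
    (hV : ∀ V ∈ B', ∃ d : ℤ, ∀ T ∈ K V, ∃ (ι : Type u) (Y : ι → D) (g : ∀ i, Y i ⟶ V),
      (∀ i, T.arrows (g i)) ∧ Sieve.ofArrows Y g ∈ K V ∧ ∀ i, VanD f P d (Y i))
    (N : ℤ) (h4 : ∀ M, P M → ∀ p : ℕ, N < (p : ℤ) → IsZero ((f.Rpush p).obj M))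
    (X : DerivedCategory (ModSite.Mod O_C)) (hX : WSerre.cohIn P X) (n : ℕ) (j : ℤ)
    (hj : N - (n : ℤ) ≤ j) :
    IsIso ((DerivedCategory.homologyFunctor (ModSite.Mod O_D) j).map
      ((SiteCmp.RpushD f).map ((DerivedCategory.TStructure.t.truncGEπ (-(n : ℤ))).app X))) :=
  (isIso_homology_RpushD_iff f _ j).2 (isIso_homology_Rres_truncπ f P X hX B hB hA B' hB' hV j n
    fun m hm => isIso_homology_Rres_truncMap f P N h4 X hX j m (by omega))

end GrothLib.SiteDer
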