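import Groth.Agent.Lib.SiteDer.PushBound
import Groth.Agent.Lib.SiteDer.EquivPlus
import Groth.Agent.Lib.DerCat.MapHomology

/-! # Comparison by a flat morphism of ringed sites on unbounded derived categories -/

universe u

open CategoryTheory CategoryTheory.Limits Opposite Pretriangulated

namespace GrothLib.SiteDer

section

variable {A B : Type*} [Category A] [Category B] (F : A ⥤ B) (Q : ObjectProperty A)

lemma isIso_of_isIso_map_of_bijective
    (hQ : ∀ X Y, Q X → Q Y → Function.Bijective (fun φ : X ⟶ Y => F.map φ))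
    {X Y : A} (hX : Q X) (hY : Q Y) (φ : X ⟶ Y) (h : IsIso (F.map φ)) : IsIso φ := by
  obtain ⟨ψ, hψ⟩ := (hQ Y X hY hX).2 (inv (F.map φ))
  change F.map ψ = inv (F.map φ) at hψ
  refine ⟨ψ, (hQ X X hX hX).1 ?_, (hQ Y Y hY hY).1 ?_⟩ <;>
    simp [hψ]

end

attribute [local instance] HasDerivedCategory.standard

variable {C : Type u} [SmallCategory C] {J : GrothendieckTopology C}
  {O_C : Sheaf J CommRingCat.{u}} {D : Type u} [SmallCategory D] {K : GrothendieckTopology D}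
  {O_D : Sheaf K CommRingCat.{u}} (f : ModSite.RMor O_C O_D) [PreservesFiniteLimits f.pull]
  [SiteCmp.HasRpushD f] (adj : SiteCmp.pullD f ⊣ SiteCmp.RpushD f)
  (P : ObjectProperty (ModSite.Mod O_C)) [WSerre.IsWeakSerre P]
  (Q : ObjectProperty (ModSite.Mod O_D)) [WSerre.IsWeakSerre Q]

include adj in
/-- `R^p f_*` on `P` from the derived equivalence on `Q`. -/
theorem Rpush_of_unit [HasInjectiveResolutions (ModSite.Mod O_C)]
    (h2c : ∀ F, P F → ∃ F', Q F' ∧ Nonempty (f.pull.obj F' ≅ F))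
    (h3 : ∀ F', Q F' → IsIso (adj.unit.app (SiteCmp.inD O_D F'))) (M : ModSite.Mod O_C) (hM : P M) (p : ℕ) :
    Q ((f.Rpush p).obj M) ∧ (0 < p → IsZero ((f.Rpush p).obj M)) := by
  obtain ⟨-, M', hM', ⟨e⟩⟩ := DerTrunc.isIso_counit_single adj P Q h2c h3 hM
  let i : (f.Rpush p).obj M ≅ (DerivedCategory.homologyFunctor (ModSite.Mod O_D) (p : ℤ)).obj
      ((DerivedCategory.singleFunctor (ModSite.Mod O_D) 0).obj M') :=
    (nonempty_homology_Rres_single f M p).some.symm ≪≫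
      (DerivedCategory.homologyFunctor _ _).mapIso (((rpushDIso f).app _).symm ≪≫ e)
  exact ⟨Q.prop_of_iso i.symm (DerTrunc.cohIn_single Q hM' 0 _), fun hp =>
    (DerivedCategory.isZero_of_isLE ((DerivedCategory.singleFunctor (ModSite.Mod O_D) 0).obj M') 0 p
      (by omega)).of_iso i⟩

/-- The equivalence on unbounded derived categories. -/
theorem equivalence_cohIn
    (h2a : ∀ F', Q F' → P (f.pull.obj F'))
    (h2b : ∀ F' G', Q F' → Q G' → Function.Bijective (fun φ : F' ⟶ G' => f.pull.map φ))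
    (h2c : ∀ F, P F → ∃ F', Q F' ∧ Nonempty (f.pull.obj F' ≅ F))
    (h3 : ∀ F', Q F' → IsIso (adj.unit.app (SiteCmp.inD O_D F')))
    (B : Set C)
    (hB : ∀ U : C, ∃ (ι : Type u) (Y : ι → C) (g : ∀ i, Y i ⟶ U),
      Sieve.ofArrows Y g ∈ J U ∧ ∀ i, Y i ∈ B)
    (hA : ∀ V ∈ B, ∃ d : ℕ, ∀ T ∈ J V, ∃ (ι : Type u) (Y : ι → C) (g : ∀ i, Y i ⟶ V),
      (∀ i, T.arrows (g i)) ∧ Sieve.ofArrows Y g ∈ J V ∧
      ∀ (i : ι) (F : ModSite.Mod O_C), P F → ∀ k : ℕ, d < k → Subsingleton (ModSite.HU O_C F k (Y i)))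
    (B' : Set D)
    (hB' : ∀ U : D, ∃ (ι : Type u) (Y : ι → D) (g : ∀ i, Y i ⟶ U),
      Sieve.ofArrows Y g ∈ K U ∧ ∀ i, Y i ∈ B')
    (hV : ∀ V ∈ B', ∃ d : ℤ, ∀ T ∈ K V, ∃ (ι : Type u) (Y : ι → D) (g : ∀ i, Y i ⟶ V),
      (∀ i, T.arrows (g i)) ∧ Sieve.ofArrows Y g ∈ K V ∧ ∀ i, VanD f P d (Y i)) :
    (∀ Y, WSerre.cohIn Q Y → WSerre.cohIn P ((SiteCmp.pullD f).obj Y) ∧ IsIso (adj.unit.app Y)) ∧
    (∀ X, WSerre.cohIn P X → WSerre.cohIn Q ((SiteCmp.RpushD f).obj X) ∧ IsIso (adj.counit.app X)) := by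
  have hplus := (DerTrunc.equivalence_cohInPlus adj P Q h2a h2c h3).2
  let τ := fun (X : DerivedCategory (ModSite.Mod O_C)) (n : ℕ) =>
    (DerivedCategory.TStructure.t.truncGE (-(n : ℤ))).obj X
  have hτ : ∀ X, WSerre.cohIn P X → ∀ n : ℕ,
      WSerre.cohIn Q ((SiteCmp.RpushD f).obj (τ X n)) ∧ IsIso (adj.counit.app (τ X n)) := by
    intro X hX n
    obtain ⟨⟨h, -⟩, h'⟩ := hplus (τ X n) ⟨DerTrunc.cohIn_truncGE P hX _, -(n : ℤ), isGE_truncTower X n⟩
    exact ⟨h, h'⟩
  -- the transition maps after pushing forward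
  have hconst : ∀ X, WSerre.cohIn P X → ∀ (j : ℤ) (m : ℕ), -(m : ℤ) ≤ j →
      IsIso ((DerivedCategory.homologyFunctor (ModSite.Mod O_D) j).map ((SiteCmp.RpushD f).map
        ((DerivedCategory.TStructure.t.natTransTruncGEOfLE (-((m + 1 : ℕ) : ℤ)) (-(m : ℤ))
          (by omega)).app X))) := by
    intro X hX j m hm
    set g := (DerivedCategory.TStructure.t.natTransTruncGEOfLE (-((m + 1 : ℕ) : ℤ)) (-(m : ℤ))
      (by omega)).app X
    have h1 := isIso_homology_truncMap X m j hm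
    refine isIso_of_isIso_map_of_bijective f.pull Q h2b ((hτ X hX (m + 1)).1 j) ((hτ X hX m).1 j) _ ?_
    rw [← DerTrunc.isIso_map_homology_iff f.pull]
    have := (hτ X hX m).2
    have := (hτ X hX (m + 1)).2
    have e := adj.counit.naturality g
    have e' : (SiteCmp.pullD f).map ((SiteCmp.RpushD f).map g) =
        adj.counit.app (τ X (m + 1)) ≫ g ≫ inv (adj.counit.app (τ X m)) := by
      rw [← Category.assoc, IsIso.eq_comp_inv]
      exact e
    rw [e', Functor.map_comp, Functor.map_comp]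
    have : IsIso ((DerivedCategory.homologyFunctor (ModSite.Mod O_C) j).map g) := h1
    exact IsIso.comp_isIso
  -- the comparison with a truncation
  have hcmp : ∀ X, WSerre.cohIn P X → ∀ (j : ℤ) (n : ℕ), -(n : ℤ) ≤ j →
      IsIso ((DerivedCategory.homologyFunctor (ModSite.Mod O_D) j).map ((SiteCmp.RpushD f).map
        ((DerivedCategory.TStructure.t.truncGEπ (-(n : ℤ))).app X))) := fun X hX j n hn =>
    (isIso_homology_RpushD_iff f _ j).2 (isIso_homology_Rres_truncπ f P X hX B hB hA B' hB' hV j n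
      fun m hm => (isIso_homology_RpushD_iff f _ j).1 (hconst X hX j m (by omega)))
  have hQ : ∀ X, WSerre.cohIn P X → WSerre.cohIn Q ((SiteCmp.RpushD f).obj X) := fun X hX j => by
    obtain ⟨n, hn⟩ : ∃ n : ℕ, -(n : ℤ) ≤ j := ⟨(-j).toNat, by omega⟩
    have := hcmp X hX j n hn
    exact Q.prop_of_iso (asIso ((DerivedCategory.homologyFunctor (ModSite.Mod O_D) j).map
      ((SiteCmp.RpushD f).map ((DerivedCategory.TStructure.t.truncGEπ (-(n : ℤ))).app X)))).symm
      ((hτ X hX n).1 j)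
  have hε : ∀ X, WSerre.cohIn P X → IsIso (adj.counit.app X) := by
    intro X hX
    rw [DerivedCategory.isIso_iff]
    intro j
    obtain ⟨n, hn⟩ : ∃ n : ℕ, -(n : ℤ) ≤ j := ⟨(-j).toNat, by omega⟩
    set π := (DerivedCategory.TStructure.t.truncGEπ (-(n : ℤ))).app X
    have h1 : IsIso ((DerivedCategory.homologyFunctor (ModSite.Mod O_C) j).map π) :=
      DerTrunc.isIso_homology_truncGEπ X _ j hn
    have h2 : IsIso ((DerivedCategory.homologyFunctor (ModSite.Mod O_C) j).map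
        ((SiteCmp.pullD f).map ((SiteCmp.RpushD f).map π))) :=
      (DerTrunc.isIso_map_homology_iff f.pull _ j).2 (by
        have := hcmp X hX j n hn
        exact Functor.map_isIso f.pull _)
    have := (hτ X hX n).2
    have e : (SiteCmp.pullD f).map ((SiteCmp.RpushD f).map π) ≫ adj.counit.app (τ X n) =
        adj.counit.app X ≫ π := adj.counit.naturality π
    have h3 : IsIso ((DerivedCategory.homologyFunctor (ModSite.Mod O_C) j).map
        (adj.counit.app X ≫ π)) := by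
      rw [← e, Functor.map_comp]; infer_instance
    rw [Functor.map_comp] at h3
    exact @IsIso.of_isIso_comp_right _ _ _ _ _ _ _ h1 h3
  refine ⟨fun Y hY => ?_, fun X hX => ⟨hQ X hX, hε X hX⟩⟩
  have hPY : WSerre.cohIn P ((SiteCmp.pullD f).obj Y) := DerTrunc.cohIn_mapDerivedCategory P Q h2a hY
  refine ⟨hPY, ?_⟩
  have := hε _ hPY
  have hu : IsIso ((SiteCmp.pullD f).map (adj.unit.app Y)) := by
    have : IsIso ((SiteCmp.pullD f).map (adj.unit.app Y) ≫ adj.counit.app ((SiteCmp.pullD f).obj Y)) := by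
      rw [show (SiteCmp.pullD f).map (adj.unit.app Y) ≫ adj.counit.app ((SiteCmp.pullD f).obj Y) = 𝟙 _
        from adj.left_triangle_components Y]
      exact IsIso.id _
    exact IsIso.of_isIso_comp_right _ (adj.counit.app ((SiteCmp.pullD f).obj Y))
  rw [DerivedCategory.isIso_iff]
  exact fun j => isIso_of_isIso_map_of_bijective f.pull Q h2b (hY j) (hQ _ hPY j) _
    ((DerTrunc.isIso_map_homology_iff f.pull _ j).1 inferInstance)

end GrothLib.SiteDer
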